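import Cfsg.Agent.Lib.Steinberg.MatRep

/-!
# Characters vanishing on the nontrivial unipotent elements, of smallest degree

Singular values of the Hecke operators on the `U`-fixed vectors are bounded below by those of the
sign representation, and an orthogonality relation shows that the bounds are attained.
-/

set_option autoImplicit false

open scoped Matrix

namespace Cfsg.Agent.UD

open MatRep

universe u

/-- the rank one data of a finite group with split `BN`-pair -/
structure Data (G : Type u) [Group G] (F : Type*) [Field F] (ι : Type*) where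
  U : Subgroup G
  T : Subgroup G
  U' : ι → Subgroup G
  x : ι → Multiplicative F →* G
  n : ι → G
  h : ι → Fˣ →* G
  x_mem : ∀ i t, x i t ∈ U
  U'_le : ∀ i, U' i ≤ U
  gen : ∀ i, U ≤ Subgroup.closure (Set.range (x i) ∪ (U' i : Set G))
  x_norm : ∀ i t, ∀ y ∈ U' i, x i t * y * (x i t)⁻¹ ∈ U' i
  n_norm : ∀ i, ∀ y ∈ U' i, n i * y * (n i)⁻¹ ∈ U' i
  n_x : ∀ i (a : Fˣ), ∃ u ∈ U, ∃ v ∈ U,
    n i * x i (Multiplicative.ofAdd (a : F)) * (n i)⁻¹ = u * (h i a⁻¹ * n i) * v
  h_mem : ∀ i w, h i w ∈ T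
  T_norm : ∀ t ∈ T, ∀ u ∈ U, t * u * t⁻¹ ∈ U
  T_gen : T ≤ Subgroup.closure (⋃ i, Set.range (h i))
  n_h : ∀ i w, n i * h i w = h i w⁻¹ * n i
  n_sq : ∀ i, n i * n i = h i (-1)

variable {G : Type u} [Group G] {F : Type*} [Field F] {ι : Type*}

/-- products of fundamental reflections of increasing length -/
inductive Red (D : Data G F ι) : G → ℕ → Prop
  | base {t : G} : t ∈ D.T → Red D t 0
  | step {g : G} {k : ℕ} {i : ι} : Red D g k → (∀ t, g * D.x i t * g⁻¹ ∈ D.U) → Red D (g * D.n i) (k + 1)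

variable [Fintype G] [Fintype F] {d : Type*} [Fintype d] [DecidableEq d]
  (D : Data G F ι) (V : URep G d)

/-- the projection on the `U`-fixed vectors -/
noncomputable def E : Matrix d d ℂ := by
  classical exact V.av D.U.subtype

/-- the Hecke operator of an element -/
noncomputable def A (g : G) : Matrix d d ℂ := E D V * V.M g * E D V

/-- the average over the torus of a fundamental root -/
noncomputable def Pi' (i : ι) : Matrix d d ℂ := by
  classical exact V.av (D.h i)

theorem E_herm : (E D V)ᴴ = E D V := by classical exact V.av_herm _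
theorem E_idem : E D V * E D V = E D V := by classical exact V.av_idem _
theorem mul_E {u : G} (hu : u ∈ D.U) : V.M u * E D V = E D V := by
  classical exact V.mul_av D.U.subtype ⟨u, hu⟩
theorem E_mul {u : G} (hu : u ∈ D.U) : E D V * V.M u = E D V := by
  classical exact V.av_mul D.U.subtype ⟨u, hu⟩

theorem T_comm {t : G} (ht : t ∈ D.T) : V.M t * E D V = E D V * V.M t := by
  classical exact V.av_comm_subgroup D.U t (D.T_norm t ht)

theorem A_mul_E (g : G) : A D V g * E D V = A D V g := by rw [A, mul_assoc, E_idem]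
theorem E_mul_A (g : G) : E D V * A D V g = A D V g := by
  rw [A, ← mul_assoc, ← mul_assoc, E_idem]

theorem A_herm (g : G) : (A D V g)ᴴ = A D V g⁻¹ := by
  rw [A, A, Matrix.conjTranspose_mul, Matrix.conjTranspose_mul, E_herm, V.herm, mul_assoc]

theorem A_one : A D V 1 = E D V := by rw [A, map_one, mul_one, E_idem]

theorem A_U_left {u : G} (hu : u ∈ D.U) (g : G) : A D V (u * g) = A D V g := by
  rw [A, map_mul, ← mul_assoc, E_mul D V hu, A]

theorem A_U_right {u : G} (hu : u ∈ D.U) (g : G) : A D V (g * u) = A D V g := by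
  rw [A, map_mul, mul_assoc (E D V), mul_assoc (V.M g), mul_E D V hu, ← mul_assoc, A]

theorem A_T_left {t : G} (ht : t ∈ D.T) (g : G) : A D V (t * g) = V.M t * A D V g := by
  rw [A, map_mul, ← mul_assoc, ← T_comm D V ht, A]; simp only [mul_assoc]

theorem A_T_right {t : G} (ht : t ∈ D.T) (g : G) : A D V (g * t) = A D V g * V.M t := by
  rw [A, map_mul, mul_assoc (E D V), mul_assoc (V.M g), T_comm D V ht, A]; simp only [mul_assoc]

section simple

variable (i : ι)

theorem E_split : ∃ Q : Matrix d d ℂ, ∃ E' : Matrix d d ℂ,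
    (Q = (Fintype.card F : ℂ)⁻¹ • ∑ t : F, V.M (D.x i (Multiplicative.ofAdd t))) ∧
    E D V = Q * E' ∧ V.M (D.n i) * E' = E' * V.M (D.n i) ∧ E' * E D V = E D V := by
  classical
  let Q := V.av (D.x i)
  let E' := V.av (D.U' i).subtype
  have hQ : Q = (Fintype.card F : ℂ)⁻¹ • ∑ t : F, V.M (D.x i (Multiplicative.ofAdd t)) := by
    show (Fintype.card (Multiplicative F) : ℂ)⁻¹ • _ = _
    rw [Fintype.card_multiplicative]
    congr 1
    exact Fintype.sum_equiv Multiplicative.toAdd _ _ fun t => rfl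
  have h3 : E' * E D V = E D V := V.av_fix _ fun k => mul_E D V (D.U'_le i k.2)
  have hx : ∀ t, V.M (D.x i t) * E' = E' * V.M (D.x i t) := fun t =>
    V.av_comm_subgroup (D.U' i) _ (D.x_norm i t)
  have hQE : ∀ y ∈ D.U' i, V.M y * Q * E' = Q * E' := by
    intro y hy
    have hcomm : Q * E' = E' * Q := by
      simp only [Q, URep.av, Matrix.smul_mul, Matrix.mul_smul, Finset.sum_mul, Finset.mul_sum, hx]
    rw [mul_assoc, hcomm, ← mul_assoc]
    congr 1
    exact V.mul_av (D.U' i).subtype ⟨y, hy⟩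
  have hfix : ∀ u ∈ D.U, V.M u * (Q * E') = Q * E' := by
    let S : Subgroup G :=
      { carrier := {u | V.M u * (Q * E') = Q * E'}
        one_mem' := by simp
        mul_mem' := fun {a b} ha hb => by
          simp only [Set.mem_setOf_eq] at ha hb ⊢
          rw [map_mul, mul_assoc (V.M a), hb, ha]
        inv_mem' := fun {a} ha => by
          simp only [Set.mem_setOf_eq] at ha ⊢
          conv_lhs => rw [← ha]
          rw [← mul_assoc, URep.inv_mul, one_mul] }
    have hS : D.U ≤ S := by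
      refine (D.gen i).trans ((Subgroup.closure_le _).2 ?_)
      rintro u (⟨t, rfl⟩ | hu)
      · show _ = _
        rw [← mul_assoc, V.mul_av (D.x i) t]
      · show _ = _
        rw [← mul_assoc, hQE u hu]
    exact fun u hu => hS hu
  have h1 : E D V = Q * E' := by
    have a : E D V * (Q * E') = Q * E' := V.av_fix _ fun k => hfix k k.2
    have b : E D V * Q = E D V := by
      simp only [Q, URep.av, Matrix.mul_smul, Finset.mul_sum, E_mul D V (D.x_mem i _),
        Finset.sum_const, Finset.card_univ]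
      rw [← Nat.cast_smul_eq_nsmul ℂ, smul_smul, inv_mul_cancel₀ (Nat.cast_ne_zero.2 Fintype.card_ne_zero),
        one_smul]
    have c : E D V * E' = E D V := by
      have := congrArg Matrix.conjTranspose h3
      rwa [Matrix.conjTranspose_mul, E_herm, V.av_herm] at this
    rw [← a, ← mul_assoc, b, c]
  exact ⟨Q, E', hQ, h1, V.av_comm_subgroup (D.U' i) _ (D.n_norm i), h3⟩

theorem Pi_comm_E : Pi' D V i * E D V = E D V * Pi' D V i := by
  classical
  simp only [Pi', URep.av, Matrix.smul_mul, Matrix.mul_smul, Finset.sum_mul, Finset.mul_sum,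
    T_comm D V (D.h_mem i _)]

theorem Pi_comm_n : Pi' D V i * V.M (D.n i) = V.M (D.n i) * Pi' D V i := by
  classical
  exact (V.av_comm (D.h i) (D.n i) (fun w => w⁻¹) inv_involutive.bijective (D.n_h i)).symm

theorem Pi_herm : (Pi' D V i)ᴴ = Pi' D V i := by classical exact V.av_herm _
theorem Pi_idem : Pi' D V i * Pi' D V i = Pi' D V i := by classical exact V.av_idem _

theorem Pi_comm_A : Pi' D V i * A D V (D.n i) = A D V (D.n i) * Pi' D V i := by
  simp only [A]
  rw [← mul_assoc, ← mul_assoc, Pi_comm_E, mul_assoc (E D V), Pi_comm_n, ← mul_assoc,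
    mul_assoc (E D V * _), Pi_comm_E, ← mul_assoc]

/-- the quadratic relation -/
theorem A_sq : A D V (D.n i) * (A D V (D.n i))ᴴ = (Fintype.card F : ℂ)⁻¹ • E D V +
    (1 - (Fintype.card F : ℂ)⁻¹) • (Pi' D V i * A D V (D.n i)) := by
  classical
  obtain ⟨Q, E', hQ, hE, hn, hE'⟩ := E_split D V i
  have h1 : E' * V.M (D.n i)⁻¹ = V.M (D.n i)⁻¹ * E' := by
    calc E' * V.M (D.n i)⁻¹ = V.M (D.n i)⁻¹ * (V.M (D.n i) * E') * V.M (D.n i)⁻¹ := by
          rw [← mul_assoc (V.M (D.n i)⁻¹), URep.inv_mul, one_mul]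
      _ = V.M (D.n i)⁻¹ * (E' * V.M (D.n i)) * V.M (D.n i)⁻¹ := by rw [hn]
      _ = V.M (D.n i)⁻¹ * E' := by rw [mul_assoc, mul_assoc E', URep.mul_inv, mul_one]
  have e1 : A D V (D.n i) * (A D V (D.n i))ᴴ =
      E D V * V.M (D.n i) * (Q * V.M (D.n i)⁻¹) * E D V := by
    rw [A_herm, A, A,
      show E D V * V.M (D.n i) * E D V * (E D V * V.M (D.n i)⁻¹ * E D V) =
        E D V * V.M (D.n i) * ((E D V * E D V) * V.M (D.n i)⁻¹) * E D V by simp only [mul_assoc],
      E_idem]
    conv_lhs => arg 1; arg 2; rw [hE, mul_assoc, h1]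
    rw [show E D V * V.M (D.n i) * (Q * (V.M (D.n i)⁻¹ * E')) * E D V =
      E D V * V.M (D.n i) * (Q * V.M (D.n i)⁻¹) * (E' * E D V) by simp only [mul_assoc], hE']
  have e2 : ∀ a : Fˣ, E D V * V.M (D.n i) * (V.M (D.x i (Multiplicative.ofAdd (a : F))) * V.M (D.n i)⁻¹) *
      E D V = V.M (D.h i a⁻¹) * A D V (D.n i) := by
    intro a
    obtain ⟨u, hu, v, hv, e⟩ := D.n_x i a
    rw [← A_T_left D V (D.h_mem i a⁻¹), ← A_U_right D V hv, ← A_U_left D V hu,
      show u * (D.h i a⁻¹ * D.n i * v) = u * (D.h i a⁻¹ * D.n i) * v by simp only [mul_assoc], ← e, A,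
      map_mul, map_mul]
    simp only [mul_assoc]
  have hsum : ∑ t : F, E D V * V.M (D.n i) * (V.M (D.x i (Multiplicative.ofAdd t)) * V.M (D.n i)⁻¹) *
      E D V = E D V + (Fintype.card Fˣ : ℂ) • (Pi' D V i * A D V (D.n i)) := by
    rw [← Finset.add_sum_erase _ _ (Finset.mem_univ (0 : F)),
      show (Finset.univ.erase (0 : F)) = (Finset.univ : Finset Fˣ).map (⟨Units.val, Units.val_injective⟩ : Fˣ ↪ F) by
        ext t
        simp only [Finset.mem_erase, Finset.mem_univ, and_true, Finset.mem_map, Function.Embedding.coeFn_mk,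
          true_and]
        exact ⟨fun h => ⟨Units.mk0 t h, rfl⟩, fun ⟨a, ha⟩ => ha ▸ a.ne_zero⟩,
      Finset.sum_map]
    congr 1
    · rw [ofAdd_zero, map_one, map_one, one_mul, mul_assoc (E D V), URep.mul_inv, mul_one, E_idem]
    · simp only [Function.Embedding.coeFn_mk, e2, Pi', URep.av, Matrix.smul_mul, smul_smul,
        Finset.sum_mul]
      rw [mul_inv_cancel₀ (Nat.cast_ne_zero.2 Fintype.card_ne_zero), one_smul]
      exact Fintype.sum_equiv (Equiv.inv Fˣ) _ _ fun a => rfl
  rw [e1, hQ]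
  simp only [Matrix.smul_mul, Matrix.mul_smul, Finset.sum_mul, Finset.mul_sum, hsum, smul_add,
    smul_smul]
  congr 2
  rw [Fintype.card_units, Nat.cast_sub Fintype.card_pos, Nat.cast_one]
  have : (Fintype.card F : ℂ) ≠ 0 := Nat.cast_ne_zero.2 Fintype.card_ne_zero
  field_simp

/-- `Π E` -/
noncomputable def P : Matrix d d ℂ := Pi' D V i * E D V

/-- the projection on the trivial eigenspace -/
noncomputable def R : Matrix d d ℂ :=
  (1 + (Fintype.card F : ℂ)⁻¹)⁻¹ •
    (Pi' D V i * A D V (D.n i) + (Fintype.card F : ℂ)⁻¹ • P D V i)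

theorem P_herm : (P D V i)ᴴ = P D V i := by
  rw [P, Matrix.conjTranspose_mul, E_herm, Pi_herm, Pi_comm_E]

theorem P_idem : P D V i * P D V i = P D V i := by
  rw [P, show Pi' D V i * E D V * (Pi' D V i * E D V) = Pi' D V i * (E D V * Pi' D V i) * E D V by
    simp only [mul_assoc], ← Pi_comm_E, ← mul_assoc, Pi_idem, mul_assoc, E_idem]

theorem P_mul_E : P D V i * E D V = P D V i := by rw [P, mul_assoc, E_idem]
theorem E_mul_P : E D V * P D V i = P D V i := by rw [P, Pi_comm_E, ← mul_assoc, E_idem]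

theorem X_herm : (Pi' D V i * A D V (D.n i))ᴴ = Pi' D V i * A D V (D.n i) := by
  have hinv : (D.n i)⁻¹ = D.n i * D.h i (-1) := by
    refine inv_eq_of_mul_eq_one_right ?_
    rw [← mul_assoc, D.n_sq, ← map_mul, neg_mul_neg, one_mul, map_one]
  rw [Matrix.conjTranspose_mul, Pi_herm, A_herm, hinv, A_T_right D V (D.h_mem i _), mul_assoc]
  classical
  rw [Pi', V.mul_av (D.h i) (-1)]
  exact (Pi_comm_A D V i).symm

theorem X_P : Pi' D V i * A D V (D.n i) * P D V i = Pi' D V i * A D V (D.n i) := by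
  rw [P, ← mul_assoc, mul_assoc (Pi' D V i), ← Pi_comm_A, ← mul_assoc, Pi_idem, mul_assoc, A_mul_E]

theorem P_X : P D V i * (Pi' D V i * A D V (D.n i)) = Pi' D V i * A D V (D.n i) := by
  rw [P, show Pi' D V i * E D V * (Pi' D V i * A D V (D.n i)) =
    Pi' D V i * (E D V * Pi' D V i) * A D V (D.n i) by simp only [mul_assoc], ← Pi_comm_E, ← mul_assoc,
    Pi_idem, mul_assoc, E_mul_A]

theorem X_sq : Pi' D V i * A D V (D.n i) * (Pi' D V i * A D V (D.n i)) =
    (Fintype.card F : ℂ)⁻¹ • P D V i + (1 - (Fintype.card F : ℂ)⁻¹) • (Pi' D V i * A D V (D.n i)) := by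
  nth_rw 2 [← X_herm]
  rw [Matrix.conjTranspose_mul, Pi_herm,
    show Pi' D V i * A D V (D.n i) * ((A D V (D.n i))ᴴ * Pi' D V i) =
      Pi' D V i * (A D V (D.n i) * (A D V (D.n i))ᴴ) * Pi' D V i by simp only [mul_assoc], A_sq]
  simp only [Matrix.mul_add, Matrix.add_mul, Matrix.mul_smul, Matrix.smul_mul]
  congr 2
  · rw [mul_assoc, ← Pi_comm_E, ← mul_assoc, Pi_idem, P]
  · rw [← mul_assoc, Pi_idem, mul_assoc, ← Pi_comm_A, ← mul_assoc, Pi_idem]

theorem card_pos' : (0 : ℝ) < (Fintype.card F : ℝ)⁻¹ ∧ (Fintype.card F : ℝ)⁻¹ < 1 :=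
  ⟨inv_pos.2 (Nat.cast_pos.2 Fintype.card_pos),
    inv_lt_one_of_one_lt₀ (Nat.one_lt_cast.2 Fintype.one_lt_card)⟩

theorem R_herm : (R D V i)ᴴ = R D V i := by
  rw [R, Matrix.conjTranspose_smul, Matrix.conjTranspose_add, Matrix.conjTranspose_smul, X_herm, P_herm]
  simp

theorem one_add_inv_ne : (1 + (Fintype.card F : ℂ)⁻¹) ≠ 0 := by
  have h := (card_pos' (F := F)).1
  have : (1 + (Fintype.card F : ℂ)⁻¹) = (((1 : ℝ) + (Fintype.card F : ℝ)⁻¹ : ℝ) : ℂ) := by push_cast; ring
  rw [this, Complex.ofReal_ne_zero]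
  linarith

theorem R_idem : R D V i * R D V i = R D V i := by
  have hc := one_add_inv_ne (F := F)
  simp only [R, Matrix.mul_add, Matrix.add_mul, Matrix.mul_smul, Matrix.smul_mul, X_sq, X_P, P_X,
    P_idem, smul_add, smul_smul]
  match_scalars
  all_goals field_simp
  all_goals ring

theorem R_mul_E : R D V i * E D V = R D V i := by
  rw [R, Matrix.smul_mul, Matrix.add_mul, Matrix.smul_mul, P_mul_E, mul_assoc, A_mul_E]

theorem E_mul_R : E D V * R D V i = R D V i := by
  rw [R, Matrix.mul_smul, Matrix.mul_add, Matrix.mul_smul, E_mul_P, ← mul_assoc, ← Pi_comm_E,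
    mul_assoc, E_mul_A]

/-- the norm of a product with a simple Hecke operator -/
theorem nrm_step (Y : Matrix d d ℂ) :
    nrm (Y * A D V (D.n i)) = ((Fintype.card F : ℝ)⁻¹) ^ 2 * nrm (Y * E D V) +
      ((Fintype.card F : ℝ)⁻¹ - ((Fintype.card F : ℝ)⁻¹) ^ 2) * nrm (Y * (E D V - P D V i)) +
      (1 - ((Fintype.card F : ℝ)⁻¹) ^ 2) * nrm (Y * R D V i) := by
  have hEP : (E D V - P D V i)ᴴ = E D V - P D V i := by
    rw [Matrix.conjTranspose_sub, E_herm, P_herm]
  have hEP2 : (E D V - P D V i) * (E D V - P D V i) = E D V - P D V i := by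
    rw [sub_mul, mul_sub, mul_sub, E_idem, E_mul_P, P_mul_E, P_idem]; abel
  have hp : ∀ Q : Matrix d d ℂ, Qᴴ = Q → Q * Q = Q →
      ((nrm (Y * Q) : ℝ) : ℂ) = (Y * Q * Yᴴ).trace := fun Q h1 h2 => by
    rw [← trace_self_mul, Matrix.conjTranspose_mul, h1,
      show Y * Q * (Q * Yᴴ) = Y * (Q * Q) * Yᴴ by simp only [mul_assoc], h2]
  have hdec : A D V (D.n i) * (A D V (D.n i))ᴴ =
      ((Fintype.card F : ℂ)⁻¹) ^ 2 • E D V +
      ((Fintype.card F : ℂ)⁻¹ - ((Fintype.card F : ℂ)⁻¹) ^ 2) • (E D V - P D V i) +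
      (1 - ((Fintype.card F : ℂ)⁻¹) ^ 2) • R D V i := by
    have hc := one_add_inv_ne (F := F)
    rw [A_sq, R, smul_smul, show (1 - ((Fintype.card F : ℂ)⁻¹) ^ 2) * (1 + (Fintype.card F : ℂ)⁻¹)⁻¹ =
      1 - (Fintype.card F : ℂ)⁻¹ by field_simp; ring]
    module
  apply Complex.ofReal_injective
  push_cast
  rw [← trace_self_mul (Y * A D V (D.n i)), Matrix.conjTranspose_mul,
    show Y * A D V (D.n i) * ((A D V (D.n i))ᴴ * Yᴴ) = Y * (A D V (D.n i) * (A D V (D.n i))ᴴ) * Yᴴ by
      simp only [mul_assoc], hdec, hp _ (E_herm D V) (E_idem D V), hp _ hEP hEP2,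
    hp _ (R_herm D V i) (R_idem D V i)]
  simp only [Matrix.mul_add, Matrix.add_mul, Matrix.mul_smul, Matrix.smul_mul, Matrix.trace_add,
    Matrix.trace_smul, smul_eq_mul]

theorem A_step {g : G} (hg : ∀ t, g * D.x i t * g⁻¹ ∈ D.U) :
    A D V (g * D.n i) = A D V g * A D V (D.n i) := by
  classical
  obtain ⟨Q, E', hQ, hE, hn, hE'⟩ := E_split D V i
  have hEgQ : E D V * V.M g * Q = E D V * V.M g := by
    rw [hQ, Matrix.mul_smul, Finset.mul_sum]
    have : ∀ t : F, E D V * V.M g * V.M (D.x i (Multiplicative.ofAdd t)) = E D V * V.M g := fun t => by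
      rw [mul_assoc, ← map_mul, show g * D.x i (Multiplicative.ofAdd t) =
        (g * D.x i (Multiplicative.ofAdd t) * g⁻¹) * g by group, map_mul, ← mul_assoc, E_mul D V (hg _)]
    rw [Finset.sum_congr rfl fun t _ => this t, Finset.sum_const, Finset.card_univ,
      ← Nat.cast_smul_eq_nsmul ℂ, smul_smul, inv_mul_cancel₀ (Nat.cast_ne_zero.2 Fintype.card_ne_zero),
      one_smul]
  symm
  calc A D V g * A D V (D.n i)
      = E D V * V.M g * (E D V * E D V) * V.M (D.n i) * E D V := by simp only [A, mul_assoc]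
    _ = E D V * V.M g * Q * (E' * V.M (D.n i)) * E D V := by rw [E_idem, hE]; simp only [mul_assoc]
    _ = E D V * V.M g * V.M (D.n i) * (E' * E D V) := by rw [hEgQ, ← hn]; simp only [mul_assoc]
    _ = A D V (g * D.n i) := by rw [hE', A, map_mul]; simp only [mul_assoc]

end simple

theorem A_lower {g : G} {k : ℕ} (hg : Red D g k) :
    ((Fintype.card F : ℝ)⁻¹) ^ (2 * k) * nrm (E D V) ≤ nrm (A D V g) := by
  induction hg with
  | @base t ht =>
    rw [mul_zero, pow_zero, one_mul, ← mul_one t, A_T_left D V ht, A_one, URep.nrm_left]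
  | @step g k i hg hx ih =>
    rw [A_step D V i hx, nrm_step, A_mul_E]
    have hc := card_pos' (F := F)
    have h1 : 0 ≤ ((Fintype.card F : ℝ)⁻¹ - ((Fintype.card F : ℝ)⁻¹) ^ 2) *
        nrm (A D V g * (E D V - P D V i)) :=
      mul_nonneg (by nlinarith) (nrm_nonneg _)
    have h2 : 0 ≤ (1 - ((Fintype.card F : ℝ)⁻¹) ^ 2) * nrm (A D V g * R D V i) :=
      mul_nonneg (by nlinarith) (nrm_nonneg _)
    rw [show 2 * (k + 1) = 2 + 2 * k by ring, pow_add, mul_assoc]
    have := mul_le_mul_of_nonneg_left ih (sq_nonneg ((Fintype.card F : ℝ)⁻¹))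
    linarith

/-- all torus elements fix the `U`-fixed vectors and all simple operators are `-1/q` -/
def Sign : Prop :=
  (∀ t ∈ D.T, V.M t * E D V = E D V) ∧
    ∀ i, A D V (D.n i) = -((Fintype.card F : ℂ)⁻¹) • E D V

theorem A_sign (hs : Sign D V) {g : G} {k : ℕ} (hg : Red D g k) :
    A D V g = (-((Fintype.card F : ℂ)⁻¹)) ^ k • E D V := by
  induction hg with
  | @base t ht => rw [← mul_one t, A_T_left D V ht, A_one, hs.1 t ht, pow_zero, one_smul]
  | @step g k i hg hx ih =>
    rw [A_step D V i hx, ih, hs.2 i, Matrix.smul_mul, Matrix.mul_smul, E_idem, smul_smul, pow_succ]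

theorem A_sandwich_left (hs : Sign D V) {a : G} (ha : a ∈ D.U ⊔ D.T) :
    V.M a * E D V = E D V ∧ E D V * V.M a = E D V := by
  let S : Subgroup G :=
    { carrier := {a | V.M a * E D V = E D V}
      one_mem' := by simp
      mul_mem' := fun {a b} ha hb => by
        simp only [Set.mem_setOf_eq] at ha hb ⊢
        rw [map_mul, mul_assoc, hb, ha]
      inv_mem' := fun {a} ha => by
        simp only [Set.mem_setOf_eq] at ha ⊢
        conv_lhs => rw [← ha]
        rw [← mul_assoc, URep.inv_mul, one_mul] }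
  have hle : D.U ⊔ D.T ≤ S := sup_le (fun u hu => mul_E D V hu) (fun t ht => hs.1 t ht)
  refine ⟨hle ha, ?_⟩
  have h : V.M a⁻¹ * E D V = E D V := hle (inv_mem ha)
  have := congrArg Matrix.conjTranspose h
  rwa [Matrix.conjTranspose_mul, E_herm, V.herm, inv_inv] at this

/-- decomposition into reduced products -/
def Decomp : Prop :=
  ∀ g : G, ∃ a ∈ D.U ⊔ D.T, ∃ m, ∃ b ∈ D.U ⊔ D.T, ∃ k, Red D m k ∧ g = a * m * b

theorem A_eq_sign (hs : Sign D V) {a m b : G} {k : ℕ} (ha : a ∈ D.U ⊔ D.T) (hb : b ∈ D.U ⊔ D.T)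
    (hm : Red D m k) : A D V (a * m * b) = (-((Fintype.card F : ℂ)⁻¹)) ^ k • E D V := by
  rw [← A_sign D V hs hm, A, A, map_mul, map_mul,
    show E D V * (V.M a * V.M m * V.M b) * E D V = (E D V * V.M a) * V.M m * (V.M b * E D V) by
      simp only [mul_assoc], (A_sandwich_left D V hs ha).2, (A_sandwich_left D V hs hb).1]

theorem nrm_sandwich {a b : G} (ha : a ∈ D.U ⊔ D.T) (hb : b ∈ D.U ⊔ D.T) (g : G) :
    nrm (A D V (a * g * b)) = nrm (A D V g) := by
  let S : Subgroup G :=
    { carrier := {a | ∀ g, nrm (A D V (a * g)) = nrm (A D V g) ∧ nrm (A D V (g * a)) = nrm (A D V g)}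
      one_mem' := fun g => by simp
      mul_mem' := fun {a b} ha hb g => by
        exact ⟨by rw [mul_assoc, (ha _).1, (hb g).1], by rw [← mul_assoc, (hb _).2, (ha g).2]⟩
      inv_mem' := fun {a} ha g => by
        refine ⟨?_, ?_⟩
        · rw [← (ha (a⁻¹ * g)).1, mul_inv_cancel_left]
        · rw [← (ha (g * a⁻¹)).2, inv_mul_cancel_right] }
  have hle : D.U ⊔ D.T ≤ S := sup_le
    (fun u hu g => ⟨by rw [A_U_left D V hu], by rw [A_U_right D V hu]⟩)
    (fun t ht g => ⟨by rw [A_T_left D V ht, URep.nrm_left], by rw [A_T_right D V ht, URep.nrm_right]⟩)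
  rw [(hle hb _).2, (hle ha _).1]

theorem center_eq {m : ℝ} (hm : m ≠ 0) (hE : (E D V).trace = (m : ℂ))
    (hd : (Fintype.card d : ℂ) = m * (Nat.card D.U : ℂ)) :
    ∑ g : G, V.M g * E D V * V.M g⁻¹ = ((Nat.card G : ℂ) / (Nat.card D.U : ℂ)) • 1 := by
  obtain ⟨z, hz⟩ := V.schur (∑ g : G, V.M g * E D V * V.M g⁻¹) fun h => by
    rw [Finset.mul_sum, Finset.sum_mul]
    refine Fintype.sum_equiv (Equiv.mulLeft h) _ _ fun g => ?_
    rw [Equiv.coe_mulLeft, mul_inv_rev, map_mul, map_mul]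
    simp only [mul_assoc]
    rw [URep.inv_mul, mul_one]
  have hm' : (m : ℂ) ≠ 0 := Complex.ofReal_ne_zero.2 hm
  have hU : (Nat.card D.U : ℂ) ≠ 0 := Nat.cast_ne_zero.2 Nat.card_pos.ne'
  have h := congrArg Matrix.trace hz
  rw [Matrix.trace_sum, Matrix.trace_smul, Matrix.trace_one, smul_eq_mul, hd,
    Finset.sum_congr rfl fun g _ => by rw [Matrix.trace_mul_cycle, URep.inv_mul, one_mul, hE],
    Finset.sum_const, Finset.card_univ, ← Nat.card_eq_fintype_card, nsmul_eq_mul] at h
  rw [hz]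
  congr 1
  rw [eq_div_iff hU]
  apply mul_left_cancel₀ hm'
  linear_combination -h

theorem sum_nrm {m : ℝ} (hm : m ≠ 0) (hE : (E D V).trace = (m : ℂ))
    (hd : (Fintype.card d : ℂ) = m * (Nat.card D.U : ℂ)) :
    ∑ g : G, nrm (A D V g) = (Nat.card G : ℝ) / (Nat.card D.U : ℝ) * m := by
  apply Complex.ofReal_injective
  push_cast
  have : ∀ g : G, ((nrm (A D V g) : ℝ) : ℂ) = (E D V * (V.M g * E D V * V.M g⁻¹)).trace := fun g => by
    rw [← trace_self_mul, A_herm, A, A,
      show E D V * V.M g * E D V * (E D V * V.M g⁻¹ * E D V) =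
        E D V * V.M g * ((E D V * E D V) * V.M g⁻¹) * E D V by simp only [mul_assoc], E_idem,
      Matrix.trace_mul_comm]
    simp only [← mul_assoc, E_idem]
  rw [Finset.sum_congr rfl fun g _ => this g, ← Matrix.trace_sum, ← Finset.mul_sum,
    center_eq D V hm hE hd, Matrix.mul_smul, mul_one, Matrix.trace_smul, hE, smul_eq_mul]

theorem trace_conj_sum {m : ℝ} (hm : m ≠ 0) (hE : (E D V).trace = (m : ℂ))
    (hd : (Fintype.card d : ℂ) = m * (Nat.card D.U : ℂ)) (x : G) :
    ∑ g : G, (A D V (g⁻¹ * x * g)).trace =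
      (Nat.card G : ℂ) / (Nat.card D.U : ℂ) * (V.M x).trace := by
  have : ∀ g : G, (A D V (g⁻¹ * x * g)).trace = (V.M x * (V.M g * E D V * V.M g⁻¹)).trace := fun g => by
    rw [A, Matrix.trace_mul_comm, ← mul_assoc, E_idem, map_mul, map_mul]
    rw [Matrix.trace_mul_comm, show V.M g⁻¹ * V.M x * V.M g * E D V =
      V.M g⁻¹ * (V.M x * V.M g * E D V) by simp only [mul_assoc], Matrix.trace_mul_comm]
    simp only [mul_assoc]
  rw [Finset.sum_congr rfl fun g _ => this g, ← Matrix.trace_sum, ← Finset.mul_sum,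
    center_eq D V hm hE hd, Matrix.mul_smul, mul_one, Matrix.trace_smul, smul_eq_mul]

/-- the conditions making `V` the Steinberg representation -/
theorem sign_of_parabolic (hE : (E D V).trace = 1)
    (hB : ∀ i, ∀ B : Subgroup G, B = D.U ⊔ D.T ⊔ Subgroup.zpowers (D.n i) →
      ∃ PJ : Subgroup G, PJ ≤ B ∧ ∀ [Fintype PJ], ∑ p : PJ, (V.M (p : G)).trace = 0)
    (hT : ∃ B0 : Subgroup G, D.T ≤ B0 ∧ D.U ≤ B0 ∧
      ∀ [Fintype B0], ∑ p : B0, (V.M (p : G)).trace = (Nat.card B0 : ℂ)) :
    Sign D V := by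
  classical
  have hfixT : ∀ t ∈ D.T, V.M t * E D V = E D V := by
    obtain ⟨B0, hTB, hUB, hsum⟩ := hT
    set EB := V.av B0.subtype with hEB
    have h1 : EB.trace = 1 := by
      rw [hEB, URep.trace_av]
      simp only [Subgroup.coe_subtype]
      rw [hsum, ← Nat.card_eq_fintype_card, inv_mul_cancel₀ (Nat.cast_ne_zero.2 Nat.card_pos.ne')]
    have h2 : E D V * EB = EB := V.av_fix _ fun k => V.mul_av B0.subtype ⟨k, hUB k.2⟩
    have h3 : EB * E D V = EB := by
      have := congrArg Matrix.conjTranspose h2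
      rwa [Matrix.conjTranspose_mul, E_herm, V.av_herm] at this
    have hh : (E D V - EB)ᴴ = E D V - EB := by
      rw [Matrix.conjTranspose_sub, E_herm, V.av_herm]
    have hi : (E D V - EB) * (E D V - EB) = E D V - EB := by
      rw [sub_mul, mul_sub, mul_sub, E_idem, h2, h3, V.av_idem]; abel
    have hz : E D V - EB = 0 := nrm_eq_zero (Complex.ofReal_injective (by
      rw [nrm_proj hh hi, Matrix.trace_sub, hE, h1, sub_self, Complex.ofReal_zero]))
    rw [sub_eq_zero] at hz
    exact fun t ht => hz ▸ V.mul_av B0.subtype ⟨t, hTB ht⟩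
  refine ⟨hfixT, fun i => ?_⟩
  have hPiE : Pi' D V i * E D V = E D V := V.av_fix _ fun w => hfixT _ (D.h_mem i w)
  have hP : P D V i = E D V := hPiE
  have hX : Pi' D V i * A D V (D.n i) = A D V (D.n i) := by
    rw [← E_mul_A, ← mul_assoc, hPiE]
  have hc := one_add_inv_ne (F := F)
  have hAR : A D V (D.n i) * R D V i = R D V i := by
    have hsq := X_sq D V i
    rw [hX, hP] at hsq
    rw [R, hX, hP, Matrix.mul_smul, Matrix.mul_add, Matrix.mul_smul, A_mul_E, hsq]
    congr 1
    module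
  have hRnR : R D V i * V.M (D.n i) * R D V i = R D V i := by
    calc R D V i * V.M (D.n i) * R D V i
        = R D V i * E D V * V.M (D.n i) * (E D V * R D V i) := by rw [R_mul_E, E_mul_R]
      _ = R D V i * (A D V (D.n i) * R D V i) := by simp only [A, mul_assoc]
      _ = R D V i := by rw [hAR, R_idem]
  have hRnR' : R D V i * V.M (D.n i)⁻¹ * R D V i = R D V i := by
    have := congrArg Matrix.conjTranspose hRnR
    rwa [Matrix.conjTranspose_mul, Matrix.conjTranspose_mul, R_herm, V.herm, ← mul_assoc] at this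
  have hnR : V.M (D.n i) * R D V i = R D V i := by
    rw [← sub_eq_zero]
    refine nrm_eq_zero ?_
    rw [nrm, Matrix.conjTranspose_sub, Matrix.conjTranspose_mul, R_herm, V.herm, sub_mul, mul_sub,
      mul_sub, Matrix.trace_sub, Matrix.trace_sub, Matrix.trace_sub, R_idem,
      show V.M (D.n i) * R D V i * (R D V i * V.M (D.n i)⁻¹) =
        V.M (D.n i) * (R D V i * R D V i) * V.M (D.n i)⁻¹ by simp only [mul_assoc], R_idem,
      Matrix.trace_mul_cycle, URep.inv_mul, one_mul,
      show (V.M (D.n i) * R D V i * R D V i).trace = (R D V i).trace by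
        rw [Matrix.trace_mul_comm, ← mul_assoc, hRnR],
      show (R D V i * (R D V i * V.M (D.n i)⁻¹)).trace = (R D V i).trace by
        rw [Matrix.trace_mul_comm, hRnR']]
    simp
  obtain ⟨PJ, hPJ, hsum⟩ := hB i _ rfl
  let S : Subgroup G :=
    { carrier := {a | V.M a * R D V i = R D V i}
      one_mem' := by simp
      mul_mem' := fun {a b} ha hb => by
        simp only [Set.mem_setOf_eq] at ha hb ⊢
        rw [map_mul, mul_assoc, hb, ha]
      inv_mem' := fun {a} ha => by
        simp only [Set.mem_setOf_eq] at ha ⊢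
        conv_lhs => rw [← ha]
        rw [← mul_assoc, URep.inv_mul, one_mul] }
  have hS : PJ ≤ S := by
    refine hPJ.trans (sup_le (sup_le (fun u hu => ?_) (fun t ht => ?_)) ?_)
    · show _ = _
      rw [← E_mul_R, ← mul_assoc, mul_E D V hu]
    · show _ = _
      rw [← E_mul_R, ← mul_assoc, hfixT t ht]
    · rw [Subgroup.zpowers_le]; exact hnR
  have hEP : V.av PJ.subtype = 0 := by
    refine nrm_eq_zero (Complex.ofReal_injective ?_)
    rw [nrm_proj (V.av_herm _) (V.av_idem _), URep.trace_av, Complex.ofReal_zero]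
    simp only [Subgroup.coe_subtype]
    rw [hsum, mul_zero]
  have hR0 : R D V i = 0 := by
    rw [← V.av_fix PJ.subtype (Z := R D V i) fun k => hS k.2, hEP, zero_mul]
  rw [R, hX, hP, smul_eq_zero, inv_eq_zero] at hR0
  rcases hR0 with h | h
  · exact absurd h hc
  · rw [neg_smul]; exact eq_neg_of_add_eq_zero_left h

/-- a second representation with the same property is a multiple of the first -/
theorem trace_eq {d₀ : Type*} [Fintype d₀] [DecidableEq d₀] (V₀ : URep G d₀) (hdec : Decomp D)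
    (hs : Sign D V₀) (hE₀ : (E D V₀).trace = 1)
    (hd₀ : (Fintype.card d₀ : ℂ) = (Nat.card D.U : ℂ))
    {m : ℝ} (hm : 0 < m) (hE : (E D V).trace = (m : ℂ))
    (hd : (Fintype.card d : ℂ) = m * (Nat.card D.U : ℂ)) (x : G) :
    (V.M x).trace = (m : ℂ) * (V₀.M x).trace := by
  have hnE : nrm (E D V) = m :=
    Complex.ofReal_injective (by rw [nrm_proj (E_herm D V) (E_idem D V), hE])
  have hnE₀ : nrm (E D V₀) = 1 :=
    Complex.ofReal_injective (by rw [nrm_proj (E_herm D V₀) (E_idem D V₀), hE₀, Complex.ofReal_one])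
  have hnorm₀ : ∀ {g : G} {k : ℕ}, Red D g k →
      nrm (A D V₀ g) = ((Fintype.card F : ℝ)⁻¹) ^ (2 * k) := by
    intro g k hg
    apply Complex.ofReal_injective
    rw [← trace_self_mul, A_sign D V₀ hs hg, Matrix.conjTranspose_smul, E_herm, Matrix.smul_mul,
      Matrix.mul_smul, E_idem, smul_smul, Matrix.trace_smul, hE₀, smul_eq_mul, mul_one, star_pow,
      pow_mul, ← mul_pow]
    push_cast
    simp [sq]
  have hle : ∀ g : G, m * nrm (A D V₀ g) ≤ nrm (A D V g) := by
    intro g
    obtain ⟨a, ha, n, b, hb, k, hk, rfl⟩ := hdec g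
    rw [nrm_sandwich D V ha hb, nrm_sandwich D V₀ ha hb, hnorm₀ hk, mul_comm, ← hnE]
    exact A_lower D V hk
  have heq : ∀ g : G, m * nrm (A D V₀ g) = nrm (A D V g) := by
    refine fun g => (Finset.sum_eq_sum_iff_of_le fun g _ => hle g).1 ?_ g (Finset.mem_univ g)
    rw [← Finset.mul_sum, sum_nrm D V hm.ne' hE hd,
      sum_nrm D V₀ one_ne_zero (by rw [hE₀, Complex.ofReal_one]) (by rw [hd₀, Complex.ofReal_one, one_mul])]
    ring
  have hsign : Sign D V := by
    have hn : ∀ i, P D V i = E D V ∧ R D V i = 0 := by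
      intro i
      have hred : Red D (1 * D.n i) (0 + 1) :=
        Red.step (Red.base (one_mem _)) fun t => by simpa using D.x_mem i t
      have h := heq (D.n i)
      rw [one_mul] at hred
      rw [hnorm₀ hred, ← one_mul (A D V (D.n i)), nrm_step, one_mul, one_mul, one_mul, hnE] at h
      have hc := card_pos' (F := F)
      have c1 : 0 < (Fintype.card F : ℝ)⁻¹ - ((Fintype.card F : ℝ)⁻¹) ^ 2 := by nlinarith
      have c2 : 0 < 1 - ((Fintype.card F : ℝ)⁻¹) ^ 2 := by nlinarith
      have a1 := nrm_nonneg (E D V - P D V i)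
      have a2 := nrm_nonneg (R D V i)
      have p1 := mul_nonneg c1.le a1
      have p2 := mul_nonneg c2.le a2
      have b1 : (((Fintype.card F : ℝ)⁻¹) - ((Fintype.card F : ℝ)⁻¹) ^ 2) *
          nrm (E D V - P D V i) = 0 := by nlinarith
      have b2 : (1 - ((Fintype.card F : ℝ)⁻¹) ^ 2) * nrm (R D V i) = 0 := by nlinarith
      exact ⟨(sub_eq_zero.1 (nrm_eq_zero ((mul_eq_zero.1 b1).resolve_left c1.ne'))).symm,
        nrm_eq_zero ((mul_eq_zero.1 b2).resolve_left c2.ne')⟩
    refine ⟨?_, fun i => ?_⟩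
    · intro t ht
      let S : Subgroup G :=
        { carrier := {a | V.M a * E D V = E D V}
          one_mem' := by simp
          mul_mem' := fun {a b} ha hb => by
            simp only [Set.mem_setOf_eq] at ha hb ⊢
            rw [map_mul, mul_assoc, hb, ha]
          inv_mem' := fun {a} ha => by
            simp only [Set.mem_setOf_eq] at ha ⊢
            conv_lhs => rw [← ha]
            rw [← mul_assoc, URep.inv_mul, one_mul] }
      have hS : D.T ≤ S := by
        refine D.T_gen.trans ((Subgroup.closure_le _).2 ?_)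
        intro y hy
        obtain ⟨i, w, rfl⟩ := Set.mem_iUnion.1 hy
        show _ = _
        rw [← (hn i).1, P, ← mul_assoc]
        congr 1
        classical
        exact V.mul_av (D.h i) w
      exact hS ht
    · have hR := (hn i).2
      rw [R, smul_eq_zero, inv_eq_zero] at hR
      rcases hR with h | h
      · exact absurd h (one_add_inv_ne (F := F))
      · have hX : Pi' D V i * A D V (D.n i) = A D V (D.n i) := by
          rw [← E_mul_A, ← mul_assoc, show Pi' D V i * E D V = E D V from (hn i).1]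
        rw [hX, (hn i).1] at h
        rw [neg_smul]; exact eq_neg_of_add_eq_zero_left h
  have htr : ∀ g : G, (A D V g).trace = (m : ℂ) * (A D V₀ g).trace := by
    intro g
    obtain ⟨a, ha, n, b, hb, k, hk, rfl⟩ := hdec g
    rw [A_eq_sign D V hsign ha hb hk, A_eq_sign D V₀ hs ha hb hk, Matrix.trace_smul, Matrix.trace_smul,
      hE, hE₀, smul_eq_mul, smul_eq_mul]
    ring
  have h1 := trace_conj_sum D V hm.ne' hE hd x
  have h0 := trace_conj_sum D V₀ one_ne_zero (by rw [hE₀, Complex.ofReal_one])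
    (by rw [hd₀, Complex.ofReal_one, one_mul]) x
  rw [Finset.sum_congr rfl fun g _ => htr _, ← Finset.mul_sum, h0] at h1
  have hne : (Nat.card G : ℂ) / (Nat.card D.U : ℂ) ≠ 0 :=
    div_ne_zero (Nat.cast_ne_zero.2 Nat.card_pos.ne') (Nat.cast_ne_zero.2 Nat.card_pos.ne')
  refine mul_left_cancel₀ hne ?_
  linear_combination -h1

end Cfsg.Agent.UD
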