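import Cfsg.Agent.Lib.Steinberg.ChevSemisimple
import Cfsg.Agent.Lib.Steinberg.UniqueDefect

/-!
# The Steinberg character is the only character of defect zero
-/

set_option autoImplicit false

namespace Cfsg.Agent.Chev

open Cfsg.Lie

universe v

namespace Tab

variable {T : Tab} {F : Type v} [Field F]

/-- a fundamental root subgroup as a homomorphism into the group -/
noncomputable def xHom (g : T.Good) (F : Type v) [Field F] (i : ℕ) :
    Multiplicative F →* ↥(T.D.group F) where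
  toFun t := ⟨xg g (T.smp i) t.toAdd, xg_mem_group g _ _⟩
  map_one' := Subtype.ext (xg_zero g _)
  map_mul' a b := Subtype.ext (xg_add g _ _ _).symm

/-- a fundamental coroot as a homomorphism into the group -/
noncomputable def hHom (g : T.Good) (F : Type v) [Field F] (i : ℕ) (hi : i < T.l) :
    Fˣ →* ↥(T.D.group F) where
  toFun w := ⟨hS T F i w, hS_mem_group g hi w⟩
  map_one' := Subtype.ext (hS_one i)
  map_mul' a b := Subtype.ext (hS_mul i a b)

/-- the rank one data of a Chevalley group -/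
noncomputable def udData (g : T.GoodA) (F : Type v) [Field F] :
    UD.Data ↥(T.D.group F) F (Fin T.l) where
  U := (genS g.toGood F (Set.Ico T.N T.n)).subgroupOf (T.D.group F)
  T := (T.D.diagonalSubgroup F).subgroupOf (T.D.group F)
  U' i := (genS g.toGood F (T.posExc i)).subgroupOf (T.D.group F)
  x i := xHom g.toGood F i
  n i := ⟨nG g.toGood F i, nG_mem_group g.toGood i⟩
  h i := hHom g.toGood F i i.2
  x_mem i t := by
    rw [Subgroup.mem_subgroupOf]
    exact xg_mem_genS g.toGood (S := Set.Ico T.N T.n) ⟨g.smp_ge i.2, g.smp_lt i.2⟩ _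
  U'_le i := fun y hy => by
    rw [Subgroup.mem_subgroupOf] at hy ⊢
    exact genS_mono g.toGood (fun r hr => (⟨hr.1, hr.2.1⟩ : r ∈ Set.Ico T.N T.n)) hy
  gen i := fun u hu => by
    obtain ⟨u', hu', a, e⟩ := pos_split g i.2 (Subgroup.mem_subgroupOf.1 hu)
    have hle : genS g.toGood F (T.posExc i) ≤ T.D.group F :=
      genS_le g.toGood fun r _ t => xg_mem_group g.toGood r t
    rw [show u = (⟨u', hle hu'⟩ : ↥(T.D.group F)) * xHom g.toGood F i (Multiplicative.ofAdd a) from
      Subtype.ext e]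
    exact mul_mem (Subgroup.subset_closure (Or.inr (Subgroup.mem_subgroupOf.2 hu')))
      (Subgroup.subset_closure (Or.inl ⟨_, rfl⟩))
  x_norm i t y hy := by
    rw [Subgroup.mem_subgroupOf] at hy ⊢
    exact (Subgroup.mem_normalizer_iff.1
      (posExc_normalized g i.2 (g.smp_ge i.2) (g.smp_lt i.2) t.toAdd) _).1 hy
  n_norm i y hy := by
    rw [Subgroup.mem_subgroupOf] at hy ⊢
    exact (Subgroup.mem_normalizer_iff.1 (nG_normalizes g.toGood i.2 (S := T.posExc i)
      (fun r hr => hr.2.1) fun r hr => ref_posExc g.toGood i.2 hr) _).1 hy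
  n_x i a := by
    have hg := g.toGood
    refine ⟨xHom hg F i (Multiplicative.ofAdd (-((a⁻¹ : Fˣ) : F))), ?_,
      xHom hg F i (Multiplicative.ofAdd (-((a⁻¹ : Fˣ) : F))), ?_, Subtype.ext ?_⟩
    · exact Subgroup.mem_subgroupOf.2
        (xg_mem_genS hg (S := Set.Ico T.N T.n) ⟨g.smp_ge i.2, g.smp_lt i.2⟩ _)
    · exact Subgroup.mem_subgroupOf.2
        (xg_mem_genS hg (S := Set.Ico T.N T.n) ⟨g.smp_ge i.2, g.smp_lt i.2⟩ _)
    simp only [Subgroup.coe_mul, Subgroup.coe_inv]
    show nG hg F i * xg hg (T.smp i) (a : F) * (nG hg F i)⁻¹ =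
      xg hg (T.smp i) (-((a⁻¹ : Fˣ) : F)) * (hS T F i a⁻¹ * nG hg F i) *
        xg hg (T.smp i) (-((a⁻¹ : Fˣ) : F))
    rw [nG_conj hg i.2 (g.smp_lt i.2), hg.ref_smp i.2, hg.eta_smp i.2, ← nE_simple hg i.2 a⁻¹,
      ← xg_inv hg (T.smp i), Units.val_inv_eq_inv_val, inv_inv]
    push_cast
    rw [neg_one_mul]
    group
  h_mem i w := by
    rw [Subgroup.mem_subgroupOf, diagonalSubgroup_eq g.toGood]
    exact ⟨_, (hS_eq_tor (T := T) (F := F) i w).symm⟩
  T_norm t ht u hu := by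
    rw [Subgroup.mem_subgroupOf, diagonalSubgroup_eq g.toGood] at ht
    obtain ⟨c, hc⟩ := ht
    rw [Subgroup.mem_subgroupOf] at hu ⊢
    simp only [Subgroup.coe_mul, Subgroup.coe_inv, ← hc]
    exact (Subgroup.mem_normalizer_iff.1 (tor_normalizes g.toGood (fun r hr => hr.2) c) _).1 hu
  T_gen := fun t ht => by
    rw [Subgroup.mem_subgroupOf, diagonalSubgroup_eq g.toGood] at ht
    obtain ⟨c, hc⟩ := ht
    have key : ∀ L : List ℕ, (∀ i ∈ L, i < T.l) →
        ∃ y ∈ Subgroup.closure (⋃ i : Fin T.l, Set.range (hHom g.toGood F i i.2)),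
          ((y : ↥(T.D.group F)) : GL T.D.Idx F) = (L.map fun i => hS T F i (c i)).prod := by
      intro L hL
      induction L with
      | nil => exact ⟨1, one_mem _, by simp⟩
      | cons j L ih =>
        obtain ⟨y, hy, e⟩ := ih fun k hk => hL k (List.mem_cons_of_mem _ hk)
        have hj := hL j List.mem_cons_self
        refine ⟨hHom g.toGood F j hj (c j) * y,
          mul_mem (Subgroup.subset_closure (Set.mem_iUnion.2 ⟨⟨j, hj⟩, _, rfl⟩)) hy, ?_⟩
        rw [Subgroup.coe_mul, e, List.map_cons, List.prod_cons]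
        rfl
    obtain ⟨y, hy, e⟩ := key (List.range T.l) fun i hi => List.mem_range.1 hi
    rw [← tor_eq_prod g.toGood, hc] at e
    rwa [← Subtype.ext e]
  n_h i w := Subtype.ext (nG_hS g.toGood i.2 w)
  n_sq i := Subtype.ext (nG_sq g.toGood i.2)

theorem ud_red (g : T.GoodA) : ∀ (m : ℕ) {L : List ℕ}, T.Wd L → (T.invSet L).card ≤ m →
    ∀ (c : ℕ → Fˣ) (h : tor T F c * nWd g.toGood F L ∈ T.D.group F),
      ∃ k, UD.Red (udData g F) ⟨_, h⟩ k := by
  have hg := g.toGood
  have base : ∀ {L : List ℕ}, T.Wd L → (T.invSet L).card = 0 →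
      ∀ (c : ℕ → Fˣ) (h : tor T F c * nWd g.toGood F L ∈ T.D.group F),
      ∃ k, UD.Red (udData g F) ⟨_, h⟩ k := by
    intro L hL h0 c h
    obtain ⟨⟨d, hd⟩, -⟩ := nWd_torus_of_pos (F := F) hg L.length le_rfl hL (invSet_empty hg h0)
    refine ⟨0, UD.Red.base ?_⟩
    show _ ∈ (T.D.diagonalSubgroup F).subgroupOf (T.D.group F)
    rw [Subgroup.mem_subgroupOf, diagonalSubgroup_eq hg]
    exact ⟨c * d, by rw [map_mul, ← hd]⟩
  intro m
  induction m with
  | zero => exact fun hL hm => base hL (Nat.le_zero.1 hm)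
  | succ m ih =>
    intro L hL hm c h
    rcases Nat.eq_zero_or_pos (T.invSet L).card with h0 | hpos
    · exact base hL h0 c h
    obtain ⟨k, hk⟩ := Nat.exists_eq_succ_of_ne_zero hpos.ne'
    obtain ⟨i, hi, -, hle, hp⟩ := invSet_peel hg hL hk
    have hL' : T.Wd (L ++ [i]) := Wd.append_iff.2 ⟨hL, by simp [Wd, hi]⟩
    obtain ⟨d, hd⟩ := torus_pass hg (nWd_mem_wSub hg hL' (F := F)) (Pi.mulSingle i (-1 : Fˣ))
    have hn : (nG hg F i)⁻¹ = hS T F i (-1) * nG hg F i := by
      refine inv_eq_of_mul_eq_one_left ?_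
      rw [mul_assoc, nG_sq hg hi, ← hS_mul, neg_mul_neg, one_mul, hS_one]
    have hrew : tor T F c * nWd hg F L = tor T F (c * d) * nWd hg F (L ++ [i]) * nG hg F i := by
      rw [map_mul, mul_assoc (tor T F c), ← hd, ← hS_eq_tor, mul_assoc (tor T F c),
        mul_assoc (nWd hg F (L ++ [i])), ← hn, nWd_snoc, mul_inv_cancel_right]
    have hmem : tor T F (c * d) * nWd hg F (L ++ [i]) ∈ T.D.group F :=
      mul_mem (tor_mem_group hg _) (by
        rw [nWd_snoc]
        exact mul_mem (Subgroup.list_prod_mem _ fun y hy => by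
          obtain ⟨j, -, rfl⟩ := List.mem_map.1 hy; exact nG_mem_group hg j) (nG_mem_group hg i))
    obtain ⟨k', hk'⟩ := ih hL' (by omega) (c * d) hmem
    refine ⟨k' + 1, ?_⟩
    have hstep := UD.Red.step (i := (⟨i, hi⟩ : Fin T.l)) hk' fun t => ?_
    · convert hstep using 1
      exact Subtype.ext hrew
    · show _ ∈ (genS hg F (Set.Ico T.N T.n)).subgroupOf (T.D.group F)
      obtain ⟨v, hv⟩ := mono_conj (F := F) hg hL' (c * d) (hg.smp_lt hi)
      rw [Subgroup.mem_subgroupOf]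
      simp only [Subgroup.coe_mul, Subgroup.coe_inv]
      show (tor T F (c * d) * nWd hg F (L ++ [i])) * xg hg (T.smp i) t.toAdd *
        (tor T F (c * d) * nWd hg F (L ++ [i]))⁻¹ ∈ _
      rw [hv]
      exact xg_mem_genS hg (S := Set.Ico T.N T.n) ⟨hp, rw'_lt hg hL' (hg.smp_lt hi)⟩ _

theorem ud_sup (g : T.GoodA) :
    (udData g F).U ⊔ (udData g F).T = (bnPair g F).B := by
  show _ = (T.D.borelSubgroup F).subgroupOf (T.D.group F)
  rw [ChevalleyDatum.borelSubgroup, posUnipotent_eq g.toGood]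
  refine (Subgroup.subgroupOf_sup (posU_le_group g.toGood) ?_).symm
  exact (le_sup_right : T.D.diagonalSubgroup F ≤ T.D.borelSubgroup F).trans (borel_le_group g.toGood)

theorem ud_decomp (g : T.GoodA) : UD.Decomp (udData g F) := by
  intro x
  obtain ⟨w, hw⟩ := BN.bruhat (bnPair g F) x
  obtain ⟨n, hn, rfl⟩ := BN.exists_rep (bnPair g F) w
  rw [BN.cell_mk] at hw
  obtain ⟨b₁, h1, b₂, h2, e⟩ := DoubleCoset.mem_doubleCoset.1 hw
  obtain ⟨L, hL, c, hc⟩ := (mem_monomial_iff g.toGood).1 (Subgroup.mem_subgroupOf.1 hn)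
  have hmem : tor T F c * nWd g.toGood F L ∈ T.D.group F := hc ▸ n.2
  obtain ⟨k, hk⟩ := ud_red g _ hL le_rfl c hmem
  refine ⟨b₁, by rw [ud_sup]; exact h1, n, b₂, by rw [ud_sup]; exact h2, k, ?_, e⟩
  rwa [show n = ⟨_, hmem⟩ from Subtype.ext hc]

theorem unique_defect_zero [Fintype F] (g : T.GoodA) (p : ℕ) [Fact p.Prime] [CharP F p]
    {χ : ↥(T.D.group F) → ℂ} (hχ : Cfsg.IsIrrCharacter ↥(T.D.group F) χ)
    (hdeg : ∃ d : ℕ, χ 1 = (d : ℂ) ∧ p ^ (Nat.card ↥(T.D.group F)).factorization p ∣ d) :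
    χ = T.D.steinbergCharacter F := by
  classical
  haveI := Fintype.ofFinite ↥(T.D.group F)
  set D := udData g F with hD
  have hU : Nat.card D.U = Fintype.card F ^ T.N := by
    show Nat.card ((genS g.toGood F (Set.Ico T.N T.n)).subgroupOf (T.D.group F)) = _
    rw [Nat.card_congr (Subgroup.subgroupOfEquivOfLe (posU_le_group g.toGood)).toEquiv, card_pos g]
  have hvan : ∀ u ∈ D.U, u ≠ 1 → p ∣ orderOf u := by
    intro u hu hne
    obtain ⟨S, hS⟩ := exists_sylow_posU (F := F) g p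
    have huS : u ∈ (S : Subgroup ↥(T.D.group F)) := by
      rw [hS, Subgroup.mem_subgroupOf, posUnipotent_eq g.toGood]
      exact Subgroup.mem_subgroupOf.1 hu
    obtain ⟨k, hk⟩ := IsPGroup.iff_orderOf.1 S.2 ⟨u, huS⟩
    rw [Subgroup.orderOf_mk] at hk
    rw [hk]
    exact dvd_pow_self p fun h => hne (orderOf_eq_one_iff.1 (by rw [hk, h, pow_zero]))
  obtain ⟨n₀, V₀, hV₀⟩ := MatRep.exists_urep (steinberg_irr (F := F) g)
  obtain ⟨n, V, hV⟩ := MatRep.exists_urep hχ
  have hcard : ∀ {n : ℕ} (V : MatRep.URep ↥(T.D.group F) (Fin n)),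
      (V.M 1).trace = (n : ℂ) := fun V => by rw [map_one, Matrix.trace_one, Fintype.card_fin]
  have hE : ∀ {n : ℕ} (V : MatRep.URep ↥(T.D.group F) (Fin n)),
      (∀ u ∈ D.U, u ≠ 1 → (V.M u).trace = 0) →
      (UD.E D V).trace = (((n : ℝ) / (Nat.card D.U : ℝ) : ℝ) : ℂ) := by
    intro n V h
    rw [UD.E, MatRep.URep.trace_av, Finset.sum_eq_single (1 : D.U)]
    · rw [map_one, hcard V, Nat.card_eq_fintype_card]
      push_cast
      rw [div_eq_inv_mul]
    · exact fun u _ hu => h u u.2 fun e => hu (Subtype.ext e)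
    · exact fun h => absurd (Finset.mem_univ _) h
  have hUne : (Nat.card D.U : ℝ) ≠ 0 := Nat.cast_ne_zero.2 Nat.card_pos.ne'
  have hn₀ : n₀ = Fintype.card F ^ T.N := by
    have h : (n₀ : ℂ) = (Fintype.card F : ℂ) ^ T.N := by rw [← hcard V₀, hV₀, steinberg_one g]
    exact_mod_cast h
  have hE₀ : (UD.E D V₀).trace = 1 := by
    rw [hE V₀ fun u hu hne => by rw [hV₀]; exact steinberg_singular g p (hvan u hu hne), hn₀, ← hU,
      div_self hUne, Complex.ofReal_one]
  have hs : UD.Sign D V₀ := by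
    refine UD.sign_of_parabolic D V₀ hE₀ (fun i B hB => ?_) ?_
    · refine ⟨BN.pJ (bnPair g F) (↑({sGenBN g F i} : Finset (bnPair g F).S) : Set _), ?_, ?_⟩
      · rw [hB, hD, ud_sup]
        refine sup_le le_sup_left ((Subgroup.closure_le _).2 ?_)
        rintro y ⟨s, hs, rfl⟩
        obtain rfl := Finset.mem_singleton.1 (Finset.mem_coe.1 hs)
        exact Subgroup.mem_sup_right (Subgroup.mem_zpowers _)
      · intro _
        simp only [hV₀, steinberg_eq g]
        rw [BN.sum_stChar_parabolic, if_neg (Finset.singleton_ne_empty _)]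
    · refine ⟨BN.pJ (bnPair g F) (↑(∅ : Finset (bnPair g F).S) : Set _), ?_, ?_, ?_⟩
      · exact (le_sup_right : D.T ≤ D.U ⊔ D.T).trans ((ud_sup g).le.trans (BN.B_le_parabolic _ _))
      · exact (le_sup_left : D.U ≤ D.U ⊔ D.T).trans ((ud_sup g).le.trans (BN.B_le_parabolic _ _))
      · intro _
        simp only [hV₀, steinberg_eq g]
        rw [BN.sum_stChar_parabolic, if_pos rfl]
  -- vanishing of `χ`
  obtain ⟨dd, hdd, hdvd⟩ := hdeg
  have hvanχ : ∀ u ∈ D.U, u ≠ 1 → (V.M u).trace = 0 := by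
    intro u hu hne
    obtain ⟨k, ρ, hρ, he⟩ := hχ
    haveI := hρ
    rw [hV, ← he]
    refine Cfsg.Agent.S0165.result ρ p _ Fact.out (Nat.ordProj_dvd _ _)
      (Nat.pow_succ_factorization_not_dvd Nat.card_pos.ne' Fact.out) ?_ u (hvan u hu hne)
    have h1 := congrFun he 1
    rw [Representation.char_one, hdd] at h1
    rwa [show Module.finrank ℂ (Fin k → ℂ) = dd from Nat.cast_injective h1]
  have hnpos : 0 < n := by
    rcases Nat.eq_zero_or_pos n with h | h
    · exact absurd (by rw [← hV, hcard V, h, Nat.cast_zero]) (Char.IsIrrCharacter.one_ne_zero hχ)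
    · exact h
  set m : ℝ := (n : ℝ) / (Nat.card D.U : ℝ) with hm
  have hmpos : 0 < m := div_pos (Nat.cast_pos.2 hnpos) (Nat.cast_pos.2 Nat.card_pos)
  have key : ∀ x, χ x = (m : ℂ) * T.D.steinbergCharacter F x := fun x => by
    rw [← hV, ← hV₀]
    refine UD.trace_eq D V V₀ (ud_decomp g) hs hE₀ (by rw [Fintype.card_fin, hn₀, hU]) hmpos
      (hE V hvanχ) ?_ x
    rw [Fintype.card_fin, hm]
    push_cast
    rw [div_mul_cancel₀]
    exact Nat.cast_ne_zero.2 Nat.card_pos.ne'
  have hnorm := Char.classInner_self_irr hχ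
  have e : χ = (m : ℂ) • T.D.steinbergCharacter F := funext key
  rw [e, Char.classInner_smul_left, Char.classInner_smul_right, Char.classInner_self_irr (steinberg_irr g),
    mul_one, Complex.conj_ofReal, ← Complex.ofReal_mul, ← Complex.ofReal_one, Complex.ofReal_inj] at hnorm
  have hm1 : m = 1 := by nlinarith
  rw [e, hm1, Complex.ofReal_one, one_smul]

end Tab

end Cfsg.Agent.Chev
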