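import Cfsg.Agent.Lib.Steinberg.FixedPair

/-!
# The twist attached to an antidiagonal form
-/

set_option autoImplicit false
set_option linter.unusedSectionVars false

namespace Cfsg.Agent.SLPair

open Matrix
open Cfsg.Agent.SLBlocks (uniU)

universe u

variable {n : ℕ} {F : Type u} [Field F]

/-- an antidiagonal matrix -/
def antiJ (e : Fin n → F) : Matrix (Fin n) (Fin n) F := Matrix.of fun a b => if b = a.rev then e a else 0

theorem mul_antiJ (e : Fin n → F) (M : Matrix (Fin n) (Fin n) F) (a b : Fin n) :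
    (M * antiJ e) a b = M a b.rev * e b.rev := by
  rw [Matrix.mul_apply, Finset.sum_eq_single b.rev]
  · simp [antiJ]
  · intro c _ hc
    simp only [antiJ, Matrix.of_apply]
    rw [if_neg (fun h => hc (by rw [h, Fin.rev_rev])), mul_zero]
  · simp

theorem antiJ_mul (e : Fin n → F) (M : Matrix (Fin n) (Fin n) F) (a b : Fin n) :
    (antiJ e * M) a b = e a * M a.rev b := by
  rw [Matrix.mul_apply, Finset.sum_eq_single a.rev]
  · simp [antiJ]
  · intro c _ hc
    simp only [antiJ, Matrix.of_apply]
    rw [if_neg hc, zero_mul]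
  · simp

variable (e : Fin n → F) (he : ∀ a, e a ≠ 0) (φ : F →+* F)

/-- the matrix of the twisted element -/
def twMat (g : SLn n F) : Matrix (Fin n) (Fin n) F :=
  Matrix.of fun a b => (e a)⁻¹ * φ ((g⁻¹).1 b.rev a.rev) * e b

include he in
theorem det_twMat (g : SLn n F) : (twMat e φ g).det = 1 := by
  have h : twMat e φ g = Matrix.diagonal (fun a => (e a)⁻¹) *
      ((((g⁻¹).1.map φ).transpose).submatrix Fin.revPerm Fin.revPerm) * Matrix.diagonal e := by
    ext a b
    simp [twMat, Matrix.mul_diagonal, Matrix.diagonal_mul]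
  have hd : ((g⁻¹).1.map φ).det = 1 := by
    have h0 := RingHom.map_det φ (g⁻¹).1
    rw [(g⁻¹).2, map_one] at h0
    exact h0.symm
  rw [h, Matrix.det_mul, Matrix.det_mul, Matrix.det_diagonal, Matrix.det_diagonal,
    Matrix.det_submatrix_equiv_self, Matrix.det_transpose, hd, mul_one, ← Finset.prod_mul_distrib]
  exact Finset.prod_eq_one fun a _ => inv_mul_cancel₀ (he a)

/-- the twist -/
def twHom : SLn n F →* SLn n F :=
  MonoidHom.mk' (fun g => ⟨twMat e φ g, det_twMat e he φ g⟩) (fun g h => by
    refine Subtype.ext (Matrix.ext fun a b => ?_)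
    show twMat e φ (g * h) a b = (twMat e φ g * twMat e φ h) a b
    rw [Matrix.mul_apply]
    simp only [twMat, Matrix.of_apply, _root_.mul_inv_rev, Matrix.SpecialLinearGroup.coe_mul]
    rw [Matrix.mul_apply, map_sum, Finset.mul_sum, Finset.sum_mul, ← Equiv.sum_comp Fin.revPerm]
    refine Finset.sum_congr rfl fun c _ => ?_
    rw [Fin.revPerm_apply, map_mul]
    field_simp [he c])

theorem twHom_apply (g : SLn n F) (a b : Fin n) :
    (twHom e he φ g).1 a b = (e a)⁻¹ * φ ((g⁻¹).1 b.rev a.rev) * e b := rfl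

theorem tw_uni (g : SLn n F) (hg : g ∈ uniU n F) : twHom e he φ g ∈ uniU n F := by
  have h := inv_mem hg
  refine ⟨fun a b (hab : b < a) => ?_, fun a => ?_⟩
  · rw [twHom_apply, show (g⁻¹).1 b.rev a.rev = 0 from h.1 (show id a.rev < id b.rev from Fin.rev_lt_rev.2 hab)]
    simp
  · rw [twHom_apply, h.2, map_one, mul_one, inv_mul_cancel₀ (he a)]

theorem tw_low (g : SLn n F) (hg : g ∈ loU n F) : twHom e he φ g ∈ loU n F := by
  have h := mem_loU.1 (inv_mem hg)
  refine mem_loU.2 ⟨fun a b hab => ?_, fun a => ?_⟩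
  · rw [twHom_apply, h.1 _ _ (Fin.rev_lt_rev.2 hab)]
    simp
  · rw [twHom_apply, h.2, map_one, mul_one, inv_mul_cancel₀ (he a)]

theorem tw_mono [Fintype F] (g : SLn n F) (σ : Equiv.Perm (Fin n)) (hg : Mono σ g.1) :
    Mono (flipP σ) (twHom e he φ g).1 := by
  intro a b h
  rw [twHom_apply] at h
  have h' : (g⁻¹).1 b.rev a.rev ≠ 0 := fun h0 => h (by rw [h0]; simp)
  have h2 : σ b.rev = a.rev := by rw [hg.inv _ _ h']; simp
  rw [flipP_apply, h2, Fin.rev_rev]

/-- the image of a transvection -/
theorem twHom_xSL {p q : Fin n} (h : p ≠ q) (h' : q.rev ≠ p.rev) (t : F) :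
    twHom e he φ (xSL h t) = xSL h' (-((e q.rev)⁻¹ * φ t * e p.rev)) := by
  have hinv : (xSL h t)⁻¹ = xSL h (-t) := inv_eq_of_mul_eq_one_right (Subtype.ext (by
    show transvection p q t * transvection p q (-t) = 1
    rw [transvection_mul_transvection_same _ _ h, add_neg_cancel, transvection_zero]))
  refine Subtype.ext (Matrix.ext fun a b => ?_)
  rw [twHom_apply, hinv]
  show (e a)⁻¹ * φ (transvection p q (-t) b.rev a.rev) * e b =
    transvection q.rev p.rev (-((e q.rev)⁻¹ * φ t * e p.rev)) a b
  by_cases hab : a = b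
  · subst hab
    have h1 : ¬ (p = a.rev ∧ q = a.rev) := fun ⟨e1, e2⟩ => h (e1.trans e2.symm)
    have h2 : ¬ (q.rev = a ∧ p.rev = a) := fun ⟨e1, e2⟩ => h' (e1.trans e2.symm)
    simp only [transvection, Matrix.add_apply, Matrix.one_apply_eq, Matrix.single_apply, if_neg h1, if_neg h2]
    rw [add_zero, map_one, mul_one, inv_mul_cancel₀ (he a)]
  · have hne : b.rev ≠ a.rev := fun e0 => hab (Fin.rev_injective e0).symm
    simp only [transvection, Matrix.add_apply, Matrix.one_apply_ne hab, Matrix.one_apply_ne hne,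
      Matrix.single_apply, zero_add]
    by_cases hc : p = b.rev ∧ q = a.rev
    · obtain ⟨rfl, rfl⟩ := hc
      simp [Fin.rev_rev]
    · rw [if_neg hc, if_neg (fun ⟨e1, e2⟩ => hc ⟨by rw [← e2, Fin.rev_rev], by rw [← e1, Fin.rev_rev]⟩)]
      simp

variable (η : F) (hη : ∀ a, e a.rev = η * e a) (hinv : ∀ x, φ (φ x) = x) (hφe : ∀ a, φ (e a) = e a)

include hinv hφe in
theorem tw_fixed_iff (g : SLn n F) :
    twHom e he φ g = g ↔ (g.1.map φ).transpose * antiJ e * g.1 = antiJ e := by
  have key : (g.1.map φ).transpose * antiJ e = antiJ e * (g⁻¹).1 ↔ twHom e he φ g = g := by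
    constructor
    · intro h
      refine Subtype.ext (Matrix.ext fun a b => ?_)
      rw [twHom_apply]
      have h1 := congrFun (congrFun h b) a.rev
      rw [mul_antiJ, antiJ_mul, Matrix.transpose_apply, Matrix.map_apply, Fin.rev_rev] at h1
      have h2 := congrArg φ h1
      rw [map_mul, map_mul, hinv, hφe, hφe] at h2
      rw [mul_assoc, mul_comm (φ _), ← h2, mul_comm (g.1 a b), ← mul_assoc, inv_mul_cancel₀ (he a), one_mul]
    · intro h
      ext b c
      rw [mul_antiJ, antiJ_mul, Matrix.transpose_apply, Matrix.map_apply]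
      have h1 : (e c.rev)⁻¹ * φ ((g⁻¹).1 b.rev c.rev.rev) * e b = g.1 c.rev b :=
        congrFun (congrFun (congrArg Subtype.val h) c.rev) b
      rw [← h1, map_mul, map_mul, map_inv₀, hinv, hφe, hφe, Fin.rev_rev]
      field_simp [he c.rev]
  have hg1 : (g⁻¹).1 * g.1 = 1 := congrArg Subtype.val (inv_mul_cancel g)
  have hg2 : g.1 * (g⁻¹).1 = 1 := congrArg Subtype.val (mul_inv_cancel g)
  rw [← key]
  constructor
  · intro h
    rw [h, Matrix.mul_assoc, hg1, Matrix.mul_one]
  · intro h
    conv_rhs => rw [← h, Matrix.mul_assoc, hg2, Matrix.mul_one]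

include hη in
theorem tw_root (hφ1 : ∀ a, φ (e a) = e a) (i : Idx n)
    (hskew : n ≤ 2 * (i : ℕ) + 3 → ∀ a : Fin n, ∃ t : F, t ≠ 0 ∧ -((e a.rev)⁻¹ * φ t * e a) = t) :
    ∃ y ∈ loU n F, twHom e he φ y = y ∧ y ≠ 1 ∧ ∀ a b, y.1 a b ≠ 0 → blk i a = blk i b := by
  have hxlo : ∀ {p q : Fin n} (h : p ≠ q) (t : F), q < p → xSL h t ∈ loU n F := by
    intro p q h t hlt
    refine mem_loU.2 ⟨fun a b hab => ?_, fun a => ?_⟩
    · show transvection p q t a b = 0
      rw [transvection, Matrix.add_apply, Matrix.one_apply_ne hab.ne, zero_add, Matrix.single_apply_of_ne]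
      rintro ⟨rfl, rfl⟩
      exact lt_asymm hab hlt
    · show transvection p q t a a = 1
      rw [transvection, Matrix.add_apply, Matrix.one_apply_eq, Matrix.single_apply_of_ne, add_zero]
      rintro ⟨rfl, e0⟩
      exact h e0.symm
  have hxblk : ∀ {p q : Fin n} (h : p ≠ q) (t : F), blk i p = blk i q →
      ∀ a b, (xSL h t).1 a b ≠ 0 → blk i a = blk i b := by
    intro p q h t hb a b hab
    by_contra hne
    refine hab ?_
    show transvection p q t a b = 0
    rw [transvection, Matrix.add_apply, Matrix.one_apply_ne (fun e0 => hne (by rw [e0])), zero_add,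
      Matrix.single_apply_of_ne]
    rintro ⟨rfl, rfl⟩
    exact hne hb
  have hi := i.2
  let q : Fin n := ⟨i, by omega⟩
  by_cases hov : n ≤ 2 * (i : ℕ) + 3
  · have hp : q.rev ≠ q := fun h => by
      have := congrArg Fin.val h
      rw [Fin.val_rev] at this
      simp only [q] at this
      omega
    have hlt : q < q.rev := by rw [Fin.lt_def, Fin.val_rev]; simp only [q]; omega
    obtain ⟨t, ht0, ht⟩ := hskew hov q
    refine ⟨xSL hp t, hxlo hp t hlt, ?_, fun h => ?_, hxblk hp t ?_⟩
    · have h' : q.rev ≠ q.rev.rev := by rw [Fin.rev_rev]; exact hp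
      rw [twHom_xSL e he φ hp h']
      apply Subtype.ext
      show transvection q.rev q.rev.rev _ = transvection q.rev q t
      rw [Fin.rev_rev, ht]
    · have h1 : transvection q.rev q t q.rev q = (1 : Matrix (Fin n) (Fin n) F) q.rev q :=
        congrFun (congrFun (congrArg Subtype.val h) q.rev) q
      rw [transvection, Matrix.add_apply, Matrix.single_apply_same, Matrix.one_apply_ne hp, zero_add] at h1
      exact ht0 h1
    · simp only [blk, blkN, Fin.val_rev, q]
      split_ifs <;> omega
  · let p : Fin n := ⟨i + 1, by omega⟩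
    have hpq : p ≠ q := fun h => by
      have := congrArg Fin.val h
      simp only [p, q] at this
      omega
    have hlt : q < p := by rw [Fin.lt_def]; simp only [p, q]; omega
    have hr : q.rev ≠ p.rev := fun h => hpq (Fin.rev_injective h).symm
    obtain ⟨c, hc⟩ : ∃ c : F, -((e q.rev)⁻¹ * φ 1 * e p.rev) = c := ⟨_, rfl⟩
    have hη0 : η ≠ 0 := fun h => he q.rev (by rw [hη, h, zero_mul])
    have hc' : c = -((e q)⁻¹ * e p) := by
      rw [← hc, map_one, mul_one, hη q, hη p]
      field_simp
    have hcc : -((e p.rev.rev)⁻¹ * φ c * e q.rev.rev) = 1 := by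
      rw [Fin.rev_rev, Fin.rev_rev, hc', map_neg, map_mul, map_inv₀, hφ1, hφ1]
      field_simp [he p, he q]
    refine ⟨xSL hpq 1 * xSL hr c, mul_mem (hxlo hpq 1 hlt) (hxlo hr c (Fin.rev_lt_rev.2 hlt)), ?_, ?_, ?_⟩
    · have h2 : p.rev.rev ≠ q.rev.rev := by rw [Fin.rev_rev, Fin.rev_rev]; exact hpq
      rw [map_mul, twHom_xSL e he φ hpq hr, hc, twHom_xSL e he φ hr h2, hcc]
      apply Subtype.ext
      show transvection q.rev p.rev c * transvection p.rev.rev q.rev.rev (1 : F) =
        transvection p q (1 : F) * transvection q.rev p.rev c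
      rw [Fin.rev_rev, Fin.rev_rev]
      have n1 : p.rev ≠ p := fun h => by
        have := congrArg Fin.val h
        rw [Fin.val_rev] at this
        simp only [p] at this
        omega
      have n2 : q ≠ q.rev := fun h => by
        have := congrArg Fin.val h
        rw [Fin.val_rev] at this
        simp only [q] at this
        omega
      simp [transvection, Matrix.mul_add, Matrix.add_mul, n1, n2, add_comm, add_left_comm]
    · intro h
      have h1 : (transvection p q (1 : F) * transvection q.rev p.rev c) p q = (1 : Matrix (Fin n) (Fin n) F) p q :=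
        congrFun (congrFun (congrArg Subtype.val h) p) q
      have hqp : q ≠ p.rev := fun e0 => by
        have := congrArg Fin.val e0
        rw [Fin.val_rev] at this
        simp only [p, q] at this
        omega
      rw [mul_transvection_apply_of_ne _ _ _ _ hqp, transvection, Matrix.add_apply, Matrix.single_apply_same,
        Matrix.one_apply_ne hpq, zero_add] at h1
      exact one_ne_zero h1
    · intro a b hab
      rw [Matrix.SpecialLinearGroup.coe_mul, Matrix.mul_apply] at hab
      obtain ⟨c', -, hc2⟩ := Finset.exists_ne_zero_of_sum_ne_zero hab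
      rw [hxblk hpq 1 (by simp only [blk, blkN, p, q]; split_ifs <;> omega) a c' (left_ne_zero_of_mul hc2)]
      refine hxblk hr c ?_ c' b (right_ne_zero_of_mul hc2)
      simp only [blk, blkN, Fin.val_rev, p, q]
      split_ifs <;> omega

/-- the twist as a structure -/
def formTwist [Fintype F] (hskew : ∀ a : Fin n, ∃ t : F, t ≠ 0 ∧ -((e a.rev)⁻¹ * φ t * e a) = t) :
    Twist n F where
  τ := twHom e he φ
  uni := tw_uni e he φ
  low := tw_low e he φ
  mono := tw_mono e he φ
  root := fun i => tw_root e he φ η hη hφe i fun _ => hskew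
  G := MonoidHom.eqLocus (twHom e he φ) (MonoidHom.id _)
  fixed := fun _ h => h
  memU := fun _ _ h => h
  memL := fun _ _ h => h

include hinv hφe in
theorem mem_formTwist [Fintype F] (hskew : ∀ a : Fin n, ∃ t : F, t ≠ 0 ∧ -((e a.rev)⁻¹ * φ t * e a) = t)
    (g : SLn n F) : g ∈ (formTwist e he φ η hη hφe hskew).G ↔ (g.1.map φ).transpose * antiJ e * g.1 = antiJ e :=
  tw_fixed_iff e he φ hinv hφe g

end Cfsg.Agent.SLPair
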