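import Cfsg.Agent.Lib.Steinberg.Char
import Cfsg.Agent.Lib.SLBlocks.DefectGroups
import Mathlib.GroupTheory.Perm.Sign
import Mathlib.Tactic

/-!
# The (B, N)-pair of the special linear groups and of their central quotients
-/

set_option autoImplicit false
set_option linter.unusedSectionVars false
set_option linter.style.haveILetI false

namespace Cfsg.Agent.SLPair

open Matrix
open Cfsg.Agent.Unipotent (permGL permGL_apply exists_perm_upper)

section Quot

variable {G H : Type*} [Group G] [Group H]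

/-- The image of a (B, N)-pair in a quotient by a subgroup of `B ⊓ N`. -/
def mapPair (P : Cfsg.BNPair G) (f : G →* H) (hf : Function.Surjective f) (hk : f.ker ≤ P.B ⊓ P.N) :
    Cfsg.BNPair H where
  B := P.B.map f
  N := P.N.map f
  S := f '' P.S
  sup_eq_top := by rw [← Subgroup.map_sup, P.sup_eq_top, Subgroup.map_top_of_surjective f hf]
  conj_mem := by
    rintro _ ⟨n, hn, rfl⟩ t ⟨⟨b, hb, rfl⟩, ⟨c, hc, hcb⟩⟩
    have hbN : b ∈ P.N := by
      have h1 : c⁻¹ * b ∈ f.ker := by rw [MonoidHom.mem_ker, map_mul, map_inv, hcb, inv_mul_cancel]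
      simpa using P.N.mul_mem hc (hk h1).2
    exact ⟨n * b * n⁻¹, P.conj_mem n hn b ⟨hb, hbN⟩, by simp⟩
  subset := by
    rintro _ ⟨s, hs, rfl⟩
    exact ⟨s, P.subset hs, rfl⟩
  sq_mem := by
    rintro _ ⟨s, hs, rfl⟩
    exact ⟨s * s, P.sq_mem s hs, map_mul f s s⟩
  inj := by
    rintro _ ⟨s, hs, rfl⟩ _ ⟨s', hs', rfl⟩ h
    rw [← map_inv, ← map_mul, Subgroup.mem_map] at h
    obtain ⟨b, hb, e⟩ := h
    have h1 : b⁻¹ * (s⁻¹ * s') ∈ f.ker := by rw [MonoidHom.mem_ker, map_mul, map_inv, e, inv_mul_cancel]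
    rw [P.inj s hs s' hs' (by simpa using P.B.mul_mem hb (hk h1).1)]
  closure_sup := by
    rw [← MonoidHom.map_closure]
    refine le_antisymm (sup_le (Subgroup.map_mono ((Subgroup.closure_le _).2 P.subset)) inf_le_right) ?_
    conv_lhs => rw [← P.closure_sup, Subgroup.map_sup]
    exact sup_le_sup le_rfl (Subgroup.map_inf_le _ _ _)
  mul_mem_union := by
    rintro _ ⟨s, hs, rfl⟩ _ ⟨n, hn, rfl⟩ _ ⟨b, hb, rfl⟩
    rcases P.mul_mem_union s hs n hn b hb with h | h
    · left
      obtain ⟨x, hx, y, hy, e⟩ := DoubleCoset.mem_doubleCoset.1 h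
      exact DoubleCoset.mem_doubleCoset.2 ⟨f x, ⟨x, hx, rfl⟩, f y, ⟨y, hy, rfl⟩, by
        rw [← map_mul f s n, ← map_mul, ← map_mul, ← map_mul, ← map_mul, e]⟩
    · right
      obtain ⟨x, hx, y, hy, e⟩ := DoubleCoset.mem_doubleCoset.1 h
      exact DoubleCoset.mem_doubleCoset.2 ⟨f x, ⟨x, hx, rfl⟩, f y, ⟨y, hy, rfl⟩, by
        rw [← map_mul, ← map_mul, ← map_mul, ← map_mul, e]⟩
  conj_ne := by
    rintro _ ⟨s, hs, rfl⟩ heq
    have hsN := P.subset hs
    refine P.conj_ne s hs (Set.eq_of_subset_of_subset ?_ ?_)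
    · rintro _ ⟨b, hb, rfl⟩
      have hm : f (s * b * s) ∈ (P.B.map f : Set H) := by
        rw [← heq]
        exact ⟨f b, ⟨b, hb, rfl⟩, by simp⟩
      obtain ⟨c, hc, e⟩ := hm
      have h1 : c⁻¹ * (s * b * s) ∈ f.ker := by rw [MonoidHom.mem_ker, map_mul, map_inv, e, inv_mul_cancel]
      simpa using P.B.mul_mem hc (hk h1).1
    · intro y hy
      have hm : f y ∈ (fun b : H => f s * b * f s) '' (P.B.map f : Set H) := by
        rw [heq]; exact ⟨y, hy, rfl⟩
      obtain ⟨_, ⟨b, hb, rfl⟩, e⟩ := hm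
      have h1 : s * ((s * b * s)⁻¹ * y) * s⁻¹ ∈ f.ker :=
        f.normal_ker.conj_mem _ (by
          rw [MonoidHom.mem_ker, map_mul, map_inv]
          simp only [map_mul]
          exact inv_mul_eq_one.2 e) s
      refine ⟨b * (s * ((s * b * s)⁻¹ * y) * s⁻¹), P.B.mul_mem hb (hk h1).1, ?_⟩
      show s * (b * (s * ((s * b * s)⁻¹ * y) * s⁻¹)) * s = y
      group

end Quot

variable {n : ℕ} {F : Type*} [Field F]

abbrev SLn (n : ℕ) (F : Type*) [Field F] := Matrix.SpecialLinearGroup (Fin n) F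

/-- monomial with a given permutation -/
def Mono (σ : Equiv.Perm (Fin n)) (M : Matrix (Fin n) (Fin n) F) : Prop :=
  ∀ a b, M a b ≠ 0 → a = σ b

theorem Mono.one : Mono (1 : Equiv.Perm (Fin n)) (1 : Matrix (Fin n) (Fin n) F) := fun a b h => by
  by_contra hne
  exact h (Matrix.one_apply_ne hne)

theorem Mono.mul {σ τ : Equiv.Perm (Fin n)} {M N : Matrix (Fin n) (Fin n) F} (hM : Mono σ M)
    (hN : Mono τ N) : Mono (σ * τ) (M * N) := fun a b h => by
  rw [Matrix.mul_apply] at h
  obtain ⟨c, -, hc⟩ := Finset.exists_ne_zero_of_sum_ne_zero h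
  rw [Equiv.Perm.mul_apply, ← hN c b (right_ne_zero_of_mul hc)]
  exact hM a c (left_ne_zero_of_mul hc)

theorem Mono.apply_ne {σ : Equiv.Perm (Fin n)} {g : SLn n F} (h : Mono σ g.1) (b : Fin n) :
    g.1 (σ b) b ≠ 0 := by
  intro h0
  refine one_ne_zero (g.2.symm.trans (Matrix.det_eq_zero_of_column_eq_zero b fun a => ?_))
  by_contra hne
  exact hne ((h a b hne).symm ▸ h0)

theorem Mono.unique {σ τ : Equiv.Perm (Fin n)} {g : SLn n F} (h : Mono σ g.1) (h' : Mono τ g.1) :
    σ = τ := Equiv.ext fun b => h' _ b (h.apply_ne b)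

theorem Mono.mul_left_apply {σ : Equiv.Perm (Fin n)} {N : Matrix (Fin n) (Fin n) F} (hN : Mono σ N)
    (M : Matrix (Fin n) (Fin n) F) (c d : Fin n) : (N * M) (σ c) d = N (σ c) c * M c d := by
  rw [Matrix.mul_apply, Finset.sum_eq_single c]
  · intro e _ he
    rw [not_not.1 (fun h => he (σ.injective (hN (σ c) e h)).symm : ¬ N (σ c) e ≠ 0), zero_mul]
  · simp

theorem Mono.mul_right_apply {σ : Equiv.Perm (Fin n)} {N : Matrix (Fin n) (Fin n) F} (hN : Mono σ N)
    (M : Matrix (Fin n) (Fin n) F) (c d : Fin n) : (M * N) c d = M c (σ d) * N (σ d) d := by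
  rw [Matrix.mul_apply, Finset.sum_eq_single (σ d)]
  · intro e _ he
    rw [not_not.1 (fun h => he (hN e d h) : ¬ N e d ≠ 0), mul_zero]
  · simp

theorem mono_one_upper {M : Matrix (Fin n) (Fin n) F} (h : Mono 1 M) : M.IsUpperTriangular :=
  fun a b (hab : b < a) => by
    by_contra hne
    exact (ne_of_gt hab) (h a b hne)

theorem Mono.eq_one_of_upper {σ : Equiv.Perm (Fin n)} {g : SLn n F} (h : Mono σ g.1)
    (hu : g.1.IsUpperTriangular) : σ = 1 := by
  have hle : ∀ b, σ b ≤ b := fun b => le_of_not_gt fun hlt => h.apply_ne b (hu hlt)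
  refine Equiv.ext fun b => ?_
  show σ b = b
  by_contra hne
  have h1 : ∑ x, ((σ x : Fin n) : ℕ) < ∑ x : Fin n, (x : ℕ) :=
    Finset.sum_lt_sum (fun x _ => hle x) ⟨b, Finset.mem_univ _, Fin.lt_def.1 (lt_of_le_of_ne (hle b) hne)⟩
  rw [Equiv.sum_comp σ (fun x : Fin n => (x : ℕ))] at h1
  exact lt_irrefl _ h1

variable (n F) in
/-- the upper triangular subgroup -/
def bSub : Subgroup (SLn n F) :=
  (Cfsg.upperTriangularGL n F).comap Matrix.SpecialLinearGroup.toGL

theorem mem_bSub {g : SLn n F} : g ∈ bSub n F ↔ g.1.IsUpperTriangular := Iff.rfl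

variable [Fintype F]

theorem Mono.inv {σ : Equiv.Perm (Fin n)} {g : SLn n F} (h : Mono σ g.1) : Mono σ⁻¹ (g⁻¹).1 := by
  haveI : Finite (SLn n F) := inferInstance
  have hpow : ∀ k : ℕ, Mono (σ ^ k) (g ^ k).1 := fun k => by
    induction k with
    | zero => simpa using Mono.one
    | succ k ih => rw [pow_succ, pow_succ]; exact ih.mul h
  have hk : g⁻¹ = g ^ (orderOf g - 1) :=
    inv_eq_of_mul_eq_one_right (by
      rw [← pow_succ', Nat.sub_add_cancel (orderOf_pos g), pow_orderOf_eq_one])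
  have h1 : Mono (σ * σ ^ (orderOf g - 1)) (g * g⁻¹).1 := by
    rw [hk]; exact h.mul (hpow _)
  rw [mul_inv_cancel] at h1
  rw [inv_eq_of_mul_eq_one_right (Mono.unique h1 Mono.one), hk]
  exact hpow _

variable (n F) in
/-- the monomial subgroup -/
def nSub : Subgroup (SLn n F) where
  carrier := {g | ∃ σ, Mono σ g.1}
  one_mem' := ⟨1, Mono.one⟩
  mul_mem' := fun ⟨σ, hσ⟩ ⟨τ, hτ⟩ => ⟨σ * τ, hσ.mul hτ⟩
  inv_mem' := fun ⟨σ, hσ⟩ => ⟨σ⁻¹, hσ.inv⟩

theorem mono_one_mem {g : SLn n F} (h : Mono 1 g.1) : g ∈ bSub n F ⊓ nSub n F :=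
  ⟨mono_one_upper h, 1, h⟩

theorem mem_inf {g : SLn n F} (h : g ∈ bSub n F ⊓ nSub n F) : Mono 1 g.1 := by
  obtain ⟨hu, σ, hσ⟩ := h
  exact hσ.eq_one_of_upper hu ▸ hσ

section Elem

variable {i j : Fin n}

/-- an elementary transvection -/
def xSL (h : i ≠ j) (t : F) : SLn n F := ⟨transvection i j t, det_transvection_of_ne _ _ h t⟩

theorem xSL_mem (h : i < j) (t : F) : xSL h.ne t ∈ bSub n F := by
  intro a b (hab : b < a)
  show transvection i j t a b = 0
  rw [transvection, Matrix.add_apply, Matrix.one_apply_ne (ne_of_gt hab), zero_add,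
    Matrix.single_apply_of_ne]
  rintro ⟨rfl, rfl⟩
  exact lt_asymm h hab

/-- the Weyl representative -/
def wSL (h : i ≠ j) : SLn n F := xSL h (-1) * xSL h.symm 1 * xSL h (-1)

theorem wSL_mul (h : i ≠ j) (M : Matrix (Fin n) (Fin n) F) (a b : Fin n) :
    ((wSL (F := F) h).1 * M) a b = if a = i then -M j b else if a = j then M i b else M a b := by
  show (transvection i j (-1 : F) * transvection j i 1 * transvection i j (-1) * M : Matrix (Fin n) (Fin n) F) a b = _
  simp only [Matrix.mul_assoc]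
  by_cases hai : a = i
  · subst hai
    rw [if_pos rfl, transvection_mul_apply_same, transvection_mul_apply_of_ne _ _ _ _ h,
      transvection_mul_apply_same, transvection_mul_apply_same, transvection_mul_apply_same,
      transvection_mul_apply_of_ne _ _ _ _ h.symm]
    ring
  · rw [if_neg hai, transvection_mul_apply_of_ne _ _ _ _ hai]
    by_cases haj : a = j
    · subst haj
      rw [if_pos rfl, transvection_mul_apply_same, transvection_mul_apply_of_ne _ _ _ _ hai,
        transvection_mul_apply_same]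
      ring
    · rw [if_neg haj, transvection_mul_apply_of_ne _ _ _ _ haj,
        transvection_mul_apply_of_ne _ _ _ _ hai]

theorem mul_wSL (h : i ≠ j) (M : Matrix (Fin n) (Fin n) F) (a b : Fin n) :
    (M * (wSL (F := F) h).1) a b = if b = i then M a j else if b = j then -M a i else M a b := by
  show (M * (transvection i j (-1 : F) * transvection j i 1 * transvection i j (-1)) : Matrix (Fin n) (Fin n) F) a b = _
  simp only [← Matrix.mul_assoc]
  by_cases hbi : b = i
  · subst hbi
    rw [if_pos rfl, mul_transvection_apply_of_ne _ _ _ _ h, mul_transvection_apply_same,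
      mul_transvection_apply_of_ne _ _ _ _ h, mul_transvection_apply_same]
    ring
  · rw [if_neg hbi]
    by_cases hbj : b = j
    · subst hbj
      rw [if_pos rfl, mul_transvection_apply_same, mul_transvection_apply_same,
        mul_transvection_apply_of_ne _ _ _ _ hbi, mul_transvection_apply_of_ne _ _ _ _ h,
        mul_transvection_apply_same]
      ring
    · rw [if_neg hbj, mul_transvection_apply_of_ne _ _ _ _ hbj,
        mul_transvection_apply_of_ne _ _ _ _ hbi, mul_transvection_apply_of_ne _ _ _ _ hbj]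

theorem mono_wSL (h : i ≠ j) : Mono (Equiv.swap i j) (wSL (F := F) h).1 := fun a b hab => by
  have e := wSL_mul h (1 : Matrix (Fin n) (Fin n) F) a b
  rw [Matrix.mul_one] at e
  rw [e] at hab
  simp only [Matrix.one_apply] at hab
  by_cases hai : a = i
  · subst hai
    rw [if_pos rfl] at hab
    have : j = b := by by_contra hne; simp [hne] at hab
    rw [← this, Equiv.swap_apply_right]
  · rw [if_neg hai] at hab
    by_cases haj : a = j
    · subst haj
      rw [if_pos rfl] at hab
      have : i = b := by by_contra hne; simp [hne] at hab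
      rw [← this, Equiv.swap_apply_left]
    · rw [if_neg haj] at hab
      have : a = b := by by_contra hne; simp [hne] at hab
      rw [← this, Equiv.swap_apply_of_ne_of_ne hai haj]

theorem wSL_sq_mem (h : i ≠ j) : wSL (F := F) h * wSL h ∈ bSub n F :=
  mono_one_upper (by
    have := (mono_wSL (F := F) h).mul (mono_wSL (F := F) h)
    rwa [Equiv.swap_mul_self] at this)

theorem wSL_apply_sandwich (h : i ≠ j) (M : Matrix (Fin n) (Fin n) F) :
    ((wSL (F := F) h).1 * M * (wSL (F := F) h).1) j i = M i j := by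
  rw [mul_wSL, if_pos rfl, wSL_mul, if_neg h.symm, if_pos rfl]

/-- conjugation by `wSL` of upper triangular matrices without `(i, j)` entry -/
theorem sandwich_mem (hij : (j : ℕ) = i + 1) {b : SLn n F} (hb : b ∈ bSub n F) (h0 : b.1 i j = 0) :
    wSL (F := F) (i := i) (j := j) (fun e => by rw [e] at hij; omega) * b *
      wSL (i := i) (j := j) (fun e => by rw [e] at hij; omega) ∈ bSub n F := by
  intro a c (hac : c < a)
  have hu : ∀ x y : Fin n, (y : ℕ) < x → b.1 x y = 0 := fun x y hxy => hb (show id y < id x from hxy)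
  show ((wSL (F := F) _).1 * b.1 * (wSL (F := F) _).1 : Matrix (Fin n) (Fin n) F) a c = 0
  rw [mul_wSL]
  simp only [wSL_mul]
  have hac' : (c : ℕ) < a := hac
  by_cases hci : c = i
  · subst hci
    rw [if_pos rfl, if_neg (ne_of_gt hac)]
    by_cases haj : a = j
    · rw [if_pos haj, h0]
    · rw [if_neg haj]
      exact hu _ _ (by have := Fin.val_ne_of_ne haj; omega)
  · rw [if_neg hci]
    by_cases hcj : c = j
    · subst hcj
      rw [if_pos rfl, if_neg (fun e => by rw [e] at hac'; omega), if_neg (ne_of_gt hac),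
        hu _ _ (by omega), neg_zero]
    · rw [if_neg hcj]
      have := Fin.val_ne_of_ne hci
      have := Fin.val_ne_of_ne hcj
      by_cases hai : a = i
      · subst hai
        rw [if_pos rfl, hu _ _ (by omega), neg_zero]
      · rw [if_neg hai]
        by_cases haj : a = j
        · subst haj
          rw [if_pos rfl, hu _ _ (by omega)]
        · rw [if_neg haj]
          exact hu _ _ hac'

/-- the rank one relation `w x(t) = u y(1/t)` -/
theorem wSL_xSL (h : i < j) {t : F} (ht : t ≠ 0) :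
    ∃ u ∈ bSub n F, wSL h.ne * xSL h.ne t = u * xSL h.ne' (t⁻¹) := by
  refine ⟨wSL h.ne * xSL h.ne t * xSL h.ne' (-t⁻¹), ?_, ?_⟩
  · intro a b (hab : b < a)
    show ((wSL (F := F) h.ne).1 * transvection i j t * transvection j i (-t⁻¹) : Matrix (Fin n) (Fin n) F) a b = 0
    rw [Matrix.mul_assoc, wSL_mul]
    split_ifs with h1 h2
    · subst h1
      rw [transvection_mul_apply_of_ne _ _ _ _ h.ne']
      simp [transvection, Matrix.single_apply, ne_of_gt (lt_trans hab h), ne_of_gt hab]
    · subst h2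
      rw [transvection_mul_apply_same]
      have hb : b ≠ a := ne_of_lt hab
      by_cases hbi : b = i
      · subst hbi
        simp [transvection, Matrix.single_apply, h.ne, h.ne', ht]
      · simp [transvection, Matrix.single_apply, hb, Ne.symm hb, hbi, Ne.symm hbi, h.ne, h.ne']
    · rw [transvection_mul_apply_of_ne _ _ _ _ h1]
      simp [transvection, Matrix.single_apply, ne_of_gt hab, Ne.symm h2]
  · apply Subtype.ext
    show _ = (wSL h.ne).1 * transvection i j t * transvection j i (-t⁻¹) * transvection j i t⁻¹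
    rw [Matrix.mul_assoc, transvection_mul_transvection_same _ _ h.ne', neg_add_cancel,
      transvection_zero, Matrix.mul_one]
    rfl

end Elem

theorem conj_x_mem {σ : Equiv.Perm (Fin n)} {g : SLn n F} (hg : Mono σ g.1) {a b : Fin n}
    (hab : a ≠ b) (h : σ⁻¹ a < σ⁻¹ b) (t : F) : g⁻¹ * xSL hab t * g ∈ bSub n F := by
  intro c d (hdc : d < c)
  show ((g⁻¹).1 * transvection a b t * g.1) c d = 0
  rw [hg.mul_right_apply, show c = σ⁻¹ (σ c) by simp, hg.inv.mul_left_apply]
  have h1 : transvection a b t (σ c) (σ d) = 0 := by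
    rw [transvection, Matrix.add_apply, Matrix.one_apply_ne (σ.injective.ne (ne_of_gt hdc)), zero_add,
      Matrix.single_apply_of_ne]
    rintro ⟨rfl, rfl⟩
    simp only [Equiv.Perm.inv_def, Equiv.symm_apply_apply] at h
    exact lt_asymm h hdc
  rw [h1, mul_zero, zero_mul]

variable (n F) in
/-- the distinguished generators -/
def sSet : Set (SLn n F) :=
  {w | ∃ (i j : Fin n) (h : i ≠ j), (j : ℕ) = i + 1 ∧ w = wSL h}

theorem exists_mono (σ : Equiv.Perm (Fin n)) :
    ∃ w ∈ Subgroup.closure (sSet n F), Mono σ w.1 := by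
  cases n with
  | zero => exact ⟨1, one_mem _, fun a => a.elim0⟩
  | succ m =>
    have hm : σ ∈ Submonoid.closure (Set.range fun i : Fin m => Equiv.swap i.castSucc i.succ) := by
      rw [Equiv.Perm.mclosure_swap_castSucc_succ]; trivial
    induction hm using Submonoid.closure_induction with
    | mem x hx =>
      obtain ⟨i, rfl⟩ := hx
      refine ⟨wSL (i := i.castSucc) (j := i.succ) (Fin.castSucc_lt_succ).ne,
        Subgroup.subset_closure ⟨_, _, _, by simp, rfl⟩, mono_wSL _⟩
    | one => exact ⟨1, one_mem _, Mono.one⟩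
    | mul x y _ _ hx hy =>
      obtain ⟨u, hu, hu'⟩ := hx
      obtain ⟨v, hv, hv'⟩ := hy
      exact ⟨u * v, mul_mem hu hv, hu'.mul hv'⟩

/-- every element lies in `B N B` -/
theorem exists_bnb (g : SLn n F) :
    ∃ a ∈ bSub n F, ∃ c ∈ nSub n F, ∃ b ∈ bSub n F, g = a * c * b := by
  cases n with
  | zero => exact ⟨1, one_mem _, 1, one_mem _, 1, one_mem _, Subsingleton.elim _ _⟩
  | succ m =>
    obtain ⟨A, hA, B', hB', σ, hg⟩ := Cfsg.Agent.SLBlocks.exists_bruhat g
    let dv : F → Matrix (Fin (m + 1)) (Fin (m + 1)) F := fun u =>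
      Matrix.diagonal (Function.update 1 0 u)
    have hdet : ∀ u, (dv u).det = u := fun u => by
      simp [dv, Finset.prod_update_of_mem (Finset.mem_univ (0 : Fin (m + 1)))]
    have hdd : ∀ u v, dv u * dv v = dv (u * v) := fun u v => by
      simp only [dv, Matrix.diagonal_mul_diagonal]
      congr 1
      funext k
      by_cases hk : k = 0
      · subst hk; simp
      · simp [Function.update_of_ne hk]
    have hd1 : dv 1 = 1 := by simp [dv]
    have hAd : A.1.det ≠ 0 := (Matrix.isUnits_det_units A).ne_zero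
    have hBd : B'.1.det ≠ 0 := (Matrix.isUnits_det_units B').ne_zero
    let a : SLn (m + 1) F := ⟨A.1 * dv (A.1.det)⁻¹, by rw [det_mul, hdet, mul_inv_cancel₀ hAd]⟩
    let b : SLn (m + 1) F := ⟨dv (B'.1.det)⁻¹ * B'.1, by rw [det_mul, hdet, inv_mul_cancel₀ hBd]⟩
    have e : g.1 = a.1 * (dv A.1.det * (permGL (m + 1) F σ).1 * dv B'.1.det) * b.1 := by
      show g.1 = A.1 * dv (A.1.det)⁻¹ * (dv A.1.det * (permGL (m + 1) F σ).1 * dv B'.1.det) *
        (dv (B'.1.det)⁻¹ * B'.1)
      have h0 : g.1 = A.1 * (permGL (m + 1) F σ).1 * B'.1 := congrArg Units.val hg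
      rw [h0]
      calc A.1 * (permGL (m + 1) F σ).1 * B'.1
          = A.1 * (dv (A.1.det)⁻¹ * dv A.1.det) * (permGL (m + 1) F σ).1 *
            ((dv B'.1.det * dv (B'.1.det)⁻¹) * B'.1) := by
            rw [hdd, hdd, inv_mul_cancel₀ hAd, mul_inv_cancel₀ hBd, hd1, Matrix.mul_one, Matrix.one_mul]
        _ = _ := by simp only [Matrix.mul_assoc]
    refine ⟨a, Matrix.BlockTriangular.mul hA (Matrix.blockTriangular_diagonal _), a⁻¹ * g * b⁻¹,
      ⟨σ, ?_⟩, b, Matrix.BlockTriangular.mul (Matrix.blockTriangular_diagonal _) hB', by group⟩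
    have hc : (a⁻¹ * g * b⁻¹).1 = dv A.1.det * (permGL (m + 1) F σ).1 * dv B'.1.det := by
      show (a⁻¹).1 * g.1 * (b⁻¹).1 = _
      rw [e]
      have h1 : (a⁻¹).1 * a.1 = 1 := congrArg Subtype.val (inv_mul_cancel a)
      have h2 : b.1 * (b⁻¹).1 = 1 := congrArg Subtype.val (mul_inv_cancel b)
      simp only [← Matrix.mul_assoc, h1, Matrix.one_mul]
      rw [Matrix.mul_assoc _ b.1, h2, Matrix.mul_one]
    rw [hc]
    intro x y hxy
    simp only [dv, Matrix.mul_diagonal, Matrix.diagonal_mul, permGL_apply] at hxy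
    by_contra hne
    simp [hne] at hxy

variable (n F) in
/-- the (B, N)-pair of the special linear group -/
def slPair : Cfsg.BNPair (SLn n F) where
  B := bSub n F
  N := nSub n F
  S := sSet n F
  sup_eq_top := eq_top_iff.2 fun g _ => by
    obtain ⟨a, ha, c, hc, b, hb, rfl⟩ := exists_bnb g
    exact mul_mem (mul_mem (Subgroup.mem_sup_left ha) (Subgroup.mem_sup_right hc)) (Subgroup.mem_sup_left hb)
  conj_mem := by
    rintro c ⟨σ, hσ⟩ t ht
    refine mono_one_upper ?_
    have : Mono (σ * 1 * σ⁻¹) (c * t * c⁻¹).1 := (hσ.mul (mem_inf ht)).mul hσ.inv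
    rwa [mul_one, mul_inv_cancel] at this
  subset := by
    rintro _ ⟨i, j, h, -, rfl⟩
    exact ⟨_, mono_wSL h⟩
  sq_mem := by
    rintro _ ⟨i, j, h, -, rfl⟩
    exact wSL_sq_mem h
  inj := by
    rintro _ ⟨i, j, h, hij, rfl⟩ _ ⟨i', j', h', hij', rfl⟩ hm
    have h1 : Mono ((Equiv.swap i j)⁻¹ * Equiv.swap i' j') ((wSL h)⁻¹ * wSL (F := F) h').1 :=
      (mono_wSL h).inv.mul (mono_wSL h')
    have h2 : Equiv.swap i j = Equiv.swap i' j' := inv_mul_eq_one.1 (h1.eq_one_of_upper hm)
    have h3 : Equiv.swap i' j' i = j := by rw [← h2, Equiv.swap_apply_left]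
    rw [Equiv.swap_apply_def] at h3
    have : i = i' ∧ j = j' := by
      split_ifs at h3 with e1 e2
      · exact ⟨e1, h3.symm⟩
      · subst e2; subst h3; omega
      · exact absurd h3 h
    obtain ⟨rfl, rfl⟩ := this
    rfl
  closure_sup := by
    refine le_antisymm (sup_le ((Subgroup.closure_le _).2 ?_) inf_le_right) ?_
    · rintro _ ⟨i, j, h, -, rfl⟩
      exact ⟨_, mono_wSL h⟩
    · rintro c ⟨σ, hσ⟩
      obtain ⟨w, hw, hw'⟩ := exists_mono (F := F) σ
      have h1 : Mono 1 (w⁻¹ * c).1 := by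
        have : Mono (σ⁻¹ * σ) ((w⁻¹).1 * c.1) := hw'.inv.mul hσ
        rwa [inv_mul_cancel] at this
      rw [show c = w * (w⁻¹ * c) by group]
      exact mul_mem (Subgroup.mem_sup_left hw) (Subgroup.mem_sup_right (mono_one_mem h1))
  mul_mem_union := by
    rintro _ ⟨i, j, h, hij, rfl⟩ c ⟨σ, hσ⟩ b hb
    have hlt : i < j := by rw [Fin.lt_def]; omega
    have hne : b.1 i i ≠ 0 := fun h0 =>
      Cfsg.Agent.SLBlocks.upper_diag_ne_zero (A := SpecialLinearGroup.toGL b) hb i h0
    obtain ⟨t, ht⟩ : ∃ t, b.1 i j / b.1 i i = t := ⟨_, rfl⟩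
    obtain ⟨b1, hb1⟩ : ∃ b1, b * xSL h (-t) = b1 := ⟨_, rfl⟩
    have hb1B : b1 ∈ bSub n F := hb1 ▸ mul_mem hb (xSL_mem hlt _)
    have h0 : b1.1 i j = 0 := by
      rw [← hb1]
      show (b.1 * transvection i j (-t)) i j = 0
      rw [mul_transvection_apply_same, ← ht, neg_mul, div_mul_cancel₀ _ hne, add_neg_cancel]
    have hconj : wSL h * b1 * (wSL h)⁻¹ ∈ bSub n F := by
      rw [show wSL h * b1 * (wSL h)⁻¹ = wSL h * b1 * wSL h * (wSL (F := F) h * wSL h)⁻¹ by group]
      exact mul_mem (sandwich_mem hij hb1B h0) (inv_mem (wSL_sq_mem h))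
    have hbx : b = b1 * xSL h t := by
      rw [← hb1, mul_assoc]
      conv_lhs => rw [← mul_one b]
      congr 1
      apply Subtype.ext
      show (1 : Matrix (Fin n) (Fin n) F) = transvection i j (-t) * transvection i j t
      rw [transvection_mul_transvection_same _ _ h, neg_add_cancel, transvection_zero]
    rcases lt_or_gt_of_ne (σ⁻¹.injective.ne h) with hlt' | hlt'
    · left
      refine DoubleCoset.mem_doubleCoset.2 ⟨_, hconj, _, conj_x_mem hσ h hlt' t, ?_⟩
      rw [hbx]; group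
    · by_cases ht0 : t = 0
      · left
        refine DoubleCoset.mem_doubleCoset.2 ⟨_, hconj, 1, one_mem _, ?_⟩
        have hx : xSL h t = 1 := Subtype.ext (by show transvection i j t = 1; rw [ht0, transvection_zero])
        rw [hbx, hx]; group
      · right
        obtain ⟨u, hu, e⟩ := wSL_xSL hlt ht0
        refine DoubleCoset.mem_doubleCoset.2 ⟨_, mul_mem hconj hu, _, conj_x_mem hσ h.symm hlt' t⁻¹, ?_⟩
        rw [hbx, show wSL h * (b1 * xSL h t) * c = wSL h * b1 * (wSL h)⁻¹ * (wSL h * xSL h t) * c by group, e]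
        group
  conj_ne := by
    rintro _ ⟨i, j, h, hij, rfl⟩ heq
    have hlt : i < j := by rw [Fin.lt_def]; omega
    have hm : wSL h * xSL h 1 * wSL h ∈ (bSub n F : Set (SLn n F)) := heq ▸ ⟨_, xSL_mem hlt 1, rfl⟩
    have h1 : ((wSL (F := F) h).1 * transvection i j (1 : F) * (wSL (F := F) h).1) j i = 0 := hm (show id i < id j from hlt)
    rw [wSL_apply_sandwich] at h1
    simp [transvection, h] at h1

theorem center_le : Subgroup.center (SLn n F) ≤ bSub n F ⊓ nSub n F := fun g hg => by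
  obtain ⟨r, -, hr⟩ := Matrix.SpecialLinearGroup.mem_center_iff.1 hg
  refine mono_one_mem fun a b hab => ?_
  rw [← hr, Matrix.scalar_apply, Matrix.diagonal_apply] at hab
  by_contra hne
  exact hab (if_neg hne)

end Cfsg.Agent.SLPair
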