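import Cfsg.Agent.Lib.Steinberg.OrthForm

/-!
# The Weyl group of type D inside the symmetric group and the split data of plus type
-/

set_option autoImplicit false
set_option linter.unusedSectionVars false
set_option linter.style.haveILetI false

namespace Cfsg.Agent.DSplit

open Matrix QuadraticMap
open Cfsg.Agent.SLPair
open Cfsg.Agent.SLBlocks (uniU isPGroup_uniU)

universe u

variable {N : ℕ} {K : Type u} [Field K]

/-- the exchange of the two middle indices, on numbers -/
def midN (N a : ℕ) : ℕ := if a + 1 = N then N else if a = N then N - 1 else a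

/-- the exchange of the two middle indices -/
def mid (N : ℕ) : Equiv.Perm (Fin (2 * N)) where
  toFun a := ⟨midN N a, by have := a.2; simp only [midN]; split_ifs <;> omega⟩
  invFun a := ⟨midN N a, by have := a.2; simp only [midN]; split_ifs <;> omega⟩
  left_inv a := Fin.ext (by have := a.2; simp only [midN]; split_ifs <;> omega)
  right_inv a := Fin.ext (by have := a.2; simp only [midN]; split_ifs <;> omega)

theorem mid_val (a : Fin (2 * N)) : ((mid N a : Fin (2 * N)) : ℕ) = midN N a := rfl

theorem mid_mid (a : Fin (2 * N)) : mid N (mid N a) = a := (mid N).left_inv a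

theorem mid_sq : mid N * mid N = 1 := Equiv.ext mid_mid

theorem mid_rev (a : Fin (2 * N)) : mid N a.rev = (mid N a).rev := by
  apply Fin.ext
  simp only [mid_val, Fin.val_rev, midN]
  have := a.2
  split_ifs <;> omega

theorem flipP_mid : flipP (mid N) = mid N := Equiv.ext fun a => by
  rw [flipP_apply, mid_rev, Fin.rev_rev]

theorem sym_apply {σ : Equiv.Perm (Fin (2 * N))} (hσ : flipP σ = σ) (a : Fin (2 * N)) : σ a.rev = (σ a).rev := by
  have := Equiv.Perm.congr_fun hσ a.rev
  rw [flipP_apply, Fin.rev_rev] at this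
  exact this.symm

/-- the middle pair does not occur -/
def Sup (a b : Fin (2 * N)) : Prop := ¬ ((a : ℕ) + 1 = N ∧ (b : ℕ) = N)

theorem mid_lt {a b : Fin (2 * N)} (h : a < b) (hs : Sup a b) : mid N a < mid N b := by
  rw [Fin.lt_def, mid_val, mid_val]
  simp only [Sup] at hs
  rw [Fin.lt_def] at h
  simp only [midN]
  split_ifs <;> omega

theorem mid_sup {a b : Fin (2 * N)} (h : a < b) (hs : Sup a b) : Sup (mid N a) (mid N b) := by
  simp only [Sup, mid_val, midN] at hs ⊢
  rw [Fin.lt_def] at h
  split_ifs <;> omega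

theorem cross_one : cross (1 : Equiv.Perm (Fin (2 * N))) = 0 := by
  rw [cross, Finset.card_eq_zero, Finset.filter_eq_empty_iff]
  intro a _ h
  rw [Equiv.Perm.one_apply] at h
  omega

theorem cross_rev : cross (Fin.revPerm : Equiv.Perm (Fin (2 * N))) = N := by
  rw [cross]
  refine Eq.trans (congrArg Finset.card (Finset.filter_congr fun a _ => ?_)) card_low
  rw [Fin.revPerm_apply, Fin.val_rev]
  have := a.2
  omega

theorem cross_keep (σ ρ : Equiv.Perm (Fin (2 * N)))
    (hρ : ∀ a : Fin (2 * N), (a : ℕ) < N ↔ ((ρ a : Fin (2 * N)) : ℕ) < N) : cross (σ * ρ) = cross σ :=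
  Finset.card_equiv ρ fun a => by
    rw [Finset.mem_filter, Finset.mem_filter]
    exact ⟨fun h => ⟨Finset.mem_univ _, (hρ a).1 h.2.1, h.2.2⟩, fun h => ⟨Finset.mem_univ _, (hρ a).2 h.2.1, h.2.2⟩⟩

theorem cross_mid (hN : 0 < N) {σ : Equiv.Perm (Fin (2 * N))} (hσ : flipP σ = σ) :
    Even (cross (σ * mid N)) ↔ ¬ Even (cross σ) := by
  obtain ⟨p, hp⟩ : ∃ p : Fin (2 * N), (p : ℕ) + 1 = N := ⟨⟨N - 1, by omega⟩, Nat.sub_add_cancel hN⟩
  have hsum : ∀ τ : Equiv.Perm (Fin (2 * N)), cross τ =
      (Finset.univ.filter fun a : Fin (2 * N) => (a : ℕ) + 1 < N ∧ N ≤ ((τ a : Fin (2 * N)) : ℕ)).card +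
        (if N ≤ ((τ p : Fin (2 * N)) : ℕ) then 1 else 0) := by
    intro τ
    by_cases h : N ≤ ((τ p : Fin (2 * N)) : ℕ)
    · rw [if_pos h, cross, ← Finset.card_insert_of_notMem (a := p)]
      · congr 1
        ext a
        simp only [Finset.mem_filter, Finset.mem_univ, true_and, Finset.mem_insert]
        constructor
        · rintro ⟨h1, h2⟩
          by_cases ha : a = p
          · exact Or.inl ha
          · exact Or.inr ⟨by have := mt Fin.ext ha; omega, h2⟩
        · rintro (rfl | ⟨h1, h2⟩)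
          · exact ⟨by omega, h⟩
          · exact ⟨by omega, h2⟩
      · simp [hp]
    · rw [if_neg h, add_zero, cross]
      congr 1
      ext a
      simp only [Finset.mem_filter, Finset.mem_univ, true_and]
      constructor
      · rintro ⟨h1, h2⟩
        have ha : a ≠ p := fun e => h (e ▸ h2)
        exact ⟨by have := mt Fin.ext ha; omega, h2⟩
      · rintro ⟨h1, h2⟩; exact ⟨by omega, h2⟩
  have hfix : ∀ a : Fin (2 * N), (a : ℕ) + 1 < N → mid N a = a := fun a ha => Fin.ext (by
    rw [mid_val]; simp only [midN]; split_ifs <;> omega)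
  have hp' : mid N p = p.rev := Fin.ext (by rw [mid_val, Fin.val_rev]; simp only [midN]; split_ifs <;> omega)
  rw [hsum σ, hsum (σ * mid N)]
  rw [show (σ * mid N) p = (σ p).rev by rw [Equiv.Perm.mul_apply, hp', sym_apply hσ]]
  rw [show (Finset.univ.filter fun a : Fin (2 * N) => (a : ℕ) + 1 < N ∧ N ≤ (((σ * mid N) a : Fin (2 * N)) : ℕ)) =
      Finset.univ.filter fun a : Fin (2 * N) => (a : ℕ) + 1 < N ∧ N ≤ ((σ a : Fin (2 * N)) : ℕ) from
    Finset.filter_congr fun a _ => and_congr_right fun ha => by rw [Equiv.Perm.mul_apply, hfix a ha]]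
  rw [Fin.val_rev]
  have := (σ p).2
  simp only [Nat.even_iff]
  split_ifs <;> omega

/-- the index of a simple reflection not meeting the middle -/
def ixA (i : Fin (N - 1)) : Idx (2 * N) := ⟨i, by have := i.2; omega⟩

theorem ref_ix (i : Fin (N - 1)) (a : Fin (2 * N)) :
    ((ref (ixA i) a : Fin (2 * N)) : ℕ) = refN (2 * N) (i : ℕ) (a : ℕ) := rfl

theorem blk_ix (i : Fin (N - 1)) (a : Fin (2 * N)) : blk (ixA i) a = blkN (2 * N) (i : ℕ) (a : ℕ) := rfl

theorem ref_keep (i : Fin (N - 1)) (a : Fin (2 * N)) :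
    (a : ℕ) < N ↔ ((ref (ixA i) a : Fin (2 * N)) : ℕ) < N := by
  rw [ref_ix]
  have := i.2
  have := a.2
  simp only [refN]
  split_ifs <;> omega

theorem blk_mid_ne (i : Fin (N - 1)) {a b : Fin (2 * N)} (h : ¬ Sup a b) : blk (ixA i) a ≠ blk (ixA i) b := by
  simp only [Sup, not_not] at h
  have := i.2
  rw [blk_ix, blk_ix]
  simp only [blkN]
  split_ifs <;> omega

/-- inversions after the exchange of the middle indices -/
theorem invs_mid_le (hN : 0 < N) (τ : Equiv.Perm (Fin (2 * N))) :
    (invs (τ * mid N)).card ≤ (invs τ).card + 1 ∧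
      ((∀ a b : Fin (2 * N), (a : ℕ) + 1 = N → (b : ℕ) = N → τ b < τ a) →
        (invs (τ * mid N)).card < (invs τ).card) := by
  classical
  obtain ⟨p, hp⟩ : ∃ p : Fin (2 * N), (p : ℕ) + 1 = N := ⟨⟨N - 1, by omega⟩, Nat.sub_add_cancel hN⟩
  have hp' : (p.rev : ℕ) = N := by rw [Fin.val_rev]; omega
  have himg : ((invs (τ * mid N)).erase (p, p.rev)).image (fun z => (mid N z.1, mid N z.2)) ⊆
      (invs τ).erase (p, p.rev) := by
    intro z hz
    obtain ⟨⟨a, b⟩, hab, rfl⟩ := Finset.mem_image.1 hz
    obtain ⟨hne, hab⟩ := Finset.mem_erase.1 hab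
    unfold invs at hab
    rw [Finset.mem_filter] at hab
    obtain ⟨-, hab⟩ := hab
    simp only [Equiv.Perm.mul_apply] at hab
    have hs : Sup a b := fun ⟨h1, h2⟩ => hne (Prod.ext (Fin.ext (show (a : ℕ) = p by omega))
      (Fin.ext (show (b : ℕ) = (p.rev : ℕ) by omega)))
    refine Finset.mem_erase.2 ⟨fun e => mid_sup hab.1 hs ?_, ?_⟩
    · rw [Prod.mk.injEq] at e
      exact ⟨by rw [e.1]; exact hp, by rw [e.2]; exact hp'⟩
    · simp only [invs, Finset.mem_filter, Finset.mem_univ, true_and]
      exact ⟨mid_lt hab.1 hs, hab.2⟩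
  have hcard := Finset.card_le_card himg
  rw [Finset.card_image_of_injective _ fun z w h => Prod.ext ((mid N).injective (congrArg Prod.fst h))
    ((mid N).injective (congrArg Prod.snd h))] at hcard
  have h1 : (invs (τ * mid N)).card ≤ ((invs (τ * mid N)).erase (p, p.rev)).card + 1 :=
    by have := Finset.pred_card_le_card_erase (s := invs (τ * mid N)) (a := (p, p.rev)); omega
  have h2 := Finset.card_erase_le (s := invs τ) (a := (p, p.rev))
  refine ⟨by omega, fun hneg => ?_⟩
  have hin : (p, p.rev) ∈ invs τ := by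
    simp only [invs, Finset.mem_filter, Finset.mem_univ, true_and]
    exact ⟨by rw [Fin.lt_def]; omega, hneg p p.rev hp hp'⟩
  have hnin : (p, p.rev) ∉ invs (τ * mid N) := by
    intro h
    unfold invs at h
    rw [Finset.mem_filter] at h
    obtain ⟨-, -, h⟩ := h
    simp only [Equiv.Perm.mul_apply] at h
    rw [show mid N p = p.rev from Fin.ext (by rw [mid_val, hp']; simp only [midN]; rw [if_pos hp]),
      show mid N p.rev = p from Fin.ext (by rw [mid_val]; simp only [midN]; split_ifs <;> omega)] at h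
    exact lt_asymm h (hneg p p.rev hp hp')
  rw [Finset.erase_eq_of_notMem hnin, Finset.card_erase_of_mem hin] at hcard
  have := Finset.card_pos.2 ⟨_, hin⟩
  omega

/-- an isometry has singular columns -/
theorem InO.col {g : SLn (2 * N) K} (hg : InO g) (b : Fin (2 * N)) :
    ∑ j : Fin N, g.1 (idxA N (.inl j)) b * g.1 (idxA N (.inl j)).rev b = 0 := by
  have h := hg (Pi.single b 1)
  rw [qA_apply, qA_apply, mulVec_single_one] at h
  simp only [Matrix.col_apply] at h
  rw [h]
  refine Finset.sum_eq_zero fun j _ => ?_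
  by_cases e : idxA N (.inl j) = b
  · rw [Pi.single_eq_of_ne (fun e' : (idxA N (.inl j)).rev = b => by
      have h3 := congrArg Fin.val (e'.trans e.symm)
      have := j.2
      rw [Fin.val_rev, idxA_inl] at h3
      omega), mul_zero]
  · rw [Pi.single_eq_of_ne e, zero_mul]

theorem sup_of_uni {g : SLn (2 * N) K} (hg : InO g) (hu : g ∈ uniU (2 * N) K) :
    ∀ a b, a < b → g.1 a b ≠ 0 → Sup a b := by
  rintro a b - hne ⟨ha, hb⟩
  apply hne
  have h := hg.col b
  rw [Finset.sum_eq_single (⟨N - 1, by omega⟩ : Fin N)] at h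
  · rw [show idxA N (.inl (⟨N - 1, by omega⟩ : Fin N)) = a from Fin.ext (by rw [idxA_inl]; simp only; omega),
      show a.rev = b from Fin.ext (by rw [Fin.val_rev]; omega), hu.2, mul_one] at h
    exact h
  · intro j _ hj
    refine mul_eq_zero_of_right _ (hu.1 ?_)
    have := mt (Fin.ext (a := j) (b := ⟨N - 1, by omega⟩)) hj
    have := j.2
    show id b < id (idxA N (.inl j)).rev
    simp only [id, Fin.lt_def, Fin.val_rev, idxA_inl]
    simp only at *
    omega
  · simp

/-- the longest element -/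
def w0A (N : ℕ) : Equiv.Perm (Fin (2 * N)) :=
  if Even N then Fin.revPerm else Fin.revPerm * mid N

theorem w0A_good : flipP (w0A N) = w0A N ∧ Even (cross (w0A N)) := by
  unfold w0A
  split_ifs with h
  · exact ⟨flipP_rev, by rwa [cross_rev]⟩
  · refine ⟨by rw [flipP_mul, flipP_rev, flipP_mid], ?_⟩
    rw [cross_mid (Nat.pos_of_ne_zero fun e => h (by rw [e]; exact Even.zero)) flipP_rev, cross_rev]
    exact h

theorem w0A_long (a b : Fin (2 * N)) (h : a < b) (hs : Sup a b) :
    w0A N b < w0A N a ∧ (w0A N)⁻¹ b < (w0A N)⁻¹ a := by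
  have hs' : Sup b.rev a.rev := by
    simp only [Sup, Fin.val_rev] at hs ⊢
    have := a.2; have := b.2
    omega
  unfold w0A
  split_ifs
  · exact ⟨Fin.rev_lt_rev.2 h, Fin.rev_lt_rev.2 h⟩
  · exact ⟨Fin.rev_lt_rev.2 (mid_lt h hs), mid_lt (Fin.rev_lt_rev.2 h) hs'⟩

theorem w0A_comm (a : Fin (2 * N)) : w0A N (mid N a) = mid N (w0A N a) := by
  unfold w0A
  split_ifs
  · exact (mid_rev a).symm
  · exact (mid_rev (mid N a)).symm

/-! ### The split data of plus type -/

/-- the reflections of plus type -/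
abbrev IPlus (N : ℕ) : Type := Fin (N - 1) ⊕ {i : Fin (N - 1) // (i : ℕ) + 2 = N}

/-- the underlying linear index -/
def IPlus.base : IPlus N → Fin (N - 1) := Sum.elim id Subtype.val

/-- the twisting exchange -/
def IPlus.tws : IPlus N → Equiv.Perm (Fin (2 * N)) := Sum.elim (fun _ => 1) (fun _ => mid N)

theorem IPlus.tws_cases (i : IPlus N) : i.tws = 1 ∨ (i.tws = mid N ∧ (i.base : ℕ) + 2 = N) := by
  rcases i with i | i
  · exact Or.inl rfl
  · exact Or.inr ⟨rfl, i.2⟩

theorem IPlus.tws_tws (i : IPlus N) (a : Fin (2 * N)) : i.tws (i.tws a) = a := by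
  rcases i.tws_cases with h | ⟨h, -⟩ <;> rw [h]
  · rfl
  · exact mid_mid a

theorem IPlus.tws_flip (i : IPlus N) : flipP i.tws = i.tws := by
  rcases i.tws_cases with h | ⟨h, -⟩ <;> rw [h]
  · exact flipP_one
  · exact flipP_mid

theorem IPlus.tws_lt (i : IPlus N) {a b : Fin (2 * N)} (h : a < b) (hs : Sup a b) :
    i.tws a < i.tws b ∧ Sup (i.tws a) (i.tws b) := by
  rcases i.tws_cases with e | ⟨e, -⟩ <;> rw [e]
  · exact ⟨h, hs⟩
  · exact ⟨mid_lt h hs, mid_sup h hs⟩

/-- the reflection -/
def rPlus (i : IPlus N) : Equiv.Perm (Fin (2 * N)) := i.tws * ref (ixA i.base) * i.tws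

theorem rPlus_apply (i : IPlus N) (a : Fin (2 * N)) : rPlus i a = i.tws (ref (ixA i.base) (i.tws a)) := rfl

/-- the blocks -/
def blkPlus (i : IPlus N) (a : Fin (2 * N)) : ℕ := blk (ixA i.base) (i.tws a)

/-- symmetric with an even number of crossings -/
def GoodP (σ : Equiv.Perm (Fin (2 * N))) : Prop := flipP σ = σ ∧ Even (cross σ)

theorem rPlus_flip (i : IPlus N) : flipP (rPlus i) = rPlus i := by
  rw [rPlus, flipP_mul, flipP_mul, i.tws_flip, flipP_ref]

theorem cross_rPlus (i : IPlus N) {σ : Equiv.Perm (Fin (2 * N))} (hσ : GoodP σ) : Even (cross (σ * rPlus i)) := by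
  rcases i.tws_cases with e | ⟨e, he⟩
  · rw [rPlus, e, one_mul, mul_one, cross_keep _ _ (ref_keep _)]
    exact hσ.2
  · have h1 : flipP (σ * mid N) = σ * mid N := by rw [flipP_mul, hσ.1, flipP_mid]
    have h2 : flipP (σ * mid N * ref (ixA i.base)) = σ * mid N * ref (ixA i.base) := by
      rw [flipP_mul, h1, flipP_ref]
    rw [rPlus, e, ← mul_assoc, ← mul_assoc, cross_mid (by omega) h2, cross_keep _ _ (ref_keep _),
      cross_mid (by omega) hσ.1, not_not]
    exact hσ.2

theorem rPlus_inj : Function.Injective (rPlus (N := N)) := by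
  intro i j h
  rcases i with i | ⟨i, hi⟩ <;> rcases j with j | ⟨j, hj⟩
  · rw [show i = j from Fin.ext (congrArg (fun x : Idx (2 * N) => (x : ℕ)) (ref_injective
      (show ref (ixA i) = ref (ixA j) from h)))]
  · exfalso
    have h1 : ref (ixA i) = mid N * ref (ixA j) * mid N := h
    have h2 := (ref_keep i ⟨j, by have := j.2; omega⟩).1 (by simp only; omega)
    rw [h1, Equiv.Perm.mul_apply, Equiv.Perm.mul_apply,
      show mid N (⟨j, by have := j.2; omega⟩ : Fin (2 * N)) = ⟨j, by have := j.2; omega⟩ from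
        Fin.ext (by rw [mid_val]; simp only [midN]; split_ifs <;> omega)] at h2
    rw [mid_val, ref_ix] at h2
    simp only [refN, midN] at h2
    split_ifs at h2 <;> omega
  · exfalso
    have h1 : mid N * ref (ixA i) * mid N = ref (ixA j) := h
    have h2 := (ref_keep j ⟨i, by have := i.2; omega⟩).1 (by simp only; omega)
    rw [← h1, Equiv.Perm.mul_apply, Equiv.Perm.mul_apply,
      show mid N (⟨i, by have := i.2; omega⟩ : Fin (2 * N)) = ⟨i, by have := i.2; omega⟩ from
        Fin.ext (by rw [mid_val]; simp only [midN]; split_ifs <;> omega)] at h2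
    rw [mid_val, ref_ix] at h2
    simp only [refN, midN] at h2
    split_ifs at h2 <;> omega
  · have : i = j := Fin.ext (by omega)
    subst this
    rfl

theorem plus_sign (i : IPlus N) {σ : Equiv.Perm (Fin (2 * N))} (hσ : GoodP σ) :
    (∀ a b, a < b → Sup a b → blkPlus i a = blkPlus i b → σ a < σ b) ∨
    (∀ a b, a < b → Sup a b → blkPlus i a = blkPlus i b → σ b < σ a) := by
  rcases sign_blocks (ixA i.base) (σ := σ * i.tws) (by rw [flipP_mul, hσ.1, i.tws_flip]) with h | h
  · refine Or.inl fun a b hab hs hb => ?_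
    have := h _ _ (i.tws_lt hab hs).1 hb
    simpa [i.tws_tws] using this
  · refine Or.inr fun a b hab hs hb => ?_
    have := h _ _ (i.tws_lt hab hs).1 hb
    simpa [i.tws_tws] using this

theorem plus_descent {σ : Equiv.Perm (Fin (2 * N))} (hσ : GoodP σ) (h1 : σ ≠ 1) :
    ∃ i : IPlus N, (∀ a b, a < b → Sup a b → blkPlus i a = blkPlus i b → σ b < σ a) ∧
      (invs (σ * rPlus i)).card < (invs σ).card := by
  have hlin : ∀ (i : Fin (N - 1)) (τ : Equiv.Perm (Fin (2 * N))),
      (∀ a b, a < b → blk (ixA i) a = blk (ixA i) b → τ b < τ a) → τ = σ →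
      ∃ i : IPlus N, (∀ a b, a < b → Sup a b → blkPlus i a = blkPlus i b → σ b < σ a) ∧
        (invs (σ * rPlus i)).card < (invs σ).card := by
    rintro i _ hi rfl
    refine ⟨Sum.inl i, fun a b hab _ hb => hi a b hab hb, ?_⟩
    rw [show rPlus (Sum.inl i) = ref (ixA i) from rfl]
    exact invs_lt _ hi
  obtain ⟨⟨k, hk⟩, hkneg⟩ := exists_descent hσ.1 h1
  by_cases hkN : k + 1 < N
  · exact hlin ⟨k, by omega⟩ σ hkneg rfl
  have hk' : k + 1 = N := by omega
  have hN : 0 < N := by omega
  have hmidneg : ∀ a b : Fin (2 * N), (a : ℕ) + 1 = N → (b : ℕ) = N → σ b < σ a := fun a b ha hb =>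
    hkneg a b (by rw [Fin.lt_def]; omega) (by simp only [blk, blkN]; split_ifs <;> omega)
  have hσc : flipP (σ * mid N) = σ * mid N := by rw [flipP_mul, hσ.1, flipP_mid]
  have hτ1 : σ * mid N ≠ 1 := fun e => by
    have h2 := (cross_mid hN hσ.1).1 (by rw [e, cross_one]; exact Even.zero)
    exact h2 hσ.2
  obtain ⟨⟨l, hl⟩, hlneg⟩ := exists_descent hσc hτ1
  have hlN : l + 1 < N := by
    by_contra hge
    have hl' : l + 1 = N := by omega
    obtain ⟨p, hp⟩ : ∃ p : Fin (2 * N), (p : ℕ) + 1 = N := ⟨⟨N - 1, by omega⟩, Nat.sub_add_cancel hN⟩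
    have hp' : (p.rev : ℕ) = N := by rw [Fin.val_rev]; omega
    have h2 := hlneg p p.rev (by rw [Fin.lt_def]; omega) (by simp only [blk, blkN]; split_ifs <;> omega)
    rw [Equiv.Perm.mul_apply, Equiv.Perm.mul_apply,
      show mid N p = p.rev from Fin.ext (by rw [mid_val, hp']; simp only [midN]; rw [if_pos hp]),
      show mid N p.rev = p from Fin.ext (by rw [mid_val]; simp only [midN]; split_ifs <;> omega)] at h2
    exact lt_asymm h2 (hmidneg p p.rev hp hp')
  by_cases hl2 : l + 2 = N
  · refine ⟨Sum.inr ⟨⟨l, by omega⟩, hl2⟩, fun a b hab hs hb => ?_, ?_⟩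
    · have := hlneg _ _ (mid_lt hab hs) hb
      simpa [mid_mid] using this
    · have hd := invs_lt (⟨l, hl⟩ : Idx (2 * N)) hlneg
      have h2 := (invs_mid_le hN (σ * mid N * ref ⟨l, hl⟩)).1
      have h3 := (invs_mid_le hN σ).2 hmidneg
      rw [show σ * rPlus (Sum.inr ⟨⟨l, by omega⟩, hl2⟩) = σ * mid N * ref ⟨l, hl⟩ * mid N by
        show σ * (mid N * ref (⟨l, hl⟩ : Idx (2 * N)) * mid N) = _
        rw [mul_assoc, mul_assoc, mul_assoc]]
      omega
  · refine hlin ⟨l, by omega⟩ σ (fun a b hab hb => ?_) rfl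
    have hab' : a ≠ b := hab.ne
    have hfix : ∀ x y : Fin (2 * N), x ≠ y → blk (ixA ⟨l, by omega⟩) x = blk (ixA ⟨l, by omega⟩) y →
        mid N x = x := by
      intro x y hxy hb
      apply Fin.ext
      have := mt Fin.ext hxy
      rw [mid_val]
      rw [blk_ix, blk_ix] at hb
      simp only [blkN] at hb
      simp only [midN]
      split_ifs at hb ⊢ <;> omega
    have h2 := hlneg a b hab hb
    rwa [Equiv.Perm.mul_apply, Equiv.Perm.mul_apply, hfix a b hab' hb, hfix b a hab'.symm hb.symm] at h2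

variable [Fintype K]

set_option maxHeartbeats 1000000 in
theorem plus_pres (i : IPlus N) {v : SLn (2 * N) K} (hvO : InO v) (hv : v ∈ uniU (2 * N) K)
    (h0 : ∀ a b, rPlus i a < rPlus i b → v.1 a b = 0) :
    ∀ a b, v.1 a b ≠ 0 → blkPlus i a = blkPlus i b := by
  intro a b hne
  by_contra hb
  have hab : a < b := lt_of_le_of_ne (le_of_not_gt fun h => hne (hv.1 (show id b < id a from h)))
    fun e => hb (by rw [e])
  obtain ⟨h1, h2⟩ := i.tws_lt hab (sup_of_uni hvO hv a b hab hne)
  have h3 : ref (ixA i.base) (i.tws a) < ref (ixA i.base) (i.tws b) :=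
    ref_mono _ (lt_of_le_of_ne (blk_mono _ h1.le) hb)
  rcases i.tws_cases with e | ⟨e, he⟩
  · exact hne (h0 a b (by rwa [rPlus_apply, rPlus_apply, e, Equiv.Perm.one_apply, Equiv.Perm.one_apply,
      ← show i.tws a = a by rw [e]; rfl, ← show i.tws b = b by rw [e]; rfl]))
  · by_cases hS : Sup (ref (ixA i.base) (i.tws a)) (ref (ixA i.base) (i.tws b))
    · refine hne (h0 a b ?_)
      rw [rPlus_apply, rPlus_apply]
      exact (i.tws_lt h3 hS).1
    -- the long pair
    obtain ⟨hA, hB⟩ := not_not.1 hS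
    have hta : (mid N a : Fin (2 * N)) = ref (ixA i.base) (ref (ixA i.base) (i.tws a)) := by
      rw [← Equiv.Perm.mul_apply, ref_mul_self, Equiv.Perm.one_apply, e]
    have htb : (mid N b : Fin (2 * N)) = ref (ixA i.base) (ref (ixA i.base) (i.tws b)) := by
      rw [← Equiv.Perm.mul_apply, ref_mul_self, Equiv.Perm.one_apply, e]
    have f1 : midN N N = N - 1 := by simp only [midN]; split_ifs <;> omega
    have f2 : midN N (N + 1) = N + 1 := by simp only [midN]; split_ifs <;> omega
    have f3 : refN (2 * N) (i.base : ℕ) (N - 1) = N - 2 := by simp only [refN]; split_ifs <;> omega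
    have f4 : refN (2 * N) (i.base : ℕ) (N + 1) = N := by simp only [refN]; split_ifs <;> omega
    have f5 : midN N (N - 2) = N - 2 := by simp only [midN]; split_ifs <;> omega
    have f6 : refN (2 * N) (i.base : ℕ) N = N + 1 := by simp only [refN]; split_ifs <;> omega
    have haN : (a : ℕ) + 2 = N := by
      have h4 := congrArg Fin.val hta
      rw [mid_val, ref_ix, show ((ref (ixA i.base) (i.tws a) : Fin (2 * N)) : ℕ) = N - 1 by omega, f3] at h4
      simp only [midN] at h4
      split_ifs at h4 <;> omega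
    have hbN : (b : ℕ) = N + 1 := by
      have h4 := congrArg Fin.val htb
      rw [mid_val, ref_ix, hB, f6] at h4
      simp only [midN] at h4
      split_ifs at h4 <;> omega
    have h := hvO.col b
    rw [Finset.sum_eq_single (⟨a, by omega⟩ : Fin N)] at h
    · rw [show idxA N (.inl (⟨a, by omega⟩ : Fin N)) = a from Fin.ext (by rw [idxA_inl]),
        show a.rev = b from Fin.ext (by rw [Fin.val_rev]; omega), hv.2, mul_one] at h
      exact hne h
    · intro j _ hj
      refine mul_eq_zero_of_right _ ?_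
      have hj' : (j : ℕ) ≠ a := fun e' => hj (Fin.ext e')
      have := j.2
      by_cases hj2 : (j : ℕ) + 1 = N
      · refine h0 _ b ?_
        rw [rPlus_apply, rPlus_apply, e, Fin.lt_def]
        rw [mid_val, mid_val, ref_ix, ref_ix, mid_val, mid_val, Fin.val_rev, idxA_inl, hbN,
          show 2 * N - ((j : ℕ) + 1) = N by omega, f1, f2, f3, f4, f5, f1]
        omega
      · refine hv.1 ?_
        show id b < id (idxA N (.inl j)).rev
        simp only [id, Fin.lt_def, Fin.val_rev, idxA_inl]
        omega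
    · simp

/-- the split data of plus type -/
noncomputable def plusSplit (G : Subgroup (SLn (2 * N) K)) (hG : ∀ g ∈ G, InO g ∧ Pr g)
    (mem : ∀ g : SLn (2 * N) K, g ∈ uniU (2 * N) K ∨ g ∈ loU (2 * N) K → InO g → g ∈ G) : Split (2 * N) K where
  G := G
  dec g hg σ u m v hu hm hv hc e := by
    obtain ⟨-, h1, -, h3⟩ := dec_inO (hG g hg).1 hu hm hv hc e
    exact ⟨mem u (Or.inl hu) h1, mem v (Or.inl hv) h3⟩
  Supp := Sup
  supp u hG' hu := sup_of_uni (hG u hG').1 hu
  Good := GoodP
  good_of_mem m hm σ hσ :=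
    ⟨by
      have h := tw_mono _ (fun _ => one_ne_zero) (RingHom.id K) m σ hσ
      rw [(hG m hm).1.tw_fixed] at h
      exact Mono.unique h hσ, even_cross (hG m hm).1 (hG m hm).2 hσ⟩
  Bad _ := False
  not_bad _ _ _ _ h := h
  ι := IPlus N
  r := rPlus
  blk := blkPlus
  r_sq i := Equiv.ext fun a => by
    rw [Equiv.Perm.mul_apply, rPlus_apply, rPlus_apply, i.tws_tws, ← Equiv.Perm.mul_apply (ref _) (ref _),
      ref_mul_self, Equiv.Perm.one_apply, i.tws_tws, Equiv.Perm.one_apply]
  r_inj := rPlus_inj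
  blk_r i a := by rw [blkPlus, rPlus_apply, i.tws_tws, blk_ref, blkPlus]
  blk_mono i _ _ hab hs := blk_mono _ (i.tws_lt hab hs).1.le
  r_anti i a b hab hs hb := by
    have h1 := ref_anti _ (i.tws_lt hab hs).1 hb
    have h2 : Sup (ref (ixA i.base) (i.tws b)) (ref (ixA i.base) (i.tws a)) := by
      by_contra h2
      refine blk_mid_ne i.base h2 ?_
      rw [blk_ref, blk_ref]
      exact hb.symm
    exact i.tws_lt h1 h2
  pres i v hvG hv h0 := plus_pres i (hG v hvG).1 hv h0
  root i := by
    obtain ⟨q, hq⟩ : ∃ q : Fin (2 * N), (q : ℕ) = i.base := ⟨⟨i.base, by have := i.base.2; omega⟩, rfl⟩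
    obtain ⟨p, hp⟩ : ∃ p : Fin (2 * N), (p : ℕ) = i.base + 1 := ⟨⟨i.base + 1, by have := i.base.2; omega⟩, rfl⟩
    have hb2 := i.base.2
    have hqN : (q : ℕ) < N := by omega
    have htq : ((i.tws q : Fin (2 * N)) : ℕ) = q := by
      rcases i.tws_cases with e | ⟨e, he⟩ <;> rw [e]
      · rfl
      · rw [mid_val]; simp only [midN]; split_ifs <;> omega
    have htp : q < i.tws p ∧ i.tws p < q.rev := by
      rcases i.tws_cases with e | ⟨e, he⟩ <;> rw [e] <;> simp only [Fin.lt_def, Fin.val_rev, mid_val,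
        Equiv.Perm.one_apply]
      · omega
      · simp only [midN]; split_ifs <;> omega
    obtain ⟨g, hg, hgl, hgO⟩ := exists_sieg q (Pi.single (i.tws p) (1 : K)) hqN fun a ha => by
      by_cases h : a = i.tws p
      · exact h ▸ htp
      · exact absurd (Pi.single_eq_of_ne h _) ha
    have hne : i.tws p ≠ q := htp.1.ne'
    have hne' : i.tws p ≠ q.rev := htp.2.ne
    refine ⟨g, hgl, mem g (Or.inr hgl) hgO, fun e => ?_, fun a b hab hne0 => ?_⟩
    · have h := congrFun (congrFun (congrArg Subtype.val e) (i.tws p)) q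
      rw [hg, sieg_apply, if_neg hne, if_pos rfl, Pi.single_eq_same, if_neg hne',
        Matrix.SpecialLinearGroup.coe_one, Matrix.one_apply_ne hne, zero_add, sub_zero] at h
      exact one_ne_zero h
    · rw [hg, sieg_apply, if_neg hab] at hne0
      have hqy : qA N K (Pi.single (i.tws p) (1 : K)) = 0 := by
        rw [qA_apply]
        refine Finset.sum_eq_zero fun j _ => ?_
        by_cases e : idxA N (.inl j) = i.tws p
        · rw [Pi.single_eq_of_ne (fun e' : (idxA N (.inl j)).rev = i.tws p => by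
            have h3 := congrArg Fin.val (e'.trans e.symm)
            have := j.2
            rw [Fin.val_rev, idxA_inl] at h3
            omega), mul_zero]
        · rw [Pi.single_eq_of_ne e, zero_mul]
      rw [hqy] at hne0
      have hcases : (a = i.tws p ∧ b = q) ∨ (a = q.rev ∧ b = (i.tws p).rev) := by
        by_cases hbq : b = q
        · by_cases hap : a = i.tws p
          · exact Or.inl ⟨hap, hbq⟩
          · right
            by_cases haq : a = q.rev
            · refine ⟨haq, ?_⟩
              by_contra hbp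
              simp [hbq, Pi.single_eq_of_ne hap, haq, Pi.single_eq_of_ne
                (show b.rev ≠ i.tws p from fun e => hbp (by rw [← e, Fin.rev_rev]))] at hne0
            · simp [hbq, Pi.single_eq_of_ne hap, haq] at hne0
        · right
          by_cases haq : a = q.rev
          · refine ⟨haq, ?_⟩
            by_contra hbp
            simp [hbq, haq, Pi.single_eq_of_ne
              (show b.rev ≠ i.tws p from fun e => hbp (by rw [← e, Fin.rev_rev]))] at hne0
          · simp [hbq, haq] at hne0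
      have hsym := sym_apply i.tws_flip
      rcases hcases with ⟨rfl, rfl⟩ | ⟨rfl, rfl⟩
      · refine ⟨?_, fun h => ?_⟩
        · simp only [blkPlus, i.tws_tws, blk_ix, hp, htq, hq]
          simp only [blkN]
          split_ifs <;> omega
        · obtain ⟨h1, -⟩ := h
          omega
      · refine ⟨?_, fun h => ?_⟩
        · simp only [blkPlus, hsym, i.tws_tws, blk_ix, Fin.val_rev, htq, hp, hq]
          simp only [blkN]
          split_ifs <;> omega
        · obtain ⟨-, h2⟩ := h
          rw [Fin.val_rev] at h2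
          omega
  good_mul i σ hσ := ⟨by rw [flipP_mul, hσ.1, rPlus_flip], cross_rPlus i hσ⟩
  sign i _ hσ := plus_sign i hσ
  eq_one_or i σ hσ hb := by
    rcases eq_one_or_ref (ixA i.base) (σ := i.tws * σ * i.tws) (by rw [flipP_mul, flipP_mul, hσ.1, i.tws_flip])
      (fun a => by
        show blk _ (i.tws (σ (i.tws a))) = _
        rw [show blk (ixA i.base) (i.tws (σ (i.tws a))) = blkPlus i (σ (i.tws a)) from rfl, hb,
          blkPlus, i.tws_tws]) with h | h
    · left
      refine Equiv.ext fun a => ?_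
      have := Equiv.Perm.congr_fun h (i.tws a)
      simp only [Equiv.Perm.mul_apply, i.tws_tws, Equiv.Perm.one_apply] at this
      exact i.tws.injective this
    · right; left
      refine Equiv.ext fun a => ?_
      have := Equiv.Perm.congr_fun h (i.tws a)
      simp only [Equiv.Perm.mul_apply, i.tws_tws] at this
      rw [rPlus_apply, ← this, i.tws_tws]
  c := 1
  bad_c h := (h rfl).elim
  descent _ hσ h1 _ := plus_descent hσ h1
  w0 := w0A N
  good_w0 := w0A_good
  long τ hτ a b hab hs := by
    rw [inv_one, one_mul, or_self] at hτ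
    rw [hτ]
    exact w0A_long a b hab hs

end Cfsg.Agent.DSplit
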