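import Cfsg.Agent.Lib.Steinberg.OrthForm
import Cfsg.Agent.Lib.Orthogonal.IndexTwo
import Cfsg.Agent.Lib.Orthogonal.OmegaIndex

/-!
# The image of an orthogonal group in a split orthogonal group

A change of coordinates over an extension field which carries a quadratic form to the antidiagonal hyperbolic form.
-/

set_option autoImplicit false
set_option linter.unusedSectionVars false
set_option linter.style.haveILetI false

namespace Cfsg.Agent.DSplit

open Matrix QuadraticMap
open Cfsg.Agent.SLPair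
open Cfsg.Agent.SLBlocks (uniU isPGroup_uniU)

universe u v

variable {N : ℕ} {J : Type} [Fintype J] [DecidableEq J] {F : Type u} [Field F] {K : Type v} [Field K] [Algebra F K]

/-- coordinates making a form hyperbolic -/
structure Coord (N : ℕ) (Q : QuadraticForm F (J → F)) (K : Type v) [Field K] [Algebra F K] where
  /-- the matrix of the coordinates -/
  P : Matrix (Fin (2 * N)) J K
  /-- its inverse -/
  Pi : Matrix J (Fin (2 * N)) K
  mul_inv : P * Pi = 1
  inv_mul : Pi * P = 1
  hq : ∀ x : J → F, qA N K (P *ᵥ fun j => algebraMap F K (x j)) = algebraMap F K (Q x)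

namespace Coord

variable {Q : QuadraticForm F (J → F)} (C : Coord N Q K)

/-- the transported matrix -/
def tr : Matrix J J F →* Matrix (Fin (2 * N)) (Fin (2 * N)) K where
  toFun g := C.P * g.map (algebraMap F K) * C.Pi
  map_one' := by rw [Matrix.map_one _ (map_zero _) (map_one _), Matrix.mul_one, C.mul_inv]
  map_mul' g h := by
    rw [Matrix.map_mul]
    simp only [Matrix.mul_assoc]
    rw [← Matrix.mul_assoc C.Pi C.P, C.inv_mul, Matrix.one_mul]

/-- the coordinates of a rational vector -/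
def vec (x : J → F) : Fin (2 * N) → K := C.P *ᵥ fun j => algebraMap F K (x j)

theorem vec_add (x y : J → F) : C.vec (x + y) = C.vec x + C.vec y := by
  rw [vec, vec, vec, ← mulVec_add]
  congr 1
  ext j
  simp

theorem vec_smul (t : F) (x : J → F) : C.vec (t • x) = algebraMap F K t • C.vec x := by
  rw [vec, vec, ← mulVec_smul]
  congr 1
  ext j
  simp

theorem polar_vec (x y : J → F) : polar (qA N K) (C.vec x) (C.vec y) = algebraMap F K (polar Q x y) := by
  show qA N K (C.vec x + C.vec y) - qA N K (C.vec x) - qA N K (C.vec y) = _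
  rw [← C.vec_add]
  simp only [polar, vec, C.hq, map_sub]

theorem tr_vec (g : Matrix J J F) (x : J → F) : C.tr g *ᵥ C.vec x = C.vec (g *ᵥ x) := by
  show (C.P * g.map (algebraMap F K) * C.Pi) *ᵥ (C.P *ᵥ _) = C.P *ᵥ _
  rw [← mulVec_mulVec, mulVec_mulVec _ C.Pi C.P, C.inv_mul, one_mulVec, ← mulVec_mulVec]
  congr 1
  ext j
  simp [Matrix.mulVec, dotProduct, map_sum]

theorem vec_single (i : J) : C.vec (Pi.single i 1) = C.P *ᵥ Pi.single i 1 := by
  rw [vec]
  congr 1
  ext j
  simp only [Pi.single_apply]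
  split_ifs <;> simp

/-- matrices agreeing on the rational vectors are equal -/
theorem ext_vec {M M' : Matrix (Fin (2 * N)) (Fin (2 * N)) K} (h : ∀ x, M *ᵥ C.vec x = M' *ᵥ C.vec x) :
    M = M' := by
  have h1 : M * C.P = M' * C.P := by
    refine Matrix.ext_of_mulVec_single fun i => ?_
    rw [← mulVec_mulVec, ← mulVec_mulVec, ← C.vec_single]
    exact h _
  calc M = M * C.P * C.Pi := by rw [Matrix.mul_assoc, C.mul_inv, Matrix.mul_one]
    _ = M' * C.P * C.Pi := by rw [h1]
    _ = M' := by rw [Matrix.mul_assoc, C.mul_inv, Matrix.mul_one]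

theorem tr_iso {g : GL J F} (hg : g ∈ Cfsg.isometryGroup F (⇑Q)) (x : Fin (2 * N) → K) :
    qA N K (C.tr g.1 *ᵥ x) = qA N K x := by
  have hq' : ∀ z, qA N K (C.tr g.1 *ᵥ C.vec z) = qA N K (C.vec z) := fun z => by
    rw [C.tr_vec, vec, vec, C.hq, C.hq, Orth.mem_isometryGroup.1 hg]
  have h := ext_basis (((qA N K).comp (Matrix.toLin' (C.tr g.1))).comp (Matrix.toLin' C.P))
    ((qA N K).comp (Matrix.toLin' C.P))
    (fun i => by
      rw [QuadraticMap.comp_apply, QuadraticMap.comp_apply, QuadraticMap.comp_apply, Matrix.toLin'_apply,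
        Matrix.toLin'_apply, ← C.vec_single]
      exact hq' _)
    (fun i j => by
      have e1 := hq' (Pi.single i 1 + Pi.single j 1)
      have e2 := hq' (Pi.single i 1)
      have e3 := hq' (Pi.single j 1)
      rw [C.vec_add, mulVec_add] at e1
      simp only [polar, QuadraticMap.comp_apply, map_add, Matrix.toLin'_apply, ← C.vec_single]
      rw [e1, e2, e3])
  have := QuadraticMap.congr_fun h (C.Pi *ᵥ x)
  simpa [mulVec_mulVec, C.mul_inv, one_mulVec] using this

/-- the homomorphism of isometry groups -/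
def isoHom : Cfsg.isometryGroup F (⇑Q) →* Cfsg.isometryGroup K (⇑(qA N K)) :=
  MonoidHom.codRestrict ((Units.map C.tr).comp (Cfsg.isometryGroup F (⇑Q)).subtype) _
    fun g => Orth.mem_isometryGroup.2 (C.tr_iso g.2)

theorem tr_inj : Function.Injective C.tr := by
  intro g h e
  have e' : C.P * g.map (algebraMap F K) * C.Pi = C.P * h.map (algebraMap F K) * C.Pi := e
  have e1 := congrArg (fun M => C.Pi * M * C.P) e'
  simp only [Matrix.mul_assoc, C.inv_mul, Matrix.mul_one] at e1
  rw [← Matrix.mul_assoc, ← Matrix.mul_assoc, C.inv_mul, Matrix.one_mul, Matrix.one_mul] at e1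
  exact Matrix.map_injective (algebraMap F K).injective e1

theorem det_omega (g : Cfsg.Omega F (⇑Q)) : (C.tr g.1.1.1).det = 1 := by
  let d : Cfsg.isometryGroup F (⇑Q) →* Kˣ :=
    (Matrix.GeneralLinearGroup.det.comp (Cfsg.isometryGroup K (⇑(qA N K))).subtype).comp C.isoHom
  exact congrArg Units.val (show d g.1 = 1 from Abelianization.commutator_subset_ker d g.2)

/-- the embedding in the special linear group -/
def emb : Cfsg.Omega F (⇑Q) →* SLn (2 * N) K :=
  MonoidHom.mk' (fun g => ⟨C.tr g.1.1.1, C.det_omega g⟩) fun a b => Subtype.ext (map_mul C.tr a.1.1.1 b.1.1.1)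

theorem emb_inj : Function.Injective C.emb := fun _ _ h =>
  Subtype.ext (Subtype.ext (Units.ext (C.tr_inj (congrArg Subtype.val h))))

/-- the image group -/
def img : Subgroup (SLn (2 * N) K) := C.emb.range

variable [Fintype K]

theorem img_spec : ∀ g ∈ C.img, InO g ∧ Pr g := by
  rintro _ ⟨g, rfl⟩
  refine ⟨C.tr_iso g.1.2, ?_⟩
  have hmem : C.isoHom g.1 ∈ Cfsg.Omega K (⇑(qA N K)) := by
    have h : (Cfsg.Omega F (⇑Q)).map C.isoHom ≤ Cfsg.Omega K (⇑(qA N K)) := by
      show (commutator _).map C.isoHom ≤ commutator _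
      rw [commutator_def, commutator_def, Subgroup.map_commutator]
      exact Subgroup.commutator_mono le_top le_top
    exact h ⟨g.1, g.2, rfl⟩
  exact AutPOmega.pres_omega hyperA ⟨_, hmem⟩

/-- a rational isometry of prime power order preserving the classes is in the image -/
theorem mem_img [Fintype F] (p : ℕ) [Fact p.Prime] [CharP F p] (hQ : (polarBilin Q).Nondegenerate)
    (h2 : 2 ≤ Fintype.card J) (hne : Fintype.card F ≠ 2 ∨ Fintype.card J ≠ 4)
    {g : SLn (2 * N) K} (hg : InO g) (hP : Pr g)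
    (hrat : ∀ i j, (C.Pi * g.1 * C.P) i j ∈ (algebraMap F K).range) {k : ℕ} (hk : g ^ p ^ k = 1) :
    g ∈ C.img := by
  classical
  choose z hz using hrat
  obtain ⟨Z, hZ⟩ : ∃ Z : Matrix J J F, Matrix.of z = Z := ⟨_, rfl⟩
  have hZm : Z.map (algebraMap F K) = C.Pi * g.1 * C.P := by
    rw [← hZ]; exact Matrix.ext fun i j => hz i j
  have htr : C.tr Z = g.1 := by
    show C.P * Z.map (algebraMap F K) * C.Pi = g.1
    rw [hZm, ← Matrix.mul_assoc, ← Matrix.mul_assoc, C.mul_inv, Matrix.one_mul, Matrix.mul_assoc, C.mul_inv,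
      Matrix.mul_one]
  have hZk : Z ^ p ^ k = 1 := C.tr_inj (by
    rw [map_pow, htr, map_one]
    exact congrArg Subtype.val hk)
  obtain ⟨x, hx⟩ : ∃ x : GL J F, x.1 = Z :=
    ⟨⟨Z, Z ^ (p ^ k - 1), by
      rw [← pow_succ', Nat.sub_add_cancel (Nat.one_le_pow _ _ (Fact.out : p.Prime).pos)]; exact hZk, by
      rw [← pow_succ, Nat.sub_add_cancel (Nat.one_le_pow _ _ (Fact.out : p.Prime).pos)]; exact hZk⟩, rfl⟩
  have hxO : x ∈ Cfsg.isometryGroup F (⇑Q) := Orth.mem_isometryGroup.2 fun v => (algebraMap F K).injective (by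
    rw [← C.hq, ← C.hq, hx]
    show qA N K (C.vec (Z *ᵥ v)) = qA N K (C.vec v)
    rw [← C.tr_vec, htr]
    exact hg _)
  suffices hmem : (⟨x, hxO⟩ : Cfsg.isometryGroup F (⇑Q)) ∈ Cfsg.Omega F (⇑Q) by
    exact ⟨⟨_, hmem⟩, Subtype.ext ((congrArg C.tr hx).trans htr)⟩
  have hidx := Orth.omega_index Q hQ h2 hne
  have hord : (⟨x, hxO⟩ : Cfsg.isometryGroup F (⇑Q)) ^ p ^ k = 1 := by
    refine Subtype.ext (Units.ext ?_)
    show x.1 ^ p ^ k = 1
    rw [hx]; exact hZk
  by_cases h2F : (2 : F) = 0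
  · rw [(Orth.card_spinVal (F := F)).2 h2F] at hidx
    -- the preimage of the class preserving elements
    let S : Subgroup (Cfsg.isometryGroup F (⇑Q)) :=
      { carrier := {y | Cfsg.PreservesSingularClasses (⇑(qA N K)) ((C.isoHom y).1 : GL (Fin (2 * N)) K).1}
        one_mem' := by
          show Cfsg.PreservesSingularClasses _ _
          rw [map_one]
          exact AutPOmega.pres_one hyperA
        mul_mem' := fun {a b} ha hb => by
          show Cfsg.PreservesSingularClasses _ _
          rw [map_mul, Subgroup.coe_mul]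
          exact (AutPOmega.pres_mul hyperA (AutPOmega.isPair_iso (C.isoHom a).2)
            (AutPOmega.isPair_iso (C.isoHom b).2)).2 (iff_of_true ha hb)
        inv_mem' := fun {a} ha => by
          show Cfsg.PreservesSingularClasses _ _
          rw [map_inv, Subgroup.coe_inv]
          exact (AutPOmega.pres_inv hyperA (AutPOmega.isPair_iso (C.isoHom a).2)).2 ha }
    have hle : Cfsg.Omega F (⇑Q) ≤ S := fun y hy => (C.img_spec _ ⟨⟨y, hy⟩, rfl⟩).2
    have hxS : (⟨x, hxO⟩ : Cfsg.isometryGroup F (⇑Q)) ∈ S := by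
      show Cfsg.PreservesSingularClasses _ (C.tr x.1)
      rw [hx, htr]
      exact hP
    haveI : Nonempty J := Fintype.card_pos_iff.1 (by omega)
    obtain ⟨v, hv⟩ := Orth.exists_ne_zero_value hQ
    obtain ⟨r, hr, hr'⟩ := Orth.exists_reflection Q hv
    have hw : qA N K (C.vec v) ≠ 0 := by
      rw [vec, C.hq]
      exact fun e => hv ((algebraMap F K).injective (by rw [e, map_zero]))
    have hrS : r ∉ S := by
      refine (AutPOmega.not_pres_refl hyperA hw (r := (C.isoHom r).1) (C.ext_vec fun y => ?_)).2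
      show C.tr r.1.1 *ᵥ C.vec y = _
      rw [hr, C.tr_vec, Orth.reflectionMatrix_mulVec, Orth.reflectionMatrix_mulVec, C.polar_vec]
      have hneg : ∀ (t : F) (u : J → F), C.vec (y - t • u) = C.vec y - algebraMap F K t • C.vec u := fun t u => by
        rw [sub_eq_add_neg, C.vec_add, ← neg_smul, C.vec_smul, map_neg, neg_smul, ← sub_eq_add_neg]
      rw [hneg, map_div₀, show qA N K (C.vec v) = algebraMap F K (Q v) from C.hq v]
    rcases eq_or_lt_of_le hle with he | hlt
    · exact he ▸ hxS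
    · exfalso
      haveI : (Cfsg.Omega F (⇑Q)).FiniteIndex := ⟨by omega⟩
      have h3 := Subgroup.index_strictAnti hlt
      have h4 : S.index ≠ 1 := fun e => hrS (by rw [Subgroup.index_eq_one.1 e]; exact Subgroup.mem_top _)
      have h5 := Subgroup.index_ne_zero_of_finite (H := S)
      omega
  · rw [(Orth.card_spinVal (F := F)).1 h2F] at hidx
    have hp2 : p ≠ 2 := by
      rintro rfl
      exact h2F (by exact_mod_cast CharP.cast_eq_zero F 2)
    rw [← QuotientGroup.eq_one_iff, ← orderOf_eq_one_iff]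
    refine Nat.eq_one_of_dvd_coprimes (a := p ^ k) (b := 4) ?_ ?_ ?_
    · rw [show (4 : ℕ) = 2 ^ 2 by norm_num]
      exact ((Nat.coprime_primes Fact.out Nat.prime_two).2 hp2).pow _ _
    · refine orderOf_dvd_of_pow_eq_one ?_
      rw [← QuotientGroup.mk_pow, hord, QuotientGroup.mk_one]
    · rw [← hidx, Subgroup.index_eq_card]
      exact orderOf_dvd_natCard _

theorem lo_pow (p : ℕ) [Fact p.Prime] [CharP K p] {g : SLn (2 * N) K} (hg : g ∈ loU (2 * N) K) :
    ∃ k, g ^ p ^ k = 1 := by
  obtain ⟨k, hk⟩ := isPGroup_uniU p ⟨g.transpose, hg⟩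
  refine ⟨k, Subtype.ext ?_⟩
  have h : g.1ᵀ ^ p ^ k = 1 := congrArg Subtype.val (congrArg Subtype.val hk)
  show g.1 ^ p ^ k = 1
  exact Matrix.transpose_injective (by rw [Matrix.transpose_pow, h, Matrix.transpose_one])

/-- the criterion for the triangular elements -/
theorem mem_img_tri [Fintype F] (p : ℕ) [Fact p.Prime] [CharP F p] [CharP K p]
    (hQ : (polarBilin Q).Nondegenerate) (h2 : 2 ≤ Fintype.card J)
    (hne : Fintype.card F ≠ 2 ∨ Fintype.card J ≠ 4) {g : SLn (2 * N) K}
    (ht : g ∈ uniU (2 * N) K ∨ g ∈ loU (2 * N) K) (hg : InO g)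
    (hrat : ∀ i j, (C.Pi * g.1 * C.P) i j ∈ (algebraMap F K).range) : g ∈ C.img := by
  rcases ht with h | h
  · obtain ⟨k, hk⟩ := isPGroup_uniU p ⟨g, h⟩
    exact C.mem_img p hQ h2 hne hg (pr_uni hg h) hrat (k := k) (congrArg Subtype.val hk)
  · obtain ⟨k, hk⟩ := lo_pow p h
    exact C.mem_img p hQ h2 hne hg (pr_lo hg h) hrat hk

end Coord

end Cfsg.Agent.DSplit
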