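import Cfsg.Agent.S2566
import Cfsg.Agent.S0165
import Cfsg.Agent.Lib.Char.GaloisPGroup
import Cfsg.Agent.Lib.Char.ItoPSolvable
import Cfsg.Prelude.Def_Characters

/-!
# The degenerate group Ω⁺₄(2) and its character of degree two
-/

set_option autoImplicit false
set_option linter.style.haveILetI false

namespace Cfsg.Agent.PlusFourTwo

open Matrix
open Cfsg.Agent.S2566
open scoped commutatorElement

/-- a group with an abelian subgroup of index two and odd order -/
theorem two_char {G : Type*} [Group G] [Finite G] (A : Subgroup G) [A.Normal] (hA : IsMulCommutative A)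
    (hi : A.index = 2) (hodd : Odd (Nat.card A)) (hna : ∃ a b : G, a * b ≠ b * a) :
    ∃ χ : G → ℂ, Cfsg.IsIrrCharacter G χ ∧
      ∀ P : Sylow 2 G, χ 1 = Nat.card P ∧ ∀ x : G, x ∈ P → x ≠ 1 → χ x = 0 := by
  classical
  haveI := Fintype.ofFinite G
  haveI : Fact (Nat.Prime 2) := ⟨Nat.prime_two⟩
  obtain ⟨χ, hχ⟩ := GalPG.exists_nonlinear hna
  have hd : Cfsg.charDegree (χ : G → ℂ) = 2 := by
    have h := Char.Ito.degree_dvd_index A hA χ
    rw [hi] at h
    exact ((Nat.dvd_prime Nat.prime_two).1 h).resolve_left hχ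
  have hcard : Nat.card G = 2 * Nat.card A := by rw [← A.card_mul_index, hi, mul_comm]
  have hn1 : 2 ^ 1 ∣ Nat.card G := ⟨Nat.card A, by rw [hcard, pow_one]⟩
  have hn2 : ¬ 2 ^ (1 + 1) ∣ Nat.card G := by
    rintro ⟨t, ht⟩
    rw [Nat.odd_iff] at hodd
    rw [hcard] at ht
    omega
  refine ⟨χ, χ.2, fun P => ?_⟩
  have h1 : (χ : G → ℂ) 1 = 2 := by rw [CharX.irr_deg, hd]; norm_num
  have hP : Nat.card P = 2 := by
    rw [P.card_eq_multiplicity]
    have hfac : (Nat.card G).factorization 2 = 1 := by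
      refine le_antisymm (le_of_not_gt fun h => hn2 ?_) ?_
      · exact (Nat.prime_two.pow_dvd_iff_le_factorization Nat.card_pos.ne').2 h
      · exact (Nat.prime_two.pow_dvd_iff_le_factorization Nat.card_pos.ne').1 hn1
    rw [hfac, pow_one]
  refine ⟨by rw [h1, hP]; norm_num, fun x hx hx1 => ?_⟩
  obtain ⟨n, ρ, hρ, he⟩ := χ.2
  haveI := hρ
  have hdim : Module.finrank ℂ (Fin n → ℂ) = 2 := by
    have h := congrFun he 1
    rw [Representation.char_one, h1] at h
    exact_mod_cast h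
  rw [← he]
  refine S0165.result ρ 2 1 Nat.prime_two hn1 hn2 (by rw [hdim]; norm_num) x ?_
  have hox : orderOf (⟨x, hx⟩ : (P : Subgroup G)) ∣ Nat.card (P : Subgroup G) := orderOf_dvd_natCard _
  rw [show Nat.card (P : Subgroup G) = 2 from hP, Subgroup.orderOf_mk] at hox
  exact ((Nat.dvd_prime Nat.prime_two).1 hox).resolve_left (fun h => hx1 (orderOf_eq_one_iff.1 h)) ▸ dvd_rfl

/-- two symmetric groups of degree three -/
abbrev P33 := Equiv.Perm (Fin 3) × Equiv.Perm (Fin 3)

/-- pairs with equal signs -/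
def eqSign : Subgroup P33 :=
  ((Equiv.Perm.sign.comp (MonoidHom.fst _ _)) * (Equiv.Perm.sign.comp (MonoidHom.snd _ _))).ker

theorem mem_eqSign (p : P33) : p ∈ eqSign ↔ Equiv.Perm.sign p.1 * Equiv.Perm.sign p.2 = 1 := Iff.rfl

instance : DecidablePred (· ∈ eqSign) := fun p => decidable_of_iff _ (mem_eqSign p).symm

theorem swap_sq_conj : ∀ p : P33,
    mat swapQ * mat (six p ∘ base) = mat (six (p.2, p.1) ∘ base) * mat swapQ := by decide +kernel

theorem swap_conj_hom (p : P33) : mk swapQ ok_swap * hom p = hom (p.2, p.1) * mk swapQ ok_swap := by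
  apply Subtype.ext
  apply Units.ext
  rw [Subgroup.coe_mul, Subgroup.coe_mul, Units.val_mul, Units.val_mul, show hom p = mk _ (ok_six p) from rfl,
    show hom (p.2, p.1) = mk _ (ok_six (p.2, p.1)) from rfl, val_mk, val_mk, val_mk, swap_sq_conj]

theorem hom_index : (hom.range).index = 2 := by
  have hcard : Nat.card G = 72 := by rw [Nat.card_congr equiv, Nat.card_eq_fintype_card, card_ok]
  have hm := Subgroup.card_mul_index hom.range
  rw [hcard, ← Nat.card_congr (MonoidHom.ofInjective hom_injective).toEquiv, Nat.card_prod, Nat.card_perm,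
    Nat.card_fin] at hm
  simp only [Nat.factorial] at hm
  omega

theorem swap_not_mem : mk swapQ ok_swap ∉ hom.range := by
  rintro ⟨p, hp⟩
  have h : ∀ p : P33, six p ∘ base ≠ swapQ := by decide +kernel
  refine h p ?_
  have h1 : equiv (hom p) = ⟨six p ∘ base, ok_six p⟩ := equiv.apply_symm_apply ⟨_, ok_six p⟩
  have h2 : equiv (mk swapQ ok_swap) = ⟨swapQ, ok_swap⟩ := equiv.apply_symm_apply ⟨_, ok_swap⟩
  rw [hp, h2] at h1
  exact (congrArg Subtype.val h1).symm

theorem omega_eq : Cfsg.Omega (ZMod 2) (Cfsg.quadFormPlus 2 (ZMod 2)) = eqSign.map hom := by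
  obtain ⟨R, hR⟩ : ∃ R, eqSign.map hom = R := ⟨_, rfl⟩
  haveI : Finite G := Finite.of_equiv _ equiv.symm
  have hswap : ∀ p ∈ eqSign, mk swapQ ok_swap * hom p * (mk swapQ ok_swap)⁻¹ ∈ R := fun p hp => by
    rw [swap_conj_hom, mul_inv_cancel_right, ← hR]
    refine ⟨_, ?_, rfl⟩
    rw [SetLike.mem_coe, mem_eqSign] at *
    rwa [mul_comm]
  have hnorm : R.Normal := by
    refine ⟨fun x hx g => ?_⟩
    rw [← hR] at hx
    obtain ⟨p, hp, rfl⟩ := hx
    have hh : ∀ (y : P33) (g : G), g ∈ hom.range → g * hom y * g⁻¹ ∈ R ∨ y ∉ eqSign := by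
      rintro y _ ⟨a, rfl⟩
      by_cases hy : y ∈ eqSign
      · left
        rw [← map_inv, ← map_mul, ← map_mul, ← hR]
        exact ⟨_, (MonoidHom.normal_ker _).conj_mem y hy a, rfl⟩
      · exact Or.inr hy
    by_cases hg : g ∈ hom.range
    · exact (hh p g hg).resolve_right (fun h => h hp)
    · have h2 : g * mk swapQ ok_swap ∈ hom.range :=
        (Subgroup.mul_mem_iff_of_index_two hom_index).2 (iff_of_false hg swap_not_mem)
      have h3 := hswap p hp
      rw [swap_conj_hom, mul_inv_cancel_right, ← hR] at h3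
      obtain ⟨p', hp', he⟩ := h3
      have h4 : (mk swapQ ok_swap)⁻¹ * hom p * mk swapQ ok_swap = hom (p.2, p.1) := by
        rw [mul_assoc, inv_mul_eq_iff_eq_mul, swap_conj_hom]
      have := (hh (p.2, p.1) _ h2).resolve_right (fun h => h (hom_injective he ▸ hp'))
      rw [← h4] at this
      simpa [mul_assoc] using this
  have hcardR : Nat.card R = 18 := by
    rw [← hR, Subgroup.card_map_of_injective hom_injective, Nat.card_eq_fintype_card]
    decide +kernel
  refine le_antisymm ?_ ?_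
  · rw [hR]
    haveI := hnorm
    have hq : Nat.card (G ⧸ R) = 2 ^ 2 := by
      have := Subgroup.card_mul_index R
      rw [hcardR, Nat.card_congr equiv, Nat.card_eq_fintype_card, card_ok] at this
      rw [← Subgroup.index_eq_card]; omega
    haveI : Fact (Nat.Prime 2) := ⟨Nat.prime_two⟩
    intro g hg
    rw [← QuotientGroup.eq_one_iff]
    have hmap : QuotientGroup.mk' R g ∈ commutator (G ⧸ R) := by
      have h : (commutator G).map (QuotientGroup.mk' R) ≤ commutator (G ⧸ R) := by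
        rw [commutator_def, commutator_def, Subgroup.map_commutator]
        exact Subgroup.commutator_mono le_top le_top
      exact h ⟨g, hg, rfl⟩
    have hcomm := IsPGroup.commutative_of_card_eq_prime_sq hq
    rw [show commutator (G ⧸ R) = ⊥ from ?_] at hmap
    · exact hmap
    · rw [commutator_def, Subgroup.commutator_eq_bot_iff_le_centralizer]
      intro a _ b _
      exact hcomm b a
  · -- the two generators are commutators
    have hgen : ∀ p : P33, Equiv.Perm.sign p.1 * Equiv.Perm.sign p.2 = 1 → ∃ a b : P33,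
        p = a * b * a⁻¹ * b⁻¹ ∨ p = a * b * a⁻¹ * b⁻¹ * (Equiv.swap 0 1, Equiv.swap 0 1) := by
      decide +kernel
    have hcm : hom (Equiv.swap 0 1, Equiv.swap 0 1) ∈ Cfsg.Omega (ZMod 2) (Cfsg.quadFormPlus 2 (ZMod 2)) := by
      have h5 : ⁅mk swapQ ok_swap, hom (Equiv.swap 0 1, 1)⁆ = hom (Equiv.swap 0 1, Equiv.swap 0 1) := by
        rw [commutatorElement_def, swap_conj_hom, mul_inv_cancel_right, ← map_inv, ← map_mul]
        simp [Equiv.swap_inv]
      rw [← h5]
      exact Subgroup.commutator_mem_commutator (Subgroup.mem_top _) (Subgroup.mem_top _)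
    rintro _ ⟨p, hp, rfl⟩
    obtain ⟨a, b, rfl | rfl⟩ := hgen p ((mem_eqSign p).1 hp) <;>
      rw [← commutatorElement_def]
    · rw [map_commutatorElement]
      exact Subgroup.commutator_mem_commutator (Subgroup.mem_top _) (Subgroup.mem_top _)
    · rw [map_mul, map_commutatorElement]
      exact mul_mem (Subgroup.commutator_mem_commutator (Subgroup.mem_top _) (Subgroup.mem_top _)) hcm

/-- the first sign on the pairs with equal signs -/
def fstSign : Subgroup eqSign := ((Equiv.Perm.sign.comp (MonoidHom.fst _ _)).comp eqSign.subtype).ker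

theorem char_exists (H : Type*) [Group H] (e : eqSign ≃* H) :
    ∃ χ : H → ℂ, Cfsg.IsIrrCharacter H χ ∧
      ∀ P : Sylow 2 H, χ 1 = Nat.card P ∧ ∀ x : H, x ∈ P → x ≠ 1 → χ x = 0 := by
  classical
  haveI : Finite H := Finite.of_equiv _ e.toEquiv
  obtain ⟨A, hA⟩ : ∃ A, fstSign.map (e : eqSign →* H) = A := ⟨_, rfl⟩
  haveI : fstSign.Normal := MonoidHom.normal_ker _
  haveI : A.Normal := hA ▸ Subgroup.Normal.map inferInstance _ e.surjective
  have habel : ∀ a b : P33, Equiv.Perm.sign a.1 = 1 → Equiv.Perm.sign a.2 = 1 → Equiv.Perm.sign b.1 = 1 →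
      Equiv.Perm.sign b.2 = 1 → a * b = b * a := by decide +kernel
  have hmem : ∀ a : eqSign, a ∈ fstSign → Equiv.Perm.sign a.1.1 = 1 ∧ Equiv.Perm.sign a.1.2 = 1 := fun a ha => by
    have h1 : Equiv.Perm.sign a.1.1 = 1 := ha
    have h2 := (mem_eqSign _).1 a.2
    rw [h1, one_mul] at h2
    exact ⟨h1, h2⟩
  refine two_char A ⟨⟨?_⟩⟩ ?_ ?_ ?_
  · rintro ⟨x, hx⟩ ⟨y, hy⟩
    rw [← hA] at hx hy
    obtain ⟨a, ha, rfl⟩ := hx
    obtain ⟨b, hb, rfl⟩ := hy
    refine Subtype.ext ?_
    show e a * e b = e b * e a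
    rw [← map_mul, ← map_mul, show a * b = b * a from Subtype.ext
      (habel _ _ (hmem a ha).1 (hmem a ha).2 (hmem b hb).1 (hmem b hb).2)]
  · rw [← hA, Subgroup.index_map_equiv]
    refine (Subgroup.index_eq_two_iff).2 ⟨⟨(Equiv.swap 0 1, Equiv.swap 0 1), by
      rw [mem_eqSign]; decide⟩, fun b => ?_⟩
    rw [xor_iff_iff_not]
    show Equiv.Perm.sign (b.1.1 * Equiv.swap 0 1) = 1 ↔ ¬ Equiv.Perm.sign b.1.1 = 1
    rcases Int.units_eq_one_or (Equiv.Perm.sign b.1.1) with h | h <;> rw [map_mul, h] <;> decide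
  · rw [← hA, Subgroup.card_map_of_injective e.injective,
      Nat.card_congr (Equiv.subtypeEquivRight (p := fun a : eqSign => a ∈ fstSign) (q := fun a : eqSign => Equiv.Perm.sign a.1.1 = 1) fun a => Iff.rfl),
      Nat.card_eq_fintype_card]
    decide +kernel
  · have h : ∃ a b : eqSign, a * b ≠ b * a := by decide +kernel
    obtain ⟨a, b, hab⟩ := h
    exact ⟨e a, e b, fun h => hab (e.injective (by rw [map_mul, map_mul, h]))⟩

theorem center_eqSign : Subgroup.center eqSign = ⊥ := by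
  rw [Subgroup.eq_bot_iff_forall]
  intro z hz
  rw [Subgroup.mem_center_iff] at hz
  revert z
  decide +kernel

theorem result {F : Type*} [Field F] [Fintype F] (hF : Fintype.card F = 2) :
    ∃ χ : Cfsg.POmega F (Cfsg.quadFormPlus 2 F) → ℂ, Cfsg.IsIrrCharacter (Cfsg.POmega F (Cfsg.quadFormPlus 2 F)) χ ∧
      ∀ P : Sylow 2 (Cfsg.POmega F (Cfsg.quadFormPlus 2 F)), χ 1 = Nat.card P ∧
        ∀ x : Cfsg.POmega F (Cfsg.quadFormPlus 2 F), x ∈ P → x ≠ 1 → χ x = 0 := by
  obtain ⟨ψ, -⟩ : ∃ ψ : F ≃+* ZMod 2, ψ = ψ := ⟨(ZMod.ringEquivOfPrime F Nat.prime_two hF).symm, rfl⟩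
  let E : GL (Fin 2 ⊕ Fin 2) F ≃* GL (Fin 2 ⊕ Fin 2) (ZMod 2) := Units.mapEquiv ψ.mapMatrix.toMulEquiv
  have hQ : ∀ x : Fin 2 ⊕ Fin 2 → F, Cfsg.quadFormPlus 2 (ZMod 2) (ψ ∘ x) = ψ (Cfsg.quadFormPlus 2 F x) :=
    fun x => by simp [Cfsg.quadFormPlus, map_sum]
  have hmv : ∀ (g : GL (Fin 2 ⊕ Fin 2) F) x, (E g).1 *ᵥ (ψ ∘ x) = ψ ∘ (g.1 *ᵥ x) := fun g x => by
    funext i
    simp [E, Matrix.mulVec, dotProduct, map_sum]
  have hmap : (Cfsg.isometryGroup F (Cfsg.quadFormPlus 2 F)).map E.toMonoidHom =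
      Cfsg.isometryGroup (ZMod 2) (Cfsg.quadFormPlus 2 (ZMod 2)) := by
    ext g
    obtain ⟨g, rfl⟩ := E.surjective g
    rw [Subgroup.mem_map_equiv, E.symm_apply_apply]
    constructor
    · intro h v w
      obtain ⟨x, rfl⟩ : ∃ x, ψ ∘ x = v := ⟨ψ.symm ∘ v, funext fun i => ψ.apply_symm_apply _⟩
      show Cfsg.quadFormPlus 2 (ZMod 2) ((E g).1 *ᵥ _) = Cfsg.quadFormPlus 2 (ZMod 2) _
      rw [hmv, hQ, hQ]
      exact congrArg ψ (h x x)
    · intro h v w
      refine ψ.injective ?_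
      show ψ (Cfsg.quadFormPlus 2 F (g.1 *ᵥ v)) = ψ _
      rw [← hQ, ← hQ, ← hmv]
      exact h (ψ ∘ v) (ψ ∘ v)
  let eO : Cfsg.isometryGroup F (Cfsg.quadFormPlus 2 F) ≃* Cfsg.isometryGroup (ZMod 2) (Cfsg.quadFormPlus 2 (ZMod 2)) :=
    (E.subgroupMap _).trans (MulEquiv.subgroupCongr hmap)
  have hΩ : (Cfsg.Omega F (Cfsg.quadFormPlus 2 F)).map eO.toMonoidHom = eqSign.map hom := by
    rw [← omega_eq]
    show (commutator _).map _ = commutator _
    rw [commutator_def, commutator_def, Subgroup.map_commutator, Subgroup.map_top_of_surjective _ eO.surjective]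
  let eΩ : Cfsg.Omega F (Cfsg.quadFormPlus 2 F) ≃* eqSign :=
    ((eO.subgroupMap _).trans (MulEquiv.subgroupCongr hΩ)).trans
      (eqSign.equivMapOfInjective hom hom_injective).symm
  have hZ : Subgroup.center (Cfsg.Omega F (Cfsg.quadFormPlus 2 F)) = ⊥ := by
    rw [Subgroup.eq_bot_iff_forall]
    intro z hz
    have : eΩ z ∈ Subgroup.center eqSign := Subgroup.mem_center_iff.2 fun y => by
      obtain ⟨y, rfl⟩ := eΩ.surjective y
      rw [← map_mul, ← map_mul, Subgroup.mem_center_iff.1 hz y]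
    rw [center_eqSign, Subgroup.mem_bot] at this
    exact eΩ.injective (by rw [this, map_one])
  exact char_exists _ (eΩ.symm.trans (QuotientGroup.quotientBot.symm.trans (QuotientGroup.quotientMulEquivOfEq hZ.symm)))

end Cfsg.Agent.PlusFourTwo
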