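import Cfsg.Agent.Lib.Steinberg.DWeyl

/-!
# The split data of minus type

The elements fixed by a field automorphism followed by the exchange of the two middle coordinates.
-/

set_option autoImplicit false
set_option linter.unusedSectionVars false
set_option linter.style.haveILetI false

namespace Cfsg.Agent.DSplit

open Matrix QuadraticMap
open Cfsg.Agent.SLPair
open Cfsg.Agent.SLBlocks (uniU isPGroup_uniU)

universe u

variable {N : ℕ} {K : Type u} [Field K]

/-- the twisted Frobenius -/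
def rho (N : ℕ) (φ : K →+* K) : SLn (2 * N) K →* SLn (2 * N) K :=
  MonoidHom.mk' (fun g => ⟨(g.1.map φ).submatrix (mid N) (mid N), by
      rw [Matrix.det_submatrix_equiv_self]
      exact (RingHom.map_det φ g.1).symm.trans (by rw [g.2, map_one])⟩)
    fun g h => Subtype.ext (by
      show ((g.1 * h.1).map φ).submatrix (mid N) (mid N) =
        (g.1.map φ).submatrix (mid N) (mid N) * (h.1.map φ).submatrix (mid N) (mid N)
      rw [Matrix.submatrix_mul_equiv, Matrix.map_mul])

theorem rho_apply (φ : K →+* K) (g : SLn (2 * N) K) (a b : Fin (2 * N)) :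
    (rho N φ g).1 a b = φ (g.1 (mid N a) (mid N b)) := rfl

theorem lo_mid_zero {g : SLn (2 * N) K} (hg : InO g) (hl : g ∈ loU (2 * N) K) :
    ∀ a b, b < a → g.1 a b ≠ 0 → Sup b a := by
  rintro a b - hne ⟨hb, ha⟩
  apply hne
  have h := hg.col b
  rw [Finset.sum_eq_single (⟨N - 1, by omega⟩ : Fin N)] at h
  · rw [show idxA N (.inl (⟨N - 1, by omega⟩ : Fin N)) = b from Fin.ext (by rw [idxA_inl]; simp only; omega),
      show b.rev = a from Fin.ext (by rw [Fin.val_rev]; omega), (mem_loU.1 hl).2, one_mul] at h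
    exact h
  · intro j _ hj
    refine mul_eq_zero_of_left ((mem_loU.1 hl).1 _ _ ?_) _
    have := mt (Fin.ext (a := j) (b := ⟨N - 1, by omega⟩)) hj
    have := j.2
    simp only [Fin.lt_def, idxA_inl] at *
    omega
  · simp

theorem rho_uni (φ : K →+* K) {g : SLn (2 * N) K} (hg : InO g) (hu : g ∈ uniU (2 * N) K) :
    rho N φ g ∈ uniU (2 * N) K := by
  refine ⟨fun a b (hab : b < a) => ?_, fun a => by rw [rho_apply, hu.2, map_one]⟩
  rw [rho_apply]
  suffices h : g.1 (mid N a) (mid N b) = 0 by rw [h, map_zero]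
  by_cases hs : Sup b a
  · exact hu.1 (show id (mid N b) < id (mid N a) from mid_lt hab hs)
  · obtain ⟨hb, ha⟩ := not_not.1 hs
    by_contra hne
    have h1 : mid N a < mid N b := by
      rw [Fin.lt_def, mid_val, mid_val]; simp only [midN]; split_ifs <;> omega
    refine sup_of_uni hg hu _ _ h1 hne ⟨?_, ?_⟩ <;>
      rw [mid_val] <;> simp only [midN] <;> split_ifs <;> omega

theorem rho_lo (φ : K →+* K) {g : SLn (2 * N) K} (hg : InO g) (hl : g ∈ loU (2 * N) K) :
    rho N φ g ∈ loU (2 * N) K := by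
  refine mem_loU.2 ⟨fun a b hab => ?_, fun a => by rw [rho_apply, (mem_loU.1 hl).2, map_one]⟩
  rw [rho_apply]
  suffices h : g.1 (mid N a) (mid N b) = 0 by rw [h, map_zero]
  by_cases hs : Sup a b
  · exact (mem_loU.1 hl).1 _ _ (mid_lt hab hs)
  · obtain ⟨ha, hb⟩ := not_not.1 hs
    by_contra hne
    have h1 : mid N b < mid N a := by
      rw [Fin.lt_def, mid_val, mid_val]; simp only [midN]; split_ifs <;> omega
    refine lo_mid_zero hg hl _ _ h1 hne ⟨?_, ?_⟩ <;>
      rw [mid_val] <;> simp only [midN] <;> split_ifs <;> omega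

theorem rho_mono (φ : K →+* K) {g : SLn (2 * N) K} {σ : Equiv.Perm (Fin (2 * N))} (hg : Mono σ g.1) :
    Mono (mid N * σ * mid N) (rho N φ g).1 := fun a b h => by
  rw [rho_apply] at h
  have h1 : mid N a = σ (mid N b) := hg _ _ fun h0 => h (by rw [h0, map_zero])
  rw [Equiv.Perm.mul_apply, Equiv.Perm.mul_apply, ← h1, mid_mid]

theorem sieg_fixed [Fintype K] (φ : K →+* K) {q : Fin (2 * N)} (hq : mid N q = q) (y : Fin (2 * N) → K)
    (hy : ∀ a, φ (y (mid N a)) = y a) (hqy : φ (qA N K y) = qA N K y) (a b : Fin (2 * N)) :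
    φ (sieg q y (mid N a) (mid N b)) = sieg q y a b := by
  have h1 : ∀ x : Fin (2 * N), (mid N x = q) = (x = q) := fun x => propext
    ⟨fun h => by rw [← mid_mid x, h, hq], fun h => by rw [h, hq]⟩
  have hqr : mid N q.rev = q.rev := by rw [mid_rev, hq]
  have h2 : ∀ x : Fin (2 * N), (mid N x = q.rev) = (x = q.rev) := fun x => propext
    ⟨fun h => by rw [← mid_mid x, h, hqr], fun h => by rw [h, hqr]⟩
  rw [sieg_apply, sieg_apply]
  simp only [h1, h2, (mid N).injective.eq_iff]
  rw [show (mid N b).rev = mid N b.rev from (mid_rev b).symm]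
  simp only [map_sub, map_add, apply_ite φ, map_one, map_zero, map_mul, hy, hqy]

/-- the middle block, on numbers -/
def quadN (N a : ℕ) : ℕ := if N ≤ a + 2 ∧ a ≤ N + 1 then 2 * N - 1 - a else a

/-- the reflection of the middle block -/
def quad (hN : 2 ≤ N) : Equiv.Perm (Fin (2 * N)) where
  toFun a := ⟨quadN N a, by have := a.2; simp only [quadN]; split_ifs <;> omega⟩
  invFun a := ⟨quadN N a, by have := a.2; simp only [quadN]; split_ifs <;> omega⟩
  left_inv a := Fin.ext (by have := a.2; simp only [quadN]; split_ifs <;> omega)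
  right_inv a := Fin.ext (by have := a.2; simp only [quadN]; split_ifs <;> omega)

theorem quad_val (hN : 2 ≤ N) (a : Fin (2 * N)) : ((quad hN a : Fin (2 * N)) : ℕ) = quadN N a := rfl

/-- the labels of the middle block -/
def qblk (N : ℕ) (a : Fin (2 * N)) : ℕ := if N ≤ (a : ℕ) + 2 ∧ (a : ℕ) ≤ N + 1 then N - 2 else a

theorem flipP_quad (hN : 2 ≤ N) : flipP (quad hN) = quad hN := Equiv.ext fun a => Fin.ext (by
  rw [flipP_apply, Fin.val_rev, quad_val, quad_val, Fin.val_rev]
  have := a.2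
  simp only [quadN]
  split_ifs <;> omega)

theorem quad_mid (hN : 2 ≤ N) (a : Fin (2 * N)) : quad hN (mid N a) = mid N (quad hN a) := by
  apply Fin.ext
  rw [quad_val, mid_val, mid_val, quad_val]
  have := a.2
  simp only [quadN, midN]
  split_ifs <;> omega

theorem quad_eq (hN : 2 ≤ N) :
    quad hN = rPlus (Sum.inr ⟨⟨N - 2, by omega⟩, Nat.sub_add_cancel hN⟩) * rPlus (Sum.inl ⟨N - 2, by omega⟩) := by
  refine Equiv.ext fun a => Fin.ext ?_
  show quadN N a = midN N (refN (2 * N) (N - 2) (midN N (refN (2 * N) (N - 2) a)))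
  have := a.2
  obtain ⟨a, ha⟩ := a
  simp only
  by_cases h1 : a + 2 = N
  · rw [show refN (2 * N) (N - 2) a = N - 1 by simp only [refN]; split_ifs <;> omega,
      show midN N (N - 1) = N by simp only [midN]; split_ifs <;> omega,
      show refN (2 * N) (N - 2) N = N + 1 by simp only [refN]; split_ifs <;> omega,
      show midN N (N + 1) = N + 1 by simp only [midN]; split_ifs <;> omega]
    simp only [quadN]; split_ifs <;> omega
  by_cases h2 : a + 1 = N
  · rw [show refN (2 * N) (N - 2) a = N - 2 by simp only [refN]; split_ifs <;> omega,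
      show midN N (N - 2) = N - 2 by simp only [midN]; split_ifs <;> omega,
      show refN (2 * N) (N - 2) (N - 2) = N - 1 by simp only [refN]; split_ifs <;> omega,
      show midN N (N - 1) = N by simp only [midN]; split_ifs <;> omega]
    simp only [quadN]; split_ifs <;> omega
  by_cases h3 : a = N
  · rw [show refN (2 * N) (N - 2) a = N + 1 by simp only [refN]; split_ifs <;> omega,
      show midN N (N + 1) = N + 1 by simp only [midN]; split_ifs <;> omega,
      show refN (2 * N) (N - 2) (N + 1) = N by simp only [refN]; split_ifs <;> omega,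
      show midN N N = N - 1 by simp only [midN]; split_ifs <;> omega]
    simp only [quadN]; split_ifs <;> omega
  by_cases h4 : a = N + 1
  · rw [show refN (2 * N) (N - 2) a = N by simp only [refN]; split_ifs <;> omega,
      show midN N N = N - 1 by simp only [midN]; split_ifs <;> omega,
      show refN (2 * N) (N - 2) (N - 1) = N - 2 by simp only [refN]; split_ifs <;> omega,
      show midN N (N - 2) = N - 2 by simp only [midN]; split_ifs <;> omega]
    simp only [quadN]; split_ifs <;> omega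
  rw [show refN (2 * N) (N - 2) a = a by simp only [refN]; split_ifs <;> omega,
    show midN N a = a by simp only [midN]; split_ifs <;> omega,
    show refN (2 * N) (N - 2) a = a by simp only [refN]; split_ifs <;> omega,
    show midN N a = a by simp only [midN]; split_ifs <;> omega]
  simp only [quadN]; split_ifs <;> omega

/-- symmetric, commuting with the middle exchange, with an even number of crossings -/
def GoodM (σ : Equiv.Perm (Fin (2 * N))) : Prop := GoodP σ ∧ ∀ a, σ (mid N a) = mid N (σ a)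

theorem GoodM.mid_set {σ : Equiv.Perm (Fin (2 * N))} (h : GoodM σ) (a : Fin (2 * N))
    (ha : N ≤ (a : ℕ) + 1 ∧ (a : ℕ) ≤ N) : N ≤ ((σ a : Fin (2 * N)) : ℕ) + 1 ∧ ((σ a : Fin (2 * N)) : ℕ) ≤ N := by
  have hma : mid N a = a.rev := Fin.ext (by
    rw [mid_val, Fin.val_rev]; simp only [midN]; split_ifs <;> omega)
  have h1 : mid N (σ a) = (σ a).rev := by rw [← h.2, hma, sym_apply h.1.1]
  have h2 := congrArg Fin.val h1
  rw [mid_val, Fin.val_rev] at h2
  have := (σ a).2
  simp only [midN] at h2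
  split_ifs at h2 <;> omega

theorem GoodM.out_set {σ : Equiv.Perm (Fin (2 * N))} (h : GoodM σ) (a : Fin (2 * N))
    (ha : (a : ℕ) + 1 < N ∨ N < (a : ℕ)) : ((σ a : Fin (2 * N)) : ℕ) + 1 < N ∨ N < ((σ a : Fin (2 * N)) : ℕ) := by
  by_contra hc
  push Not at hc
  have ha2 := a.2
  obtain ⟨p, hp⟩ : ∃ p : Fin (2 * N), (p : ℕ) + 1 = N := ⟨⟨N - 1, by omega⟩, Nat.sub_add_cancel (by omega)⟩
  have h1 := h.mid_set p (by omega)
  have h2 := h.mid_set p.rev (by rw [Fin.val_rev]; omega)
  have hne1 : σ p ≠ σ p.rev := fun e => by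
    have := congrArg Fin.val (σ.injective e)
    rw [Fin.val_rev] at this
    omega
  have hne2 : σ a ≠ σ p := fun e => by
    have := congrArg Fin.val (σ.injective e)
    omega
  have hne3 : σ a ≠ σ p.rev := fun e => by
    have := congrArg Fin.val (σ.injective e)
    rw [Fin.val_rev] at this
    omega
  have := mt Fin.ext hne1
  have := mt Fin.ext hne2
  have := mt Fin.ext hne3
  omega

theorem GoodM.eq_one {σ : Equiv.Perm (Fin (2 * N))} (h : GoodM σ)
    (hfix : ∀ a : Fin (2 * N), (a : ℕ) + 1 < N ∨ N < (a : ℕ) → σ a = a) : σ = 1 := by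
  refine Equiv.ext fun a => ?_
  show σ a = a
  by_cases ha : (a : ℕ) + 1 < N ∨ N < (a : ℕ)
  · exact hfix a ha
  have h1 := h.mid_set a (by omega)
  by_contra hne
  have hσ : σ = mid N := by
    refine Equiv.ext fun b => ?_
    by_cases hb : (b : ℕ) + 1 < N ∨ N < (b : ℕ)
    · rw [hfix b hb]
      exact Fin.ext (by rw [mid_val]; simp only [midN]; split_ifs <;> omega)
    · have hb2 := h.mid_set b (by omega)
      have hne' := mt Fin.ext hne
      by_cases hab : b = a
      · subst hab
        exact Fin.ext (by rw [mid_val]; simp only [midN]; split_ifs <;> omega)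
      · have hne2 : σ b ≠ σ a := fun e => hab (σ.injective e)
        have := mt Fin.ext hne2
        have := mt Fin.ext hab
        exact Fin.ext (by rw [mid_val]; simp only [midN]; split_ifs <;> omega)
  have hN : 0 < N := by have := a.2; omega
  have h2 : Even (cross ((1 : Equiv.Perm (Fin (2 * N))) * mid N)) := by rw [one_mul, ← hσ]; exact h.1.2
  exact (cross_mid hN flipP_one).1 h2 (by rw [cross_one]; exact Even.zero)

theorem quad_pairs (hN : 2 ≤ N) {σ : Equiv.Perm (Fin (2 * N))} (h : GoodM σ) :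
    (∀ a b, a < b → Sup a b → qblk N a = qblk N b → σ a < σ b) ∨
    (∀ a b, a < b → Sup a b → qblk N a = qblk N b → σ b < σ a) := by
  obtain ⟨p, hp⟩ : ∃ p : Fin (2 * N), (p : ℕ) + 2 = N := ⟨⟨N - 2, by omega⟩, Nat.sub_add_cancel hN⟩
  have hpr : (p.rev : ℕ) = N + 1 := by rw [Fin.val_rev]; omega
  have hx := h.out_set p (by omega)
  have hsym : ((σ p.rev : Fin (2 * N)) : ℕ) + ((σ p : Fin (2 * N)) : ℕ) + 1 = 2 * N := by
    rw [sym_apply h.1.1, Fin.val_rev]
    have := (σ p).2
    omega
  have key : ∀ a b, a < b → Sup a b → qblk N a = qblk N b →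
      (a = p ∧ b = p.rev) ∨ (a = p ∧ N ≤ ((σ b : Fin (2 * N)) : ℕ) + 1 ∧ ((σ b : Fin (2 * N)) : ℕ) ≤ N) ∨
        (b = p.rev ∧ N ≤ ((σ a : Fin (2 * N)) : ℕ) + 1 ∧ ((σ a : Fin (2 * N)) : ℕ) ≤ N) := by
    intro a b hab hs hb
    simp only [Sup] at hs
    simp only [qblk] at hb
    rw [Fin.lt_def] at hab
    have hcases : ((a : ℕ) + 2 = N ∧ (b : ℕ) = N + 1) ∨ ((a : ℕ) + 2 = N ∧ N ≤ (b : ℕ) + 1 ∧ (b : ℕ) ≤ N) ∨
        ((b : ℕ) = N + 1 ∧ N ≤ (a : ℕ) + 1 ∧ (a : ℕ) ≤ N) := by
      split_ifs at hb <;> omega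
    rcases hcases with ⟨h1, h2⟩ | ⟨h1, h2⟩ | ⟨h1, h2⟩
    · exact Or.inl ⟨Fin.ext (by omega), Fin.ext (by omega)⟩
    · exact Or.inr (Or.inl ⟨Fin.ext (by omega), h.mid_set b h2⟩)
    · exact Or.inr (Or.inr ⟨Fin.ext (by omega), h.mid_set a h2⟩)
  rcases hx with hx | hx
  · refine Or.inl fun a b hab hs hb => ?_
    rw [Fin.lt_def]
    rcases key a b hab hs hb with ⟨rfl, rfl⟩ | ⟨rfl, h1⟩ | ⟨rfl, h1⟩ <;> omega
  · refine Or.inr fun a b hab hs hb => ?_
    rw [Fin.lt_def]
    rcases key a b hab hs hb with ⟨rfl, rfl⟩ | ⟨rfl, h1⟩ | ⟨rfl, h1⟩ <;> omega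

theorem qblk_quad (hN : 2 ≤ N) (a : Fin (2 * N)) : qblk N (quad hN a) = qblk N a := by
  simp only [qblk, quad_val, quadN]
  have := a.2
  split_ifs <;> omega

theorem quad_anti (hN : 2 ≤ N) {a b : Fin (2 * N)} (hab : a < b) (hs : Sup a b) (hb : qblk N a = qblk N b) :
    quad hN b < quad hN a ∧ Sup (quad hN b) (quad hN a) := by
  simp only [qblk] at hb
  simp only [Sup, quad_val, quadN, Fin.lt_def] at hs hab ⊢
  have := b.2
  split_ifs at hb ⊢ <;> omega

theorem quad_pres (hN : 2 ≤ N) {a b : Fin (2 * N)} (hab : a < b) (hb : qblk N a ≠ qblk N b) :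
    quad hN a < quad hN b := by
  simp only [qblk] at hb
  simp only [quad_val, quadN, Fin.lt_def] at hab ⊢
  have := b.2
  split_ifs at hb ⊢ <;> omega

theorem quad_invs (hN : 2 ≤ N) {σ : Equiv.Perm (Fin (2 * N))}
    (hneg : ∀ a b, a < b → Sup a b → qblk N a = qblk N b → σ b < σ a) :
    (invs (σ * quad hN)).card < (invs σ).card := by
  classical
  obtain ⟨p, hp⟩ : ∃ p : Fin (2 * N), (p : ℕ) + 2 = N := ⟨⟨N - 2, by omega⟩, Nat.sub_add_cancel hN⟩
  obtain ⟨s, hs'⟩ : ∃ s : Fin (2 * N), (s : ℕ) + 1 = N := ⟨⟨N - 1, by omega⟩, Nat.sub_add_cancel (by omega)⟩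
  have hsr : (s.rev : ℕ) = N := by rw [Fin.val_rev]; omega
  have himg : ((invs (σ * quad hN)).erase (s, s.rev)).image (fun z => (quad hN z.1, quad hN z.2)) ⊆
      ((invs σ).erase (p, s)).erase (p, s.rev) := by
    intro z hz
    obtain ⟨⟨a, b⟩, hab, rfl⟩ := Finset.mem_image.1 hz
    obtain ⟨hne, hab⟩ := Finset.mem_erase.1 hab
    unfold invs at hab
    rw [Finset.mem_filter] at hab
    obtain ⟨-, hab⟩ := hab
    simp only [Equiv.Perm.mul_apply] at hab
    have hs : Sup a b := fun ⟨h1, h2⟩ => hne (Prod.ext (Fin.ext (show (a : ℕ) = s by omega))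
      (Fin.ext (show (b : ℕ) = (s.rev : ℕ) by omega)))
    have hb : qblk N a ≠ qblk N b := fun e => by
      obtain ⟨h1, h2⟩ := quad_anti hN hab.1 hs e
      exact lt_asymm hab.2 (hneg _ _ h1 h2 (by rw [qblk_quad, qblk_quad, e]))
    have hb' : qblk N (quad hN a) ≠ qblk N (quad hN b) := by rwa [qblk_quad, qblk_quad]
    refine Finset.mem_erase.2 ⟨fun e => hb' ?_, Finset.mem_erase.2 ⟨fun e => hb' ?_, ?_⟩⟩
    · rw [Prod.mk.injEq] at e
      rw [e.1, e.2]
      simp only [qblk]
      split_ifs <;> omega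
    · rw [Prod.mk.injEq] at e
      rw [e.1, e.2]
      simp only [qblk]
      split_ifs <;> omega
    · unfold invs
      rw [Finset.mem_filter]
      exact ⟨Finset.mem_univ _, quad_pres hN hab.1 hb, hab.2⟩
  have hcard := Finset.card_le_card himg
  rw [Finset.card_image_of_injective _ fun z w h => Prod.ext ((quad hN).injective (congrArg Prod.fst h))
    ((quad hN).injective (congrArg Prod.snd h))] at hcard
  have h1 := Finset.pred_card_le_card_erase (s := invs (σ * quad hN)) (a := (s, s.rev))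
  have hin : ∀ t : Fin (2 * N), N ≤ (t : ℕ) + 1 → (t : ℕ) ≤ N → (p, t) ∈ invs σ := fun t t1 t2 => by
    unfold invs
    rw [Finset.mem_filter]
    refine ⟨Finset.mem_univ _, by simp only [Fin.lt_def]; omega, hneg p t (by rw [Fin.lt_def]; omega)
      (fun ⟨e, _⟩ => by omega) (by simp only [qblk]; split_ifs <;> omega)⟩
  have hin2 : (p, s.rev) ∈ (invs σ).erase (p, s) :=
    Finset.mem_erase.2 ⟨fun e => by
      have := congrArg (fun z : Fin (2 * N) × Fin (2 * N) => (z.2 : ℕ)) e
      simp only at this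
      omega, hin _ (by omega) (by omega)⟩
  rw [Finset.card_erase_of_mem hin2, Finset.card_erase_of_mem (hin s (by omega) (by omega))] at hcard
  have := Finset.card_pos.2 ⟨_, hin s (by omega) (by omega)⟩
  have hpos : 1 < (invs σ).card := Finset.one_lt_card.2
    ⟨_, hin s (by omega) (by omega), _, hin s.rev (by omega) (by omega), fun e => by
      have := congrArg (fun z : Fin (2 * N) × Fin (2 * N) => (z.2 : ℕ)) e
      simp only at this
      omega⟩
  omega

/-- the reflections of minus type -/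
abbrev IMinus (N : ℕ) : Type := Fin (N - 2) ⊕ {_u : Unit // 2 ≤ N}

/-- an ordinary reflection of minus type as one of plus type -/
def lift (i : Fin (N - 2)) : Fin (N - 1) := ⟨i, by have := i.2; omega⟩

/-- the reflection -/
def rMinus : IMinus N → Equiv.Perm (Fin (2 * N))
  | Sum.inl i => ref (ixA (lift i))
  | Sum.inr u => quad u.2

/-- the blocks -/
def blkMinus : IMinus N → Fin (2 * N) → ℕ
  | Sum.inl i => blk (ixA (lift i))
  | Sum.inr _ => qblk N

theorem ref_mid (i : Fin (N - 2)) (a : Fin (2 * N)) :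
    ref (ixA (lift i)) (mid N a) = mid N (ref (ixA (lift i)) a) := by
  apply Fin.ext
  rw [ref_ix, mid_val, mid_val, ref_ix]
  have := i.2
  have := a.2
  show refN (2 * N) (i : ℕ) (midN N a) = midN N (refN (2 * N) (i : ℕ) a)
  by_cases h1 : (a : ℕ) + 1 = N
  · rw [show midN N a = N by simp only [midN]; split_ifs <;> omega,
      show refN (2 * N) (i : ℕ) N = N by simp only [refN]; split_ifs <;> omega,
      show refN (2 * N) (i : ℕ) a = a by simp only [refN]; split_ifs <;> omega]
    simp only [midN]; split_ifs <;> omega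
  by_cases h2 : (a : ℕ) = N
  · rw [show midN N a = N - 1 by simp only [midN]; split_ifs <;> omega,
      show refN (2 * N) (i : ℕ) (N - 1) = N - 1 by simp only [refN]; split_ifs <;> omega,
      show refN (2 * N) (i : ℕ) a = a by simp only [refN]; split_ifs <;> omega]
    simp only [midN]; split_ifs <;> omega
  rw [show midN N a = a by simp only [midN]; split_ifs <;> omega]
  have h3 : ¬ refN (2 * N) (i : ℕ) a + 1 = N ∧ ¬ refN (2 * N) (i : ℕ) a = N := by
    simp only [refN]; split_ifs <;> omega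
  simp only [midN, if_neg h3.1, if_neg h3.2]

theorem minus_descent {σ : Equiv.Perm (Fin (2 * N))} (hσ : GoodM σ) (h1 : σ ≠ 1) :
    ∃ i : IMinus N, (∀ a b, a < b → Sup a b → blkMinus i a = blkMinus i b → σ b < σ a) ∧
      (invs (σ * rMinus i)).card < (invs σ).card := by
  have hlin : ∀ (i : Fin (N - 2)),
      (∀ a b, a < b → blk (ixA (lift i)) a = blk (ixA (lift i)) b → σ b < σ a) →
      ∃ i : IMinus N, (∀ a b, a < b → Sup a b → blkMinus i a = blkMinus i b → σ b < σ a) ∧
        (invs (σ * rMinus i)).card < (invs σ).card := fun i hi =>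
    ⟨Sum.inl i, fun a b hab _ hb => hi a b hab hb, invs_lt _ hi⟩
  obtain ⟨⟨k, hk⟩, hkneg⟩ := exists_descent hσ.1.1 h1
  by_cases hk2 : k + 2 < N
  · exact hlin ⟨k, by omega⟩ hkneg
  by_cases hblock : ∃ hN : 2 ≤ N, ∀ a b, a < b → Sup a b → qblk N a = qblk N b → σ b < σ a
  · obtain ⟨hN, hneg⟩ := hblock
    exact ⟨Sum.inr ⟨(), hN⟩, hneg, quad_invs hN hneg⟩
  have hpos : 2 ≤ N → ∀ a b, a < b → Sup a b → qblk N a = qblk N b → σ a < σ b := fun hN =>
    (quad_pairs hN hσ).resolve_right fun h => hblock ⟨hN, h⟩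
  by_cases hk1 : k + 2 = N
  · exfalso
    have hN : 2 ≤ N := by omega
    have h2 := hkneg ⟨k, by omega⟩ ⟨k + 1, by omega⟩ (by rw [Fin.lt_def]; simp only; omega)
      (by simp only [blk, blkN]; split_ifs <;> omega)
    exact lt_asymm h2 (hpos hN ⟨k, by omega⟩ ⟨k + 1, by omega⟩ (by rw [Fin.lt_def]; simp only; omega)
      (fun ⟨e, _⟩ => by simp only at e; omega) (by simp only [qblk]; split_ifs <;> omega))
  have hk' : k + 1 = N := by omega
  have hN0 : 0 < N := by omega
  obtain ⟨p, hp⟩ : ∃ p : Fin (2 * N), (p : ℕ) + 1 = N := ⟨⟨N - 1, by omega⟩, Nat.sub_add_cancel hN0⟩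
  have hpr : (p.rev : ℕ) = N := by rw [Fin.val_rev]; omega
  have hmneg : σ p.rev < σ p := hkneg p p.rev (by rw [Fin.lt_def]; omega)
    (by simp only [blk, blkN]; split_ifs <;> omega)
  have hτ1 : σ * mid N ≠ 1 := fun e => by
    have h2 := (cross_mid hN0 hσ.1.1).1 (by rw [e, cross_one]; exact Even.zero)
    exact h2 hσ.1.2
  obtain ⟨⟨l, hl⟩, hlneg⟩ := exists_descent (σ := σ * mid N) (by rw [flipP_mul, hσ.1.1, flipP_mid]) hτ1
  have hfix : ∀ a : Fin (2 * N), (a : ℕ) + 1 < N ∨ N < (a : ℕ) → mid N a = a := fun a ha => Fin.ext (by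
    rw [mid_val]; simp only [midN]; split_ifs <;> omega)
  by_cases hl2 : l + 2 < N
  · refine hlin ⟨l, by omega⟩ fun a b hab hb => ?_
    have h2 := hlneg a b hab hb
    have hab' : (a : ℕ) ≠ b := fun e => hab.ne (Fin.ext e)
    rw [blk_ix, blk_ix] at hb
    change blkN (2 * N) l (a : ℕ) = blkN (2 * N) l (b : ℕ) at hb
    simp only [blkN] at hb
    rwa [Equiv.Perm.mul_apply, Equiv.Perm.mul_apply, hfix a (by split_ifs at hb <;> omega),
      hfix b (by split_ifs at hb <;> omega)] at h2
  exfalso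
  by_cases hl1 : l + 2 = N
  · have hN : 2 ≤ N := by omega
    have h2 := hlneg ⟨l, by omega⟩ ⟨l + 1, by omega⟩ (by rw [Fin.lt_def]; simp only; omega)
      (by simp only [blk, blkN]; split_ifs <;> omega)
    rw [Equiv.Perm.mul_apply, Equiv.Perm.mul_apply, hfix ⟨l, by omega⟩ (Or.inl (by simp only; omega)),
      show mid N ⟨l + 1, by omega⟩ = p.rev from Fin.ext (by
        rw [mid_val, hpr]; simp only [midN]; split_ifs <;> omega)] at h2
    exact lt_asymm h2 (hpos hN _ _ (by rw [Fin.lt_def, hpr]; simp only; omega)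
      (fun ⟨e, _⟩ => by simp only at e; omega) (by simp only [qblk]; split_ifs <;> omega))
  have hl' : l + 1 = N := by omega
  have h2 := hlneg p p.rev (by rw [Fin.lt_def]; omega) (by simp only [blk, blkN]; split_ifs <;> omega)
  rw [Equiv.Perm.mul_apply, Equiv.Perm.mul_apply,
    show mid N p = p.rev from Fin.ext (by rw [mid_val, hpr]; simp only [midN]; rw [if_pos hp]),
    show mid N p.rev = p from Fin.ext (by rw [mid_val]; simp only [midN]; split_ifs <;> omega)] at h2
  exact lt_asymm h2 hmneg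

variable [Fintype K]

theorem minus_root_aux (φ : K →+* K) (G : Subgroup (SLn (2 * N) K))
    (mem : ∀ g : SLn (2 * N) K, g ∈ uniU (2 * N) K ∨ g ∈ loU (2 * N) K → InO g → rho N φ g = g → g ∈ G)
    (q p : Fin (2 * N)) (y : Fin (2 * N) → K) (hq : (q : ℕ) + 1 < N) (hp : y p = 1)
    (hy : ∀ a, y a ≠ 0 → q < a ∧ a < q.rev) (hyφ : ∀ a, φ (y (mid N a)) = y a)
    (hqy : φ (qA N K y) = qA N K y) :
    ∃ g ∈ loU (2 * N) K, g ∈ G ∧ g ≠ 1 ∧ ∀ a b, a ≠ b → g.1 a b ≠ 0 →
      (b = q ∧ y a ≠ 0) ∨ (a = q.rev ∧ y b.rev ≠ 0) ∨ (a = q.rev ∧ b = q ∧ qA N K y ≠ 0) := by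
  obtain ⟨g, hg, hgl, hgO⟩ := exists_sieg q y (by omega) hy
  have hqf : mid N q = q := Fin.ext (by rw [mid_val]; simp only [midN]; split_ifs <;> omega)
  refine ⟨g, hgl, mem g (Or.inr hgl) hgO ?_, fun e => ?_, fun a b hab hne => ?_⟩
  · refine Subtype.ext (Matrix.ext fun a b => ?_)
    rw [rho_apply, hg]
    exact sieg_fixed φ hqf y hyφ hqy a b
  · have hpne := hy p (by rw [hp]; exact one_ne_zero)
    have h := congrFun (congrFun (congrArg Subtype.val e) p) q
    rw [hg, sieg_apply, if_neg hpne.1.ne', if_pos rfl, hp, if_neg hpne.2.ne,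
      Matrix.SpecialLinearGroup.coe_one, Matrix.one_apply_ne hpne.1.ne', zero_add, sub_zero] at h
    exact one_ne_zero h
  · by_contra hc
    push Not at hc
    obtain ⟨c1, c2, c3⟩ := hc
    refine hne ?_
    rw [hg, sieg_apply, if_neg hab]
    by_cases hb : b = q <;> by_cases ha : a = q.rev
    · rw [if_pos hb, if_pos ha, if_pos hb, c1 hb, c2 ha, c3 ha hb]; ring
    · rw [if_pos hb, if_neg ha, c1 hb]; ring
    · rw [if_neg hb, if_pos ha, if_neg hb, c2 ha]; ring
    · rw [if_neg hb, if_neg ha]; ring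

theorem qA_single (a : Fin (2 * N)) : qA N K (Pi.single a 1) = 0 := by
  rw [qA_apply]
  refine Finset.sum_eq_zero fun j _ => ?_
  by_cases e : idxA N (.inl j) = a
  · rw [Pi.single_eq_of_ne (fun e' : (idxA N (.inl j)).rev = a => by
      have h3 := congrArg Fin.val (e'.trans e.symm)
      have := j.2
      rw [Fin.val_rev, idxA_inl] at h3
      omega), mul_zero]
  · rw [Pi.single_eq_of_ne e, zero_mul]

theorem minus_root (φ : K →+* K) (G : Subgroup (SLn (2 * N) K))
    (mem : ∀ g : SLn (2 * N) K, g ∈ uniU (2 * N) K ∨ g ∈ loU (2 * N) K → InO g → rho N φ g = g → g ∈ G) :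
    ∀ i : IMinus N, ∃ y ∈ loU (2 * N) K, y ∈ G ∧ y ≠ 1 ∧
      ∀ a b, a ≠ b → y.1 a b ≠ 0 → blkMinus i a = blkMinus i b ∧ Sup b a := by
  rintro (i | ⟨⟨⟩, hN⟩)
  · have hi := i.2
    obtain ⟨q, hq⟩ : ∃ q : Fin (2 * N), (q : ℕ) = i := ⟨⟨i, by omega⟩, rfl⟩
    obtain ⟨p, hp⟩ : ∃ p : Fin (2 * N), (p : ℕ) = i + 1 := ⟨⟨i + 1, by omega⟩, rfl⟩
    have hpf : mid N p = p := Fin.ext (by rw [mid_val]; simp only [midN]; split_ifs <;> omega)
    have hys : ∀ a, (Pi.single p (1 : K) : Fin (2 * N) → K) a ≠ 0 → a = p := fun a ha =>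
      by_contra fun h => ha (Pi.single_eq_of_ne h _)
    obtain ⟨g, hgl, hgG, hg1, hgs⟩ := minus_root_aux φ G mem q p (Pi.single p 1) (by omega) (Pi.single_eq_same _ _)
      (fun a ha => by
        rw [hys a ha]; constructor <;> simp only [Fin.lt_def, Fin.val_rev] <;> omega)
      (fun a => by
        by_cases h : a = p
        · rw [h, hpf, Pi.single_eq_same, map_one]
        · rw [Pi.single_eq_of_ne h, Pi.single_eq_of_ne (fun e => h (by rw [← mid_mid a, e, hpf])), map_zero])
      (by rw [qA_single, map_zero])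
    refine ⟨g, hgl, hgG, hg1, fun a b hab hne => ?_⟩
    have hcases : (b = q ∧ a = p) ∨ (a = q.rev ∧ b = p.rev) := by
      rcases hgs a b hab hne with ⟨h1, h2⟩ | ⟨h1, h2⟩ | ⟨-, -, h3⟩
      · exact Or.inl ⟨h1, hys a h2⟩
      · exact Or.inr ⟨h1, by rw [← hys _ h2, Fin.rev_rev]⟩
      · exact absurd (qA_single p) h3
    show blk (ixA (lift i)) a = blk (ixA (lift i)) b ∧ Sup b a
    rw [blk_ix, blk_ix]
    show blkN (2 * N) (i : ℕ) (a : ℕ) = blkN (2 * N) (i : ℕ) (b : ℕ) ∧ Sup b a
    simp only [Sup, blkN]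
    rcases hcases with ⟨rfl, rfl⟩ | ⟨rfl, rfl⟩ <;> (try simp only [Fin.val_rev]) <;>
      constructor <;> (try split_ifs) <;> omega
  · obtain ⟨q, hq⟩ : ∃ q : Fin (2 * N), (q : ℕ) + 2 = N := ⟨⟨N - 2, by omega⟩, Nat.sub_add_cancel hN⟩
    obtain ⟨p, hp⟩ : ∃ p : Fin (2 * N), (p : ℕ) + 1 = N := ⟨⟨N - 1, by omega⟩, Nat.sub_add_cancel (by omega)⟩
    have hpr : (p.rev : ℕ) = N := by rw [Fin.val_rev]; omega
    have hne : p ≠ p.rev := fun e => by have := congrArg Fin.val e; omega
    have hmp : mid N p = p.rev := Fin.ext (by rw [mid_val, hpr]; simp only [midN]; rw [if_pos hp])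
    have hmp' : mid N p.rev = p := by rw [← hmp, mid_mid]
    obtain ⟨y, hyd⟩ : ∃ y : Fin (2 * N) → K, Pi.single p 1 + Pi.single p.rev 1 = y := ⟨_, rfl⟩
    have hys : ∀ a, y a ≠ 0 → a = p ∨ a = p.rev := fun a ha => by
      by_contra hc
      push Not at hc
      exact ha (by rw [← hyd]; simp [Pi.single_eq_of_ne hc.1, Pi.single_eq_of_ne hc.2])
    have hqy : qA N K y = 1 := by
      rw [← hyd, Orth.q_add, qA_single, qA_single, polar_single, Pi.single_eq_same, zero_add, zero_add]
    obtain ⟨g, hgl, hgG, hg1, hgs⟩ := minus_root_aux φ G mem q p y (by omega)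
      (by rw [← hyd]; simp [Pi.single_eq_of_ne hne])
      (fun a ha => by
        rcases hys a ha with rfl | rfl <;> constructor <;> simp only [Fin.lt_def, Fin.val_rev] <;> omega)
      (fun a => by
        rw [← hyd]
        simp only [Pi.add_apply, map_add, Pi.single_apply, apply_ite φ, map_one, map_zero]
        have e1 : (mid N a = p) = (a = p.rev) := propext
          ⟨fun e => by rw [← mid_mid a, e, hmp], fun e => by rw [e, hmp']⟩
        have e2 : (mid N a = p.rev) = (a = p) := propext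
          ⟨fun e => by rw [← mid_mid a, e, hmp'], fun e => by rw [e, hmp]⟩
        simp only [e1, e2]
        rw [add_comm])
      (by rw [hqy, map_one])
    refine ⟨g, hgl, hgG, hg1, fun a b hab hne' => ?_⟩
    have hcases : ((b : ℕ) + 2 = N ∧ N ≤ (a : ℕ) + 1 ∧ (a : ℕ) ≤ N + 1) ∨
        ((a : ℕ) = N + 1 ∧ N ≤ (b : ℕ) + 1 ∧ (b : ℕ) ≤ N) := by
      rcases hgs a b hab hne' with ⟨h1, h2⟩ | ⟨h1, h2⟩ | ⟨h1, h2, -⟩
      · left
        subst h1
        rcases hys a h2 with rfl | rfl <;> omega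
      · right
        subst h1
        rw [Fin.val_rev] at hpr
        rcases hys _ h2 with h3 | h3 <;> have h4 := congrArg Fin.val h3 <;>
          simp only [Fin.val_rev] at h4 ⊢ <;> omega
      · left
        subst h1 h2
        rw [Fin.val_rev]
        omega
    show qblk N a = qblk N b ∧ Sup b a
    simp only [Sup, qblk]
    constructor <;> (try split_ifs) <;> omega

/-- the split data of minus type -/
noncomputable def minusSplit (φ : K →+* K) (G : Subgroup (SLn (2 * N) K))
    (hG : ∀ g ∈ G, InO g ∧ Pr g ∧ rho N φ g = g)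
    (mem : ∀ g : SLn (2 * N) K, g ∈ uniU (2 * N) K ∨ g ∈ loU (2 * N) K → InO g → rho N φ g = g → g ∈ G) :
    Split (2 * N) K where
  G := G
  dec g hg σ u m v hu hm hv hc e := by
    obtain ⟨hgO, -, hgf⟩ := hG g hg
    obtain ⟨-, h1, h2, h3⟩ := dec_inO hgO hu hm hv hc e
    obtain ⟨-, eu, -, ev⟩ := decomp_unique (rho_uni φ h1 hu) hu (rho_mono φ hm) hm (rho_uni φ h3 hv) hv
      (by rw [← map_inv, ← map_mul, ← map_mul]; exact rho_lo φ ((h2.mul h3).mul h2.inv) hc) hc
      (by rw [← map_mul, ← map_mul, ← e, hgf, e])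
    exact ⟨mem u (Or.inl hu) h1 eu, mem v (Or.inl hv) h3 ev⟩
  Supp := Sup
  supp u hG' hu := sup_of_uni (hG u hG').1 hu
  Good := GoodM
  good_of_mem m hm σ hσ :=
    ⟨⟨by
      have h := tw_mono _ (fun _ => one_ne_zero) (RingHom.id K) m σ hσ
      rw [(hG m hm).1.tw_fixed] at h
      exact Mono.unique h hσ, even_cross (hG m hm).1 (hG m hm).2.1 hσ⟩, fun a => by
      have h := rho_mono φ hσ
      rw [(hG m hm).2.2] at h
      have h1 := Equiv.Perm.congr_fun (Mono.unique h hσ) a
      rw [Equiv.Perm.mul_apply, Equiv.Perm.mul_apply] at h1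
      rw [← h1, mid_mid]⟩
  Bad _ := False
  not_bad _ _ _ _ h := h
  ι := IMinus N
  r := rMinus
  blk := blkMinus
  r_sq i := by
    rcases i with i | ⟨⟨⟩, hN⟩
    · exact ref_mul_self _
    · refine Equiv.ext fun a => Fin.ext ?_
      show quadN N (quadN N a) = a
      have := a.2
      simp only [quadN]
      split_ifs <;> omega
  r_inj i j h := by
    rcases i with i | ⟨⟨⟩, hN⟩ <;> rcases j with j | ⟨⟨⟩, hN'⟩
    · have h2 := congrArg (fun x : Idx (2 * N) => (x : ℕ))
        (ref_injective (show ref (ixA (lift i)) = ref (ixA (lift j)) from h))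
      exact congrArg Sum.inl (Fin.ext h2)
    · exfalso
      have hi := i.2
      have h2 := congrArg Fin.val (Equiv.Perm.congr_fun h ⟨N - 1, by omega⟩)
      change refN (2 * N) (i : ℕ) (N - 1) = quadN N (N - 1) at h2
      simp only [refN, quadN] at h2
      split_ifs at h2 <;> omega
    · exfalso
      have hj := j.2
      have h2 := congrArg Fin.val (Equiv.Perm.congr_fun h ⟨N - 1, by omega⟩)
      change quadN N (N - 1) = refN (2 * N) (j : ℕ) (N - 1) at h2
      simp only [refN, quadN] at h2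
      split_ifs at h2 <;> omega
    · rfl
  blk_r i a := by
    rcases i with i | ⟨⟨⟩, hN⟩
    · exact blk_ref _ a
    · exact qblk_quad hN a
  blk_mono i a b hab _ := by
    rcases i with i | ⟨⟨⟩, hN⟩
    · exact blk_mono _ hab.le
    · show qblk N a ≤ qblk N b
      rw [Fin.lt_def] at hab
      simp only [qblk]
      split_ifs <;> omega
  r_anti i a b hab hs hb := by
    rcases i with i | ⟨⟨⟩, hN⟩
    · refine ⟨ref_anti _ hab hb, by_contra fun h2 => blk_mid_ne (lift i) h2 ?_⟩
      show blk (ixA (lift i)) (ref (ixA (lift i)) b) = blk (ixA (lift i)) (ref (ixA (lift i)) a)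
      rw [blk_ref, blk_ref]
      exact (show blk (ixA (lift i)) a = blk (ixA (lift i)) b from hb).symm
    · exact quad_anti hN hab hs hb
  pres i v hvG hv h0 := by
    rcases i with i | ⟨⟨⟩, hN⟩
    · exact plus_pres (Sum.inl (lift i)) (hG v hvG).1 hv h0
    · intro a b hne
      by_contra hb
      have hab : a < b := lt_of_le_of_ne (le_of_not_gt fun h => hne (hv.1 (show id b < id a from h)))
        fun e => hb (by rw [e])
      exact hne (h0 a b (quad_pres hN hab hb))
  root := minus_root φ G mem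
  good_mul i σ hσ := by
    rcases i with i | ⟨⟨⟩, hN⟩
    · refine ⟨⟨by rw [flipP_mul, hσ.1.1]; exact congrArg _ (flipP_ref _), cross_rPlus (Sum.inl (lift i)) hσ.1⟩,
        fun a => ?_⟩
      show σ (ref (ixA (lift i)) (mid N a)) = mid N (σ (ref (ixA (lift i)) a))
      rw [ref_mid, hσ.2]
    · refine ⟨⟨by show flipP (σ * quad hN) = σ * quad hN; rw [flipP_mul, hσ.1.1, flipP_quad], ?_⟩, fun a => ?_⟩
      · show Even (cross (σ * quad hN))
        rw [quad_eq hN, ← mul_assoc]
        exact cross_rPlus _ ⟨by rw [flipP_mul, hσ.1.1, rPlus_flip], cross_rPlus _ hσ.1⟩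
      · show σ (quad hN (mid N a)) = mid N (σ (quad hN a))
        rw [quad_mid, hσ.2]
  sign i σ hσ := by
    rcases i with i | ⟨⟨⟩, hN⟩
    · rcases sign_blocks (ixA (lift i)) hσ.1.1 with h | h
      · exact Or.inl fun a b hab _ hb => h a b hab hb
      · exact Or.inr fun a b hab _ hb => h a b hab hb
    · exact quad_pairs hN hσ
  eq_one_or i σ hσ hb := by
    rcases i with i | ⟨⟨⟩, hN⟩
    · rcases eq_one_or_ref (ixA (lift i)) hσ.1.1 hb with h | h
      · exact Or.inl h
      · exact Or.inr (Or.inl h)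
    · have hb' : ∀ a, qblk N (σ a) = qblk N a := hb
      have hfixo : ∀ a : Fin (2 * N), (a : ℕ) + 2 < N ∨ N + 1 < (a : ℕ) → σ a = a := fun a ha => by
        have h2 := hb' a
        simp only [qblk] at h2
        apply Fin.ext
        split_ifs at h2 <;> omega
      obtain ⟨p, hp⟩ : ∃ p : Fin (2 * N), (p : ℕ) + 2 = N := ⟨⟨N - 2, by omega⟩, Nat.sub_add_cancel hN⟩
      have hx := hσ.out_set p (by omega)
      have hxb := hb' p
      have hcases : ((σ p : Fin (2 * N)) : ℕ) + 2 = N ∨ ((σ p : Fin (2 * N)) : ℕ) = N + 1 := by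
        simp only [qblk] at hxb
        split_ifs at hxb <;> omega
      have hout : ∀ τ : Equiv.Perm (Fin (2 * N)), GoodM τ → (∀ a : Fin (2 * N), (a : ℕ) + 2 < N ∨ N + 1 < (a : ℕ) → τ a = a) →
          τ p = p → τ = 1 := fun τ hτ hf hτp => hτ.eq_one fun a ha => by
        by_cases h3 : (a : ℕ) + 2 < N ∨ N + 1 < (a : ℕ)
        · exact hf a h3
        have : a = p ∨ a = p.rev := by
          rcases ha with ha | ha
          · left; apply Fin.ext; omega
          · right; apply Fin.ext; rw [Fin.val_rev]; omega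
        rcases this with rfl | rfl
        · exact hτp
        · rw [sym_apply hτ.1.1, hτp]
      rcases hcases with hx2 | hx2
      · exact Or.inl (hout σ hσ hfixo (Fin.ext (by omega)))
      · right; left
        have hgood : GoodM (σ * quad hN) :=
          ⟨⟨by rw [flipP_mul, hσ.1.1, flipP_quad], by
            rw [quad_eq hN, ← mul_assoc]
            exact cross_rPlus _ ⟨by rw [flipP_mul, hσ.1.1, rPlus_flip], cross_rPlus _ hσ.1⟩⟩, fun a => by
            rw [Equiv.Perm.mul_apply, Equiv.Perm.mul_apply, quad_mid, hσ.2]⟩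
        have hqf : ∀ a : Fin (2 * N), (a : ℕ) + 2 < N ∨ N + 1 < (a : ℕ) → quad hN a = a := fun a ha =>
          Fin.ext (by rw [quad_val]; simp only [quadN]; split_ifs <;> omega)
        have h1 := hout _ hgood (fun a ha => by rw [Equiv.Perm.mul_apply, hqf a ha, hfixo a ha]) (by
          rw [Equiv.Perm.mul_apply, show quad hN p = p.rev from Fin.ext (by
            rw [quad_val, Fin.val_rev]; simp only [quadN]; split_ifs <;> omega), sym_apply hσ.1.1]
          apply Fin.ext
          rw [Fin.val_rev]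
          omega)
        show σ = quad hN
        have hq2 : quad hN * quad hN = 1 := Equiv.ext fun a => Fin.ext (by
          show quadN N (quadN N a) = a
          have := a.2
          simp only [quadN]
          split_ifs <;> omega)
        rw [← mul_one σ, ← hq2, ← mul_assoc, h1, one_mul]
  c := 1
  bad_c h := (h rfl).elim
  descent _ hσ h1 _ := minus_descent hσ h1
  w0 := w0A N
  good_w0 := ⟨w0A_good, w0A_comm⟩
  long τ hτ a b hab hs := by
    rw [inv_one, one_mul, or_self] at hτ
    rw [hτ]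
    exact w0A_long a b hab hs

end Cfsg.Agent.DSplit
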