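import Mathlib.Data.Fin.Rev
import Mathlib.GroupTheory.Perm.Basic
import Mathlib.Algebra.Order.BigOperators.Group.Finset
import Mathlib.Data.Fintype.Perm
import Mathlib.Data.Fintype.BigOperators
import Mathlib.Tactic

/-!
# The simple reflections commuting with the reversal of an index set
-/

set_option autoImplicit false

namespace Cfsg.Agent.SLPair

variable {n : ℕ}

/-- the block label -/
def blkN (n i a : ℕ) : ℕ :=
  if n ≤ 2 * i + 3 then (if i ≤ a ∧ a + i + 1 ≤ n then i else a)
  else if a = i + 1 then i else if a + i + 1 = n then n - 2 - i else a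

/-- the reversal inside the blocks -/
def refN (n i a : ℕ) : ℕ :=
  if n ≤ 2 * i + 3 then (if i ≤ a ∧ a + i + 1 ≤ n then n - 1 - a else a)
  else if a = i then i + 1 else if a = i + 1 then i else if a + i + 2 = n then n - 1 - i
    else if a + i + 1 = n then n - 2 - i else a

/-- the index type of the orbits of simple reflections -/
abbrev Idx (n : ℕ) : Type := {i : ℕ // 2 * i + 2 ≤ n}

theorem refN_lt {i a : ℕ} (hi : 2 * i + 2 ≤ n) (ha : a < n) : refN n i a < n := by
  unfold refN; split_ifs <;> omega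

theorem refN_refN {i a : ℕ} (hi : 2 * i + 2 ≤ n) (ha : a < n) : refN n i (refN n i a) = a := by
  unfold refN; split_ifs <;> omega

/-- the reflection -/
def ref (i : Idx n) : Equiv.Perm (Fin n) where
  toFun a := ⟨refN n i a, refN_lt i.2 a.2⟩
  invFun a := ⟨refN n i a, refN_lt i.2 a.2⟩
  left_inv a := Fin.ext (refN_refN i.2 a.2)
  right_inv a := Fin.ext (refN_refN i.2 a.2)

/-- the block -/
def blk (i : Idx n) (a : Fin n) : ℕ := blkN n i a

theorem ref_val (i : Idx n) (a : Fin n) : ((ref i a : Fin n) : ℕ) = refN n i a := rfl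

theorem ref_mul_self (i : Idx n) : ref i * ref i = 1 :=
  Equiv.ext fun a => Fin.ext (refN_refN i.2 a.2)

theorem ref_inv (i : Idx n) : (ref i)⁻¹ = ref i := inv_eq_of_mul_eq_one_right (ref_mul_self i)

theorem blk_mono (i : Idx n) {a b : Fin n} (h : a ≤ b) : blk i a ≤ blk i b := by
  obtain ⟨i, hi⟩ := i
  obtain ⟨a, ha⟩ := a; obtain ⟨b, hb⟩ := b
  simp only [Fin.mk_le_mk] at h
  simp only [blk, blkN]
  split_ifs <;> omega

theorem blk_ref (i : Idx n) (a : Fin n) : blk i (ref i a) = blk i a := by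
  obtain ⟨i, hi⟩ := i
  obtain ⟨a, ha⟩ := a
  simp only [blk, blkN, ref_val, refN]
  split_ifs <;> omega

theorem ref_anti (i : Idx n) {a b : Fin n} (h : a < b) (hb : blk i a = blk i b) : ref i b < ref i a := by
  obtain ⟨i, hi⟩ := i
  obtain ⟨a, ha⟩ := a; obtain ⟨b, hb'⟩ := b
  simp only [Fin.mk_lt_mk] at h
  simp only [blk, blkN] at hb
  rw [Fin.lt_def, ref_val, ref_val]
  simp only [refN]
  split_ifs at hb ⊢ <;> omega

theorem ref_mono (i : Idx n) {a b : Fin n} (hb : blk i a < blk i b) : ref i a < ref i b := by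
  refine lt_of_not_ge fun h => ?_
  have := blk_mono i h
  rw [blk_ref, blk_ref] at this
  omega

/-- conjugation by the reversal -/
def flipP (σ : Equiv.Perm (Fin n)) : Equiv.Perm (Fin n) := Fin.revPerm * σ * Fin.revPerm

theorem flipP_apply (σ : Equiv.Perm (Fin n)) (a : Fin n) : flipP σ a = (σ a.rev).rev := rfl

theorem flipP_one : flipP (1 : Equiv.Perm (Fin n)) = 1 := Equiv.ext fun a => Fin.rev_rev a

theorem flipP_mul (σ τ : Equiv.Perm (Fin n)) : flipP (σ * τ) = flipP σ * flipP τ :=
  Equiv.ext fun a => by simp [flipP_apply]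

theorem flipP_inv (σ : Equiv.Perm (Fin n)) : flipP σ⁻¹ = (flipP σ)⁻¹ :=
  eq_inv_of_mul_eq_one_left (by rw [← flipP_mul, inv_mul_cancel, flipP_one])

theorem flipP_rev : flipP (Fin.revPerm : Equiv.Perm (Fin n)) = Fin.revPerm :=
  Equiv.ext fun a => by simp [flipP_apply]

theorem flipP_ref (i : Idx n) : flipP (ref i) = ref i := by
  refine Equiv.ext fun a => Fin.ext ?_
  rw [flipP_apply, Fin.val_rev, ref_val, ref_val, Fin.val_rev]
  obtain ⟨i, hi⟩ := i
  obtain ⟨a, ha⟩ := a
  simp only [refN]
  split_ifs <;> omega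

theorem ref_self_ne (i : Idx n) : refN n i i ≠ i := by
  obtain ⟨i, hi⟩ := i
  simp only [refN]
  split_ifs <;> omega

theorem refN_of_lt {i a : ℕ} (hi : 2 * i + 2 ≤ n) (ha : a < i) : refN n i a = a := by
  unfold refN; split_ifs <;> omega

theorem ref_injective : Function.Injective (ref (n := n)) := by
  intro i j h
  by_contra hne
  rcases lt_or_gt_of_ne (fun e => hne (Subtype.ext e) : (i : ℕ) ≠ j) with hlt | hlt
  · have h1 := congrArg Fin.val (Equiv.Perm.congr_fun h ⟨i, by have := i.2; omega⟩)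
    rw [ref_val, ref_val, refN_of_lt j.2 hlt] at h1
    exact ref_self_ne i h1
  · have h1 := congrArg Fin.val (Equiv.Perm.congr_fun h.symm ⟨j, by have := j.2; omega⟩)
    rw [ref_val, ref_val, refN_of_lt i.2 hlt] at h1
    exact ref_self_ne j h1

/-- the function on naturals -/
theorem exists_natFun (σ : Equiv.Perm (Fin n)) (hσ : flipP σ = σ) :
    ∃ f : ℕ → ℕ, (∀ a : Fin n, ((σ a : Fin n) : ℕ) = f a) ∧ (∀ k < n, f k < n) ∧
      (∀ k < n, f (n - 1 - k) + f k + 1 = n) ∧ (∀ k < n, ∀ l < n, k ≠ l → f k ≠ f l) := by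
  refine ⟨fun k => if h : k < n then ((σ ⟨k, h⟩ : Fin n) : ℕ) else k, fun a => by simp, fun k hk => ?_,
    fun k hk => ?_, fun k hk l hl hne => ?_⟩
  · simp [hk]
  · have h1 := congrArg Fin.val (Equiv.Perm.congr_fun hσ (⟨k, hk⟩ : Fin n).rev)
    rw [flipP_apply, Fin.rev_rev, Fin.val_rev] at h1
    have e : (⟨k, hk⟩ : Fin n).rev = ⟨n - 1 - k, by omega⟩ := Fin.ext (by rw [Fin.val_rev]; simp; omega)
    rw [e] at h1
    simp only [dif_pos hk, dif_pos (show n - 1 - k < n by omega), ← h1]
    have := (σ ⟨k, hk⟩).2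
    omega
  · simp only [dif_pos hk, dif_pos hl]
    exact fun e => hne (congrArg Fin.val (σ.injective (Fin.ext e)))

/-- a permutation commuting with the reversal has the same sign on all the pairs of a block -/
theorem sign_blocks (i : Idx n) {σ : Equiv.Perm (Fin n)} (hσ : flipP σ = σ) :
    (∀ a b, a < b → blk i a = blk i b → σ a < σ b) ∨ (∀ a b, a < b → blk i a = blk i b → σ b < σ a) := by
  obtain ⟨f, hf, -, hsym, hinj⟩ := exists_natFun σ hσ
  obtain ⟨i, hi⟩ := i
  have s1 := hsym i (by omega)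
  have s2 := hsym (i + 1) (by omega)
  have e2 : n - 1 - (i + 1) = n - 2 - i := by omega
  rw [e2] at s2
  have n1 := hinj i (by omega) (i + 1) (by omega) (by omega)
  rcases lt_or_gt_of_ne n1 with hlt | hlt
  · left
    rintro ⟨a, ha⟩ ⟨b, hb⟩ hab hblk
    simp only [Fin.mk_lt_mk] at hab
    simp only [blk, blkN] at hblk
    rw [Fin.lt_def, hf, hf]
    have : (a = i ∧ b = i + 1) ∨ (a = n - 2 - i ∧ b = n - 1 - i) ∨ (a = i ∧ b = n - 1 - i ∧ n = 2 * i + 3) := by
      split_ifs at hblk <;> omega
    rcases this with ⟨rfl, rfl⟩ | ⟨rfl, rfl⟩ | ⟨rfl, rfl, hn⟩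
    · exact hlt
    · simp only at *; omega
    · simp only at *
      rw [show n - 2 - a = a + 1 by omega] at s2
      omega
  · right
    rintro ⟨a, ha⟩ ⟨b, hb⟩ hab hblk
    simp only [Fin.mk_lt_mk] at hab
    simp only [blk, blkN] at hblk
    rw [Fin.lt_def, hf, hf]
    have : (a = i ∧ b = i + 1) ∨ (a = n - 2 - i ∧ b = n - 1 - i) ∨ (a = i ∧ b = n - 1 - i ∧ n = 2 * i + 3) := by
      split_ifs at hblk <;> omega
    rcases this with ⟨rfl, rfl⟩ | ⟨rfl, rfl⟩ | ⟨rfl, rfl, hn⟩
    · exact hlt
    · simp only at *; omega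
    · simp only at *
      rw [show n - 2 - a = a + 1 by omega] at s2
      omega

theorem eq_one_or_ref (i : Idx n) {σ : Equiv.Perm (Fin n)} (hσ : flipP σ = σ)
    (hc : ∀ a, blk i (σ a) = blk i a) : σ = 1 ∨ σ = ref i := by
  obtain ⟨f, hf, hflt, hsym, hinj⟩ := exists_natFun σ hσ
  have hi := i.2
  have hc' : ∀ k < n, blkN n i (f k) = blkN n i k := fun k hk => by
    have := hc ⟨k, hk⟩
    rwa [blk, blk, hf] at this
  obtain ⟨i, hi'⟩ := i
  simp only at hc'
  have hmid : n = 2 * i + 3 → f (i + 1) = i + 1 := fun e => by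
    have h := hsym (i + 1) (by omega)
    rw [show n - 1 - (i + 1) = i + 1 by omega] at h
    omega
  have key : ∀ k < n, f k = k ∨ f k = refN n i k := fun k hk => by
    have := hc' k hk
    have := hflt k hk
    have := hinj k hk
    by_cases hk1 : k = i + 1
    · subst hk1
      simp only [blkN, refN] at *
      split_ifs at * <;> omega
    · have hne := hinj k hk (i + 1) (by omega) hk1
      simp only [blkN, refN] at *
      split_ifs at * <;> omega
  have hsi := hsym i (by omega)
  have hsi1 := hsym (i + 1) (by omega)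
  have hne := hinj i (by omega) (i + 1) (by omega) (by omega)
  have hk1 := key (i + 1) (by omega)
  rcases key i (by omega) with h | h
  · left
    refine Equiv.ext fun a => Fin.ext ?_
    show ((σ a : Fin n) : ℕ) = a
    rw [hf]
    obtain ⟨a, ha⟩ := a
    simp only
    rcases key a ha with h' | h'
    · exact h'
    · have c1 : a = i → f a = f i := fun e => by rw [e]
      have c2 : a = i + 1 → f a = f (i + 1) := fun e => by rw [e]
      have c3 : a = n - 1 - i → f a = f (n - 1 - i) := fun e => by rw [e]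
      have c4 : a = n - 1 - (i + 1) → f a = f (n - 1 - (i + 1)) := fun e => by rw [e]
      simp only [refN] at *
      split_ifs at * <;> omega
  · right
    refine Equiv.ext fun a => Fin.ext ?_
    rw [hf, ref_val]
    obtain ⟨a, ha⟩ := a
    simp only
    rcases key a ha with h' | h'
    · have c1 : a = i → f a = f i := fun e => by rw [e]
      have c2 : a = i + 1 → f a = f (i + 1) := fun e => by rw [e]
      have c3 : a = n - 1 - i → f a = f (n - 1 - i) := fun e => by rw [e]
      have c4 : a = n - 1 - (i + 1) → f a = f (n - 1 - (i + 1)) := fun e => by rw [e]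
      simp only [refN] at *
      split_ifs at * <;> omega
    · exact h'

/-- the number of inversions -/
def invs (σ : Equiv.Perm (Fin n)) : Finset (Fin n × Fin n) :=
  Finset.univ.filter fun z => z.1 < z.2 ∧ σ z.2 < σ z.1

theorem invs_lt (i : Idx n) {σ : Equiv.Perm (Fin n)}
    (hneg : ∀ a b, a < b → blk i a = blk i b → σ b < σ a) :
    (invs (σ * ref i)).card < (invs σ).card := by
  classical
  have hi := i.2
  let a₀ : Fin n := ⟨i, by omega⟩
  have h₀ : ref i a₀ ≠ a₀ := fun e => ref_self_ne i (congrArg Fin.val e)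
  have hmap : (invs (σ * ref i)).image (fun z => (ref i z.1, ref i z.2)) ⊆
      (invs σ).filter fun z => blk i z.1 ≠ blk i z.2 := by
    intro z hz
    obtain ⟨⟨a, b⟩, hab, rfl⟩ := Finset.mem_image.1 hz
    unfold invs at hab ⊢
    rw [Finset.mem_filter] at hab
    obtain ⟨-, hab⟩ := hab
    simp only [Equiv.Perm.mul_apply] at hab
    rw [Finset.mem_filter, Finset.mem_filter]
    have hne : blk i a ≠ blk i b := fun e => by
      have h1 := hneg _ _ (ref_anti i hab.1 e) (by rw [blk_ref, blk_ref, e])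
      exact lt_asymm h1 hab.2
    refine ⟨⟨Finset.mem_univ _, ref_mono i ?_, hab.2⟩, by rwa [blk_ref, blk_ref]⟩
    exact lt_of_le_of_ne (blk_mono i hab.1.le) hne
  have hcard := Finset.card_le_card hmap
  rw [Finset.card_image_of_injective _ fun z w h => Prod.ext ((ref i).injective (congrArg Prod.fst h))
    ((ref i).injective (congrArg Prod.snd h))] at hcard
  refine lt_of_le_of_lt hcard (Finset.card_lt_card ?_)
  rw [Finset.filter_ssubset]
  rcases lt_or_gt_of_ne h₀ with h | h
  · exact ⟨(ref i a₀, a₀), by simp only [invs, Finset.mem_filter, Finset.mem_univ, true_and]; exact ⟨h, hneg _ _ h (blk_ref i _)⟩,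
      fun hne => hne (blk_ref i _)⟩
  · exact ⟨(a₀, ref i a₀), by simp only [invs, Finset.mem_filter, Finset.mem_univ, true_and]; exact ⟨h, hneg _ _ h (blk_ref i _).symm⟩,
      fun hne => hne (blk_ref i _).symm⟩

/-- a non-trivial symmetric permutation reverses some orbit -/
theorem exists_descent {σ : Equiv.Perm (Fin n)} (hσ : flipP σ = σ) (h1 : σ ≠ 1) :
    ∃ i : Idx n, ∀ a b, a < b → blk i a = blk i b → σ b < σ a := by
  obtain ⟨a, ha, hlt⟩ : ∃ (a : ℕ) (h : a + 1 < n), σ ⟨a + 1, h⟩ < σ ⟨a, by omega⟩ := by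
    by_contra hcon
    push Not at hcon
    refine h1 (Equiv.ext fun x => ?_)
    have hm : StrictMono σ := by
      intro x y hxy
      obtain ⟨x, hx⟩ := x; obtain ⟨y, hy⟩ := y
      simp only [Fin.mk_lt_mk] at hxy
      induction y with
      | zero => omega
      | succ y ih =>
        have h2 : σ ⟨y, by omega⟩ < σ ⟨y + 1, hy⟩ := lt_of_le_of_ne (hcon y hy) fun e => by
          have := congrArg Fin.val (σ.injective e)
          simp at this
        rcases Nat.lt_succ_iff_lt_or_eq.1 hxy with h | h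
        · exact lt_trans (ih (by omega) h) h2
        · subst h; exact h2
    have hle : ∀ y, y ≤ σ y := fun y => hm.id_le y
    show σ x = x
    by_contra hne
    have h2 : ∑ y : Fin n, (y : ℕ) < ∑ y, ((σ y : Fin n) : ℕ) :=
      Finset.sum_lt_sum (fun y _ => hle y) ⟨x, Finset.mem_univ _, Fin.lt_def.1 (lt_of_le_of_ne (hle x) (Ne.symm hne))⟩
    rw [Equiv.sum_comp σ (fun y : Fin n => (y : ℕ))] at h2
    exact lt_irrefl _ h2
  let i : Idx n := ⟨min a (n - 2 - a), by omega⟩
  refine ⟨i, (sign_blocks i hσ).resolve_left fun hpos => lt_asymm hlt (hpos _ _ ?_ ?_)⟩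
  · exact Fin.mk_lt_mk.2 (Nat.lt_succ_self a)
  · simp only [blk, blkN, i]
    rcases le_total a (n - 2 - a) with h | h
    · rw [min_eq_left h]; split_ifs <;> omega
    · rw [min_eq_right h]; split_ifs <;> omega

end Cfsg.Agent.SLPair
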