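import Cfsg.Agent.Lib.Steinberg.SLDecomp
import Cfsg.Agent.Lib.Steinberg.RefPerm
import Cfsg.Agent.S0165

/-!
# The (B, N)-pair and the Steinberg character of a split subgroup of a special linear group

A subgroup `G` of `SL_n` is split when it contains the unitriangular factors of the Bruhat
decompositions of its elements; the Weyl group data is given by reflections with blocks which
are only required to be monotone on the pairs that occur as supports of unitriangular elements.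
-/

set_option autoImplicit false
set_option linter.unusedSectionVars false
set_option linter.style.haveILetI false

namespace Cfsg.Agent.SLPair

open Matrix
open Cfsg.Agent.SLBlocks (uniU mem_uniU_of_upper isPGroup_uniU)

universe u

variable {n : ℕ} {F : Type u} [Field F]

/-- the data of a split subgroup -/
structure Split (n : ℕ) (F : Type u) [Field F] where
  /-- the group -/
  G : Subgroup (SLn n F)
  dec : ∀ g ∈ G, ∀ (σ : Equiv.Perm (Fin n)) (u m v : SLn n F), u ∈ uniU n F → Mono σ m.1 →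
    v ∈ uniU n F → m * v * m⁻¹ ∈ loU n F → g = u * m * v → u ∈ G ∧ v ∈ G
  /-- the pairs in the supports -/
  Supp : Fin n → Fin n → Prop
  supp : ∀ u ∈ G, u ∈ uniU n F → ∀ a b, a < b → u.1 a b ≠ 0 → Supp a b
  /-- the possible permutations -/
  Good : Equiv.Perm (Fin n) → Prop
  good_of_mem : ∀ m ∈ G, ∀ σ, Mono σ m.1 → Good σ
  /-- permutations which do not occur -/
  Bad : Equiv.Perm (Fin n) → Prop
  not_bad : ∀ m ∈ G, ∀ σ, Mono σ m.1 → ¬ Bad σ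
  /-- the index type -/
  ι : Type
  /-- the reflections -/
  r : ι → Equiv.Perm (Fin n)
  /-- the blocks -/
  blk : ι → Fin n → ℕ
  r_sq : ∀ i, r i * r i = 1
  r_inj : Function.Injective r
  blk_r : ∀ i a, blk i (r i a) = blk i a
  blk_mono : ∀ i a b, a < b → Supp a b → blk i a ≤ blk i b
  r_anti : ∀ i a b, a < b → Supp a b → blk i a = blk i b → r i b < r i a ∧ Supp (r i b) (r i a)
  pres : ∀ i, ∀ v ∈ G, v ∈ uniU n F → (∀ a b, r i a < r i b → v.1 a b = 0) →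
    ∀ a b, v.1 a b ≠ 0 → blk i a = blk i b
  root : ∀ i, ∃ y ∈ loU n F, y ∈ G ∧ y ≠ 1 ∧
    ∀ a b, a ≠ b → y.1 a b ≠ 0 → blk i a = blk i b ∧ Supp b a
  good_mul : ∀ i σ, Good σ → Good (σ * r i)
  sign : ∀ i σ, Good σ →
    (∀ a b, a < b → Supp a b → blk i a = blk i b → σ a < σ b) ∨
    (∀ a b, a < b → Supp a b → blk i a = blk i b → σ b < σ a)
  eq_one_or : ∀ i σ, Good σ → (∀ a, blk i (σ a) = blk i a) → σ = 1 ∨ σ = r i ∨ Bad σ
  /-- the permutation left at the end of a descent -/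
  c : Equiv.Perm (Fin n)
  bad_c : c ≠ 1 → Bad c
  descent : ∀ σ, Good σ → σ ≠ 1 → σ ≠ c → ∃ i,
    (∀ a b, a < b → Supp a b → blk i a = blk i b → σ b < σ a) ∧
    (invs (σ * r i)).card < (invs σ).card
  /-- a longest element, up to `c` -/
  w0 : Equiv.Perm (Fin n)
  good_w0 : Good w0
  long : ∀ τ, τ = w0 ∨ τ = c⁻¹ * w0 → ∀ a b, a < b → Supp a b → τ b < τ a ∧ τ⁻¹ b < τ⁻¹ a

namespace Split

variable (T : Split n F)

theorem r_inv (i : T.ι) : (T.r i)⁻¹ = T.r i := inv_eq_of_mul_eq_one_right (T.r_sq i)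

variable [Fintype F]

theorem decomp {g : SLn n F} (hg : g ∈ T.G) :
    ∃ (σ : Equiv.Perm (Fin n)) (u m v : SLn n F), u ∈ uniU n F ∧ Mono σ m.1 ∧ v ∈ uniU n F ∧
      m * v * m⁻¹ ∈ loU n F ∧ g = u * m * v ∧ u ∈ T.G ∧ m ∈ T.G ∧ v ∈ T.G := by
  obtain ⟨σ, u, m, v, hu, hm, hv, hc, e⟩ := exists_decomp g
  obtain ⟨h1, h3⟩ := T.dec g hg σ u m v hu hm hv hc e
  refine ⟨σ, u, m, v, hu, hm, hv, hc, e, h1, ?_, h3⟩
  rw [show m = u⁻¹ * g * v⁻¹ by rw [e]; group]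
  exact mul_mem (mul_mem (inv_mem h1) hg) (inv_mem h3)

theorem torus_mem {b t : SLn n F} (hb : b ∈ T.G) (ht : Mono 1 t.1) (hu : b * t⁻¹ ∈ uniU n F) :
    t ∈ T.G ∧ b * t⁻¹ ∈ T.G := by
  obtain ⟨h1, -⟩ := T.dec b hb 1 (b * t⁻¹) t 1 hu ht (one_mem _)
    (by rw [mul_one, mul_inv_cancel]; exact one_mem _) (by group)
  refine ⟨?_, h1⟩
  rw [show t = (b * t⁻¹)⁻¹ * b by group]
  exact mul_mem (inv_mem h1) hb

theorem offdiag {v : SLn n F} (hv : v ∈ uniU n F) (hvG : v ∈ T.G) {a b : Fin n} (hne : a ≠ b)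
    (h : v.1 a b ≠ 0) : a < b ∧ T.Supp a b := by
  have hlt : a < b := lt_of_le_of_ne (le_of_not_gt fun hlt => h (hv.1 (show id b < id a from hlt))) hne
  exact ⟨hlt, T.supp v hvG hv a b hlt h⟩

theorem u2_block {i : T.ι} {s : SLn n F} (hs : Mono (T.r i) s.1) {v : SLn n F} (hv : v ∈ uniU n F)
    (hvG : v ∈ T.G) (hc : s * v * s⁻¹ ∈ loU n F) :
    ∀ a b, v.1 a b ≠ 0 → T.blk i a = T.blk i b :=
  T.pres i v hvG hv ((conj_mem_lo_iff hs hv.2).1 hc)

theorem block_conj_uni {i : T.ι} {ρ : Equiv.Perm (Fin n)} {m : SLn n F} (hm : Mono ρ m.1)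
    {v : SLn n F} (hv : v ∈ uniU n F) (hvG : v ∈ T.G)
    (hblk : ∀ a b, v.1 a b ≠ 0 → T.blk i a = T.blk i b)
    (hpos : ∀ a b, a < b → T.Supp a b → T.blk i a = T.blk i b → ρ a < ρ b) :
    m * v * m⁻¹ ∈ uniU n F := by
  refine (conj_mem_uni_iff hm hv.2).2 fun a b hab => ?_
  by_contra hne
  by_cases he : a = b
  · exact lt_irrefl _ (he ▸ hab)
  · obtain ⟨hlt, hS⟩ := T.offdiag hv hvG he hne
    exact lt_asymm hab (hpos a b hlt hS (hblk a b hne))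

theorem conj_blocks {i : T.ι} {s : SLn n F} (hs : Mono (T.r i) s.1) {v : SLn n F}
    (hblk : ∀ a b, v.1 a b ≠ 0 → T.blk i a = T.blk i b) :
    ∀ a b, (s * v * s⁻¹).1 a b ≠ 0 → T.blk i a = T.blk i b := by
  intro a b h
  obtain ⟨a, rfl⟩ := (T.r i).surjective a
  obtain ⟨b, rfl⟩ := (T.r i).surjective b
  rw [T.blk_r, T.blk_r]
  exact hblk a b fun h0 => h ((conj_apply_eq_zero hs v a b).2 h0)

/-- a non-trivial lower element in the blocks lies in the cell of the reflection -/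
theorem block_cell {i : T.ι} {y : SLn n F} (hy : y ∈ loU n F) (hyG : y ∈ T.G) (h1 : y ≠ 1)
    (hblk : ∀ a b, y.1 a b ≠ 0 → T.blk i a = T.blk i b) :
    ∃ u m w : SLn n F, u ∈ uniU n F ∧ Mono (T.r i) m.1 ∧ w ∈ uniU n F ∧ m * w * m⁻¹ ∈ loU n F ∧
      y = u * m * w ∧ u ∈ T.G ∧ m ∈ T.G ∧ w ∈ T.G := by
  obtain ⟨σ, u, m, w, hu, hm, hw, hc, e, huG, hmG, hwG⟩ := T.decomp hyG
  have hbt : ∀ {M : SLn n F}, M ∈ uniU n F → M ∈ T.G → M.1.BlockTriangular (T.blk i) :=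
    fun {M} hM hMG a b hab => by
      by_contra hne
      obtain ⟨hlt, hS⟩ := T.offdiag hM hMG (fun e => lt_irrefl _ (e ▸ hab)) hne
      exact absurd (T.blk_mono i a b hlt hS) (not_le.2 hab)
  have hyb : y.1.BlockTriangular (T.blk i) := fun a b hab => by
    by_contra hne
    exact absurd (hblk a b hne) (ne_of_gt hab)
  have hmb : m.1.BlockTriangular (T.blk i) := by
    have h2 : m = u⁻¹ * y * w⁻¹ := by rw [e]; group
    rw [h2]
    exact ((hbt (inv_mem hu) (inv_mem huG)).mul hyb).mul (hbt (inv_mem hw) (inv_mem hwG))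
  have hle : ∀ a, T.blk i (σ a) ≤ T.blk i a := fun a =>
    le_of_not_gt fun hlt => hm.apply_ne a (hmb hlt)
  have heq : ∀ a, T.blk i (σ a) = T.blk i a := fun a => by
    by_contra hne
    have h3 : ∑ x, T.blk i (σ x) < ∑ x, T.blk i x :=
      Finset.sum_lt_sum (fun x _ => hle x) ⟨a, Finset.mem_univ _, lt_of_le_of_ne (hle a) hne⟩
    rw [Equiv.sum_comp σ (T.blk i)] at h3
    exact lt_irrefl _ h3
  rcases T.eq_one_or i σ (T.good_of_mem m hmG σ hm) heq with rfl | rfl | hbad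
  · exfalso
    refine h1 (uni_loU_eq_one ?_ hy)
    rw [e]
    exact (hu.1.mul (mono_one_upper hm)).mul hw.1
  · exact ⟨u, m, w, hu, hm, hw, hc, e, huG, hmG, hwG⟩
  · exact absurd hbad (T.not_bad m hmG σ hm)

theorem exists_rep (i : T.ι) : ∃ s : SLn n F, s ∈ T.G ∧ Mono (T.r i) s.1 ∧
    ∃ y u w : SLn n F, u ∈ uniU n F ∧ w ∈ uniU n F ∧ u ∈ T.G ∧ w ∈ T.G ∧ y ∈ loU n F ∧ y ∈ T.G ∧
      y ≠ 1 ∧ (∀ a b, a ≠ b → y.1 a b ≠ 0 → T.blk i a = T.blk i b ∧ T.Supp b a) ∧ y = u * s * w := by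
  obtain ⟨y, hy, hyG, h1, hblk⟩ := T.root i
  obtain ⟨u, m, w, hu, hm, hw, -, e, huG, hmG, hwG⟩ := T.block_cell (i := i) hy hyG h1 fun a b h => by
    by_cases hab : a = b
    · rw [hab]
    · exact (hblk a b hab h).1
  exact ⟨m, hmG, hm, y, u, w, hu, hw, huG, hwG, hy, hyG, h1, hblk, e⟩

/-- the representative of a reflection -/
noncomputable def rep (i : T.ι) : SLn n F := (T.exists_rep i).choose

theorem rep_mem (i : T.ι) : T.rep i ∈ T.G := (T.exists_rep i).choose_spec.1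

theorem rep_mono (i : T.ι) : Mono (T.r i) (T.rep i).1 := (T.exists_rep i).choose_spec.2.1

theorem rep_sq (i : T.ι) : Mono 1 (T.rep i * T.rep i).1 := by
  have h : Mono (T.r i * T.r i) ((T.rep i).1 * (T.rep i).1) := (T.rep_mono i).mul (T.rep_mono i)
  rwa [T.r_sq] at h

/-- a non-trivial element of the root subgroup -/
theorem exists_root_elt (i : T.ι) : ∃ x ∈ uniU n F, x ∈ T.G ∧ x ≠ 1 ∧
    (∀ a b, x.1 a b ≠ 0 → T.blk i a = T.blk i b) ∧ T.rep i * x * (T.rep i)⁻¹ ∈ loU n F := by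
  obtain ⟨y, hy, hyG, h1, hblk⟩ := T.root i
  have hblk' : ∀ a b, y.1 a b ≠ 0 → T.blk i a = T.blk i b := fun a b h => by
    by_cases hab : a = b
    · rw [hab]
    · exact (hblk a b hab h).1
  have hs' : Mono (T.r i) ((T.rep i)⁻¹).1 := by
    have := (T.rep_mono i).inv
    rwa [T.r_inv] at this
  refine ⟨(T.rep i)⁻¹ * y * (T.rep i)⁻¹⁻¹, ?_, ?_, ?_, T.conj_blocks hs' hblk', ?_⟩
  · refine (conj_mem_uni_iff hs' (mem_loU.1 hy).2).2 fun a b hab => ?_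
    by_contra hne
    have hab' : a ≠ b := fun e => lt_irrefl _ (e ▸ hab)
    rcases lt_or_gt_of_ne hab' with h | h
    · exact hne ((mem_loU.1 hy).1 a b h)
    · obtain ⟨hb, hS⟩ := hblk a b hab' hne
      exact lt_asymm hab (T.r_anti i b a h hS hb.symm).1
  · exact mul_mem (mul_mem (inv_mem (T.rep_mem i)) hyG) (inv_mem (inv_mem (T.rep_mem i)))
  · intro e
    apply h1
    rw [show y = T.rep i * ((T.rep i)⁻¹ * y * (T.rep i)⁻¹⁻¹) * (T.rep i)⁻¹ by group, e]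
    group
  · rw [show T.rep i * ((T.rep i)⁻¹ * y * (T.rep i)⁻¹⁻¹) * (T.rep i)⁻¹ = y by group]
    exact hy

/-- the representatives inside the group -/
noncomputable def repG (i : T.ι) : T.G := ⟨T.rep i, T.rep_mem i⟩

theorem exists_mono : ∀ σ : Equiv.Perm (Fin n), T.Good σ →
    ∃ (τ : Equiv.Perm (Fin n)), (τ = σ ∨ τ = T.c⁻¹ * σ) ∧
      ∃ w ∈ Subgroup.closure (Set.range T.repG), Mono τ (w : SLn n F).1 := by
  intro σ
  induction hk : (invs σ).card using Nat.strong_induction_on generalizing σ with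
  | _ k ih =>
    intro hσ
    by_cases h1 : σ = 1
    · exact ⟨1, Or.inl h1.symm, 1, one_mem _, Mono.one⟩
    by_cases h2 : σ = T.c
    · exact ⟨1, Or.inr (by rw [h2, inv_mul_cancel]), 1, one_mem _, Mono.one⟩
    obtain ⟨i, -, hi⟩ := T.descent σ hσ h1 h2
    obtain ⟨τ, hτ, w, hw, hw'⟩ := ih _ (hk ▸ hi) (σ * T.r i) rfl (T.good_mul i σ hσ)
    refine ⟨τ * T.r i, ?_, w * T.repG i, mul_mem hw (Subgroup.subset_closure ⟨i, rfl⟩),
      hw'.mul (T.rep_mono i)⟩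
    rcases hτ with rfl | rfl
    · left; rw [mul_assoc, T.r_sq, mul_one]
    · right; rw [mul_assoc, mul_assoc, T.r_sq, mul_one]

theorem exists_mono_of_mem {m : SLn n F} (hmG : m ∈ T.G) {σ : Equiv.Perm (Fin n)} (hm : Mono σ m.1) :
    ∃ w ∈ Subgroup.closure (Set.range T.repG), Mono σ (w : SLn n F).1 := by
  obtain ⟨τ, hτ, w, hw, hw'⟩ := T.exists_mono σ (T.good_of_mem m hmG σ hm)
  rcases hτ with rfl | rfl
  · exact ⟨w, hw, hw'⟩
  · by_cases hc : T.c = 1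
    · rw [hc, inv_one, one_mul] at hw'
      exact ⟨w, hw, hw'⟩
    · exfalso
      have h : Mono (σ * (T.c⁻¹ * σ)⁻¹) (m.1 * ((w : SLn n F)⁻¹).1) := hm.mul hw'.inv
      rw [_root_.mul_inv_rev, mul_inv_cancel_left, inv_inv] at h
      exact T.not_bad (m * (w : SLn n F)⁻¹) (mul_mem hmG (inv_mem w.2)) T.c h (T.bad_c hc)

theorem exists_long : ∃ (c : T.G) (τ : Equiv.Perm (Fin n)),
    c ∈ Subgroup.closure (Set.range T.repG) ∧ Mono τ (c : SLn n F).1 ∧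
      ∀ a b, a < b → T.Supp a b → τ b < τ a ∧ τ⁻¹ b < τ⁻¹ a := by
  obtain ⟨τ, hτ, w, hw, hw'⟩ := T.exists_mono _ T.good_w0
  exact ⟨w, τ, hw, hw', T.long τ hτ⟩

theorem closure_le_mono : Subgroup.closure (Set.range T.repG) ≤ (nSub n F).subgroupOf T.G :=
  (Subgroup.closure_le _).2 (by rintro _ ⟨i, rfl⟩; exact ⟨_, T.rep_mono i⟩)

theorem mul_mem_union_aux {i : T.ι} {σ : Equiv.Perm (Fin n)} {c b : SLn n F} (hcG : c ∈ T.G)
    (hc : Mono σ c.1) (hbG : b ∈ T.G) (hb : b ∈ bSub n F) :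
    ∃ B₁ ∈ T.G, B₁ ∈ bSub n F ∧ ∃ B₂ ∈ T.G, B₂ ∈ bSub n F ∧
      (T.rep i * b * c = B₁ * (T.rep i * c) * B₂ ∨ T.rep i * b * c = B₁ * c * B₂) := by
  obtain ⟨s, hs⟩ : ∃ s, T.rep i = s := ⟨_, rfl⟩
  have hsG : s ∈ T.G := hs ▸ T.rep_mem i
  have hsm : Mono (T.r i) s.1 := hs ▸ T.rep_mono i
  rw [hs]
  have hsM : ∀ t : SLn n F, Mono 1 t.1 → Mono 1 (s * t * s⁻¹).1 := fun t ht => by
    have : Mono (T.r i * 1 * (T.r i)⁻¹) (s * t * s⁻¹).1 := (hsm.mul ht).mul hsm.inv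
    rwa [mul_one, mul_inv_cancel] at this
  obtain ⟨t, ht, ht1, ht2⟩ := exists_torus hb
  obtain ⟨htG, -⟩ := T.torus_mem hbG ht ht2
  obtain ⟨v₁, v₂, hv₁, hv₂, hA, hB, e⟩ := uni_factor hsm ht1
  have hvG : t⁻¹ * b ∈ T.G := mul_mem (inv_mem htG) hbG
  obtain ⟨h1G, h2G⟩ := T.dec (s * (t⁻¹ * b)) (mul_mem hsG hvG) (T.r i) (s * v₁ * s⁻¹) s v₂ hA hsm hv₂
    hB (by rw [e]; group)
  have hv1G : v₁ ∈ T.G := by
    have h := mul_mem hvG (inv_mem h2G)
    rwa [e, mul_inv_cancel_right] at h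
  have hbe : b = t * v₁ * v₂ := by rw [mul_assoc, ← e]; group
  have hblk := T.u2_block hsm hv₂ h2G hB
  obtain ⟨A, hA1⟩ : ∃ A : SLn n F, A = s * t * s⁻¹ * (s * v₁ * s⁻¹) := ⟨_, rfl⟩
  have hAG : A ∈ T.G := hA1 ▸ mul_mem (mul_mem (mul_mem hsG htG) (inv_mem hsG)) h1G
  have hAB : A ∈ bSub n F := hA1 ▸ mul_mem (mono_one_upper (hsM t ht)) hA.1
  have hgood : T.Good σ⁻¹ := T.good_of_mem c⁻¹ (inv_mem hcG) σ⁻¹ hc.inv
  have hpos_case : c⁻¹ * v₂ * c⁻¹⁻¹ ∈ uniU n F →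
      ∃ B₁ ∈ T.G, B₁ ∈ bSub n F ∧ ∃ B₂ ∈ T.G, B₂ ∈ bSub n F ∧
        (s * b * c = B₁ * (s * c) * B₂ ∨ s * b * c = B₁ * c * B₂) := fun hp =>
    ⟨A, hAG, hAB, c⁻¹ * v₂ * c⁻¹⁻¹, mul_mem (mul_mem (inv_mem hcG) h2G) (inv_mem (inv_mem hcG)), hp.1,
      Or.inl (by rw [hA1, hbe]; group)⟩
  rcases T.sign i σ⁻¹ hgood with hpos | hneg
  · exact hpos_case (T.block_conj_uni hc.inv hv₂ h2G hblk hpos)
  by_cases h21 : v₂ = 1
  · exact hpos_case (by rw [h21, mul_one, mul_inv_cancel]; exact one_mem _)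
  have hgG : s * v₂ * s⁻¹ ∈ T.G := mul_mem (mul_mem hsG h2G) (inv_mem hsG)
  obtain ⟨u, m, w, hu, hm, hw, hwc, e2, huG, hmG, hwG⟩ := T.block_cell (i := i) hB hgG (fun e0 => h21 (by
    rw [show v₂ = s⁻¹ * (s * v₂ * s⁻¹) * s by group, e0]; group)) (T.conj_blocks hsm hblk)
  have hms : Mono 1 (m * s).1 := by
    have : Mono (T.r i * T.r i) (m.1 * s.1) := hm.mul hsm
    rwa [T.r_sq] at this
  have hsc : Mono ((T.r i * σ)⁻¹) ((s * c)⁻¹).1 :=
    (show Mono (T.r i * σ) (s * c).1 from hsm.mul hc).inv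
  have hR : (s * c)⁻¹ * w * (s * c)⁻¹⁻¹ ∈ uniU n F := by
    refine T.block_conj_uni hsc hw hwG (T.u2_block hm hw hwG hwc) fun a d had hS hbd => ?_
    rw [_root_.mul_inv_rev, T.r_inv, Equiv.Perm.mul_apply, Equiv.Perm.mul_apply]
    obtain ⟨h1, h2⟩ := T.r_anti i a d had hS hbd
    exact hneg _ _ h1 h2 (by rw [T.blk_r, T.blk_r, hbd])
  refine ⟨A * (u * (m * s)), mul_mem hAG (mul_mem huG (mul_mem hmG hsG)),
    mul_mem hAB (mul_mem (show u ∈ bSub n F from hu.1) (mono_one_upper hms)),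
    (s * c)⁻¹ * w * (s * c)⁻¹⁻¹, ?_, hR.1, Or.inr ?_⟩
  · exact mul_mem (mul_mem (inv_mem (mul_mem hsG hcG)) hwG) (inv_mem (inv_mem (mul_mem hsG hcG)))
  · rw [hA1, hbe, show s * (t * v₁ * v₂) * c =
      s * t * s⁻¹ * (s * v₁ * s⁻¹) * (s * v₂ * s⁻¹) * s * c by group, e2]
    group

/-- the Tits system -/
noncomputable def pair : Cfsg.BNPair T.G where
  B := (bSub n F).subgroupOf T.G
  N := (nSub n F).subgroupOf T.G
  S := Set.range T.repG
  sup_eq_top := eq_top_iff.2 fun g _ => by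
    obtain ⟨σ, u, m, v, hu, hm, hv, -, e, huG, hmG, hvG⟩ := T.decomp g.2
    have : g = (⟨u, huG⟩ : T.G) * ⟨m, hmG⟩ * ⟨v, hvG⟩ := Subtype.ext e
    rw [this]
    exact mul_mem (mul_mem (Subgroup.mem_sup_left hu.1) (Subgroup.mem_sup_right ⟨σ, hm⟩))
      (Subgroup.mem_sup_left hv.1)
  conj_mem := by
    rintro c ⟨σ, hσ⟩ t ⟨ht1, ht2⟩
    have h0 : Mono 1 (t : SLn n F).1 := mem_inf ⟨ht1, ht2⟩
    refine mono_one_upper ?_
    have : Mono (σ * 1 * σ⁻¹) ((c : SLn n F) * t * (c : SLn n F)⁻¹).1 := (hσ.mul h0).mul hσ.inv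
    rw [mul_one, mul_inv_cancel] at this
    exact this
  subset := by
    rintro _ ⟨i, rfl⟩
    exact ⟨_, T.rep_mono i⟩
  sq_mem := by
    rintro _ ⟨i, rfl⟩
    exact mono_one_upper (T.rep_sq i)
  inj := by
    rintro _ ⟨i, rfl⟩ _ ⟨j, rfl⟩ hm
    have h1 : Mono ((T.r i)⁻¹ * T.r j) ((T.rep i)⁻¹ * T.rep j).1 := (T.rep_mono i).inv.mul (T.rep_mono j)
    rw [T.r_inj (inv_mul_eq_one.1 (h1.eq_one_of_upper hm))]
  closure_sup := by
    refine le_antisymm (sup_le T.closure_le_mono inf_le_right) ?_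
    rintro c ⟨σ, hσ⟩
    obtain ⟨w, hw, hw'⟩ := T.exists_mono_of_mem c.2 hσ
    have h1 : Mono 1 ((w⁻¹ * c : T.G) : SLn n F).1 := by
      have : Mono (σ⁻¹ * σ) (((w : SLn n F)⁻¹).1 * (c : SLn n F).1) := hw'.inv.mul hσ
      rw [inv_mul_cancel] at this
      exact this
    rw [show c = w * (w⁻¹ * c) by group]
    exact mul_mem (Subgroup.mem_sup_left hw) (Subgroup.mem_sup_right (mono_one_mem h1))
  mul_mem_union := by
    rintro _ ⟨i, rfl⟩ ⟨c, hcG⟩ ⟨σ, hc⟩ ⟨b, hbG⟩ hb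
    obtain ⟨B₁, hB₁, hB₁', B₂, hB₂, hB₂', h | h⟩ := T.mul_mem_union_aux (i := i) hcG hc hbG hb
    · exact Or.inl (DoubleCoset.mem_doubleCoset.2
        ⟨⟨B₁, hB₁⟩, hB₁', ⟨B₂, hB₂⟩, hB₂', Subtype.ext h⟩)
    · exact Or.inr (DoubleCoset.mem_doubleCoset.2
        ⟨⟨B₁, hB₁⟩, hB₁', ⟨B₂, hB₂⟩, hB₂', Subtype.ext h⟩)
  conj_ne := by
    rintro _ ⟨i, rfl⟩ heq
    obtain ⟨x, hx, hxG, hx1, -, hlo⟩ := T.exists_root_elt i
    have hm : T.repG i * ⟨x, hxG⟩ * T.repG i ∈ (((bSub n F).subgroupOf T.G : Subgroup T.G) : Set T.G) := by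
      rw [← heq]
      exact ⟨⟨x, hxG⟩, hx.1, rfl⟩
    have h1 : T.rep i * x * (T.rep i)⁻¹ ∈ bSub n F := by
      rw [show T.rep i * x * (T.rep i)⁻¹ = T.rep i * x * T.rep i * (T.rep i * T.rep i)⁻¹ by group]
      exact mul_mem hm (inv_mem (mono_one_upper (T.rep_sq i)))
    have h2 := uni_loU_eq_one (show (T.rep i * x * (T.rep i)⁻¹).1.IsUpperTriangular from h1) hlo
    exact hx1 (by rw [show x = (T.rep i)⁻¹ * (T.rep i * x * (T.rep i)⁻¹) * T.rep i by group, h2]; group)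

theorem torus_of_long {b c : SLn n F} {τ : Equiv.Perm (Fin n)} (hc : Mono τ c.1)
    (hτ : ∀ a d, a < d → T.Supp a d → τ⁻¹ d < τ⁻¹ a) (hbG : b ∈ T.G)
    (hb : b.1.IsUpperTriangular) (hb' : (c⁻¹ * b * c⁻¹⁻¹).1.IsUpperTriangular) : Mono 1 b.1 := by
  obtain ⟨t, ht, ht1, ht2⟩ := exists_torus (show b ∈ bSub n F from hb)
  obtain ⟨-, huG⟩ := T.torus_mem hbG ht ht2
  intro a d had
  by_contra hne
  change a ≠ d at hne
  have he : b.1 a d = (b * t⁻¹).1 a ((1 : Equiv.Perm (Fin n)) d) * t.1 ((1 : Equiv.Perm (Fin n)) d) d := by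
    rw [← ht.mul_right_apply (b * t⁻¹).1 a d, ← Matrix.SpecialLinearGroup.coe_mul, inv_mul_cancel_right]
  have hu : (b * t⁻¹).1 a d ≠ 0 := fun h0 => had (by rw [he]; simp [h0])
  obtain ⟨hlt, hS⟩ := T.offdiag ht2 huG hne hu
  exact had ((conj_apply_eq_zero hc.inv b a d).1 (hb' (hτ a d hlt hS)))

/-- the elements normalising the unitriangular elements are upper triangular -/
theorem upper_of_normalizes {g : SLn n F} (hg : g ∈ T.G)
    (h : ∀ u ∈ uniU n F, u ∈ T.G → g⁻¹ * u * g ∈ uniU n F) : g ∈ bSub n F := by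
  obtain ⟨σ, u0, m, v, hu0, hm, hv, -, e, hu0G, hmG, hvG⟩ := T.decomp hg
  have hσ1 : σ = 1 := by
    by_contra h1
    have hm' : m⁻¹ ∈ T.G := inv_mem hmG
    have h2 : σ⁻¹ ≠ T.c := fun h2 => T.not_bad m⁻¹ hm' T.c (h2 ▸ hm.inv)
      (T.bad_c (h2 ▸ inv_ne_one.2 h1))
    obtain ⟨i, hi, -⟩ := T.descent σ⁻¹ (T.good_of_mem m⁻¹ hm' σ⁻¹ hm.inv) (inv_ne_one.2 h1) h2
    obtain ⟨x, hx, hxG, hx1, hblk, -⟩ := T.exists_root_elt i
    have hmx : m⁻¹ * x * m⁻¹⁻¹ ∈ uniU n F := by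
      have h2 := h (u0 * x * u0⁻¹) (mul_mem (mul_mem hu0 hx) (inv_mem hu0))
        (mul_mem (mul_mem hu0G hxG) (inv_mem hu0G))
      rw [show m⁻¹ * x * m⁻¹⁻¹ = v * (g⁻¹ * (u0 * x * u0⁻¹) * g) * v⁻¹ by rw [e]; group]
      exact mul_mem (mul_mem hv h2) (inv_mem hv)
    refine hx1 (uni_diag_eq_one hx fun a b hab => ?_)
    by_contra hne
    change a ≠ b at hne
    obtain ⟨hlt, hS⟩ := T.offdiag hx hxG hne hab
    exact hab ((conj_mem_uni_iff hm.inv hx.2).1 hmx a b (hi a b hlt hS (hblk a b hab)))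
  subst hσ1
  rw [e]
  exact mul_mem (mul_mem hu0.1 (mono_one_upper hm)) hv.1

/-- the unitriangular elements form a Sylow subgroup -/
theorem uni_maximal (p : ℕ) [Fact p.Prime] [CharP F p] {Q : Subgroup T.G} (hQ : IsPGroup p Q)
    (hle : (uniU n F).subgroupOf T.G ≤ Q) : Q = (uniU n F).subgroupOf T.G := by
  by_contra hne
  haveI := hQ.isNilpotent
  have hlt : ((uniU n F).subgroupOf T.G).subgroupOf Q < ⊤ := by
    refine lt_top_iff_ne_top.2 fun htop => hne (le_antisymm ?_ hle)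
    exact Subgroup.subgroupOf_eq_top.1 htop
  obtain ⟨⟨g, hgQ⟩, hgn, hgU⟩ := SetLike.exists_of_lt (Group.normalizerCondition_of_isNilpotent _ hlt)
  have hnorm : ∀ u ∈ uniU n F, u ∈ T.G → (g : SLn n F)⁻¹ * u * g ∈ uniU n F := by
    intro u hu huG
    have h1 := (Subgroup.mem_normalizer_iff'.1 hgn
      (⟨(g⁻¹ * ⟨u, huG⟩ : T.G), mul_mem (inv_mem hgQ)
        (hle (show (⟨u, huG⟩ : T.G) ∈ (uniU n F).subgroupOf T.G from hu))⟩ : Q))
    have h2 : (⟨u, huG⟩ : T.G) ∈ (uniU n F).subgroupOf T.G := hu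
    have h3 := h1.2 (by
      show (g * (g⁻¹ * ⟨u, huG⟩) : T.G) ∈ (uniU n F).subgroupOf T.G
      rwa [mul_inv_cancel_left])
    exact h3
  have hB := T.upper_of_normalizes g.2 hnorm
  obtain ⟨k, hk⟩ := hQ ⟨g, hgQ⟩
  have h4 : ((g : SLn n F)) ^ p ^ k = 1 := congrArg Subtype.val (congrArg Subtype.val hk)
  exact hgU (mem_uniU_of_upper p hB (j := k) h4)

/-- the Sylow subgroup -/
def sylow (p : ℕ) [Fact p.Prime] [CharP F p] : Sylow p T.G :=
  { (uniU n F).subgroupOf T.G with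
    isPGroup' := (isPGroup_uniU p).comap_of_injective T.G.subtype T.G.subtype_injective
    is_maximal' := fun hQ hle => T.uni_maximal p hQ hle }

theorem center_le : Subgroup.center T.G ≤ T.pair.B ⊓ T.pair.N := by
  intro z hz
  have hc : ∀ g : T.G, g * z = z * g := Subgroup.mem_center_iff.1 hz
  have hB : (z : SLn n F) ∈ bSub n F := T.upper_of_normalizes z.2 fun u hu huG => by
    have h1 : u * (z : SLn n F) = z * u := congrArg Subtype.val (hc ⟨u, huG⟩)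
    rwa [mul_assoc, h1, inv_mul_cancel_left]
  obtain ⟨c, τ, -, hc', hτ⟩ := T.exists_long
  have h2 : (c : SLn n F) * z = z * c := congrArg Subtype.val (hc c)
  refine mono_one_mem (T.torus_of_long hc' (fun a d h hS => (hτ a d h hS).2) z.2 hB ?_)
  show ((c : SLn n F)⁻¹ * (z : SLn n F) * (c : SLn n F)⁻¹⁻¹).1.IsUpperTriangular
  rw [inv_inv, show (c : SLn n F)⁻¹ * z * c = z by rw [mul_assoc, ← h2, inv_mul_cancel_left]]
  exact hB

theorem relIndex_eq : (T.pair.B ⊓ T.pair.N).relIndex T.pair.B =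
    Nat.card ((uniU n F).subgroupOf T.G : Subgroup T.G) := by
  rw [Subgroup.relIndex, Subgroup.index]
  refine (Nat.card_eq_of_bijective (fun u : ((uniU n F).subgroupOf T.G : Subgroup T.G) =>
    ((⟨(u : T.G), u.2.1⟩ : T.pair.B) : T.pair.B ⧸ (T.pair.B ⊓ T.pair.N).subgroupOf T.pair.B)) ⟨?_, ?_⟩).symm
  · intro u v h
    have h' := Subgroup.mem_subgroupOf.1 (QuotientGroup.eq.1 h)
    have h2 := uni_diag_eq_one (mul_mem (inv_mem (Subgroup.mem_subgroupOf.1 u.2)) (Subgroup.mem_subgroupOf.1 v.2))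
      (mem_inf ⟨h'.1, h'.2⟩)
    exact Subtype.ext (Subtype.ext (inv_mul_eq_one.1 h2))
  · intro q
    induction q using QuotientGroup.induction_on with | H b => ?_
    obtain ⟨⟨b, hbG⟩, hb⟩ := b
    obtain ⟨t, ht, -, ht2⟩ := exists_torus (show b ∈ bSub n F from hb)
    obtain ⟨htG, huG⟩ := T.torus_mem hbG ht ht2
    refine ⟨⟨⟨_, huG⟩, ht2⟩, QuotientGroup.eq.2 (Subgroup.mem_subgroupOf.2 ?_)⟩
    show (⟨b * t⁻¹, huG⟩ : T.G)⁻¹ * ⟨b, hbG⟩ ∈ T.pair.B ⊓ T.pair.N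
    rw [show (⟨b * t⁻¹, huG⟩ : T.G)⁻¹ * ⟨b, hbG⟩ = ⟨t, htG⟩ from Subtype.ext (by
      show (b * t⁻¹)⁻¹ * b = t
      group)]
    exact mono_one_mem ht

/-- the Steinberg character on the central quotient of a group isomorphic to a split subgroup -/
theorem steinberg {H : Type*} [Group H] (e : T.G ≃* H) (p : ℕ) [Fact p.Prime] [CharP F p] :
    ∃ χ : H ⧸ Subgroup.center H → ℂ, Cfsg.IsIrrCharacter (H ⧸ Subgroup.center H) χ ∧
      ∀ P : Sylow p (H ⧸ Subgroup.center H), χ 1 = Nat.card P ∧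
        ∀ x : H ⧸ Subgroup.center H, x ∈ P → x ≠ 1 → χ x = 0 := by
  classical
  obtain ⟨π, hπ⟩ : ∃ π, (QuotientGroup.mk' (Subgroup.center H)).comp e.toMonoidHom = π := ⟨_, rfl⟩
  have hsur : Function.Surjective π := hπ ▸ (QuotientGroup.mk'_surjective _).comp e.surjective
  have hker : π.ker ≤ T.pair.B ⊓ T.pair.N := fun g hg => T.center_le (by
    have h1 : e g ∈ Subgroup.center H := by
      rw [← hπ] at hg
      exact (QuotientGroup.eq_one_iff _).1 hg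
    exact Subgroup.mem_center_iff.2 fun x => e.injective (by
      rw [map_mul, map_mul]; exact Subgroup.mem_center_iff.1 h1 (e x)))
  haveI : Finite (H ⧸ Subgroup.center H) := Finite.of_surjective π hsur
  let P := mapPair T.pair π hsur hker
  haveI : Fintype P.S := Fintype.ofFinite _
  obtain ⟨c, τ, hcS, hc, hτ⟩ := T.exists_long
  have hcN : c ∈ T.pair.N := T.closure_le_mono hcS
  have hn0 : π c ∈ P.N := ⟨c, hcN, rfl⟩
  have htop : BN.Top P (BN.wmk P (π c) hn0) := by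
    refine BN.top_of_witness P hn0 ?_
    rintro ⟨_, _, ⟨i, rfl⟩, rfl⟩
    obtain ⟨-, -, y, u, w, hu, hw, huG, hwG, hy, hyG, -, hyS, e'⟩ := (T.exists_rep i).choose_spec
    refine ⟨π ⟨u, huG⟩, ⟨⟨u, huG⟩, hu.1, rfl⟩, ?_⟩
    have hcy : (c : SLn n F) * y * (c : SLn n F)⁻¹ ∈ uniU n F :=
      (conj_mem_uni_iff hc (mem_loU.1 hy).2).2 fun a b hab => by
        by_contra hne
        have hab' : a ≠ b := fun h => lt_irrefl _ (h ▸ hab)
        rcases lt_or_gt_of_ne hab' with h | h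
        · exact hne ((mem_loU.1 hy).1 a b h)
        · exact lt_asymm hab (hτ b a h (hyS a b hab' hne).2).1
    refine DoubleCoset.mem_doubleCoset.2 ⟨π (c * ⟨y, hyG⟩ * c⁻¹), ⟨_, hcy.1, rfl⟩,
      π ⟨w, hwG⟩⁻¹, ⟨_, (inv_mem hw).1, rfl⟩, ?_⟩
    simp only [← map_mul]
    congr 1
    refine Subtype.ext ?_
    show (c : SLn n F) * u * T.rep i = (c : SLn n F) * y * (c : SLn n F)⁻¹ * c * w⁻¹
    rw [show y = u * T.rep i * w from e']
    group
  have hH : P.B ⊓ P.B.map (MulAut.conj (π c)).toMonoidHom = (T.pair.B ⊓ T.pair.N).map π := by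
    refine le_antisymm ?_ ?_
    · rintro _ ⟨⟨b, hb, rfl⟩, hx⟩
      obtain ⟨_, ⟨b', hb', rfl⟩, e'⟩ := hx
      have hk : b'⁻¹ * (c⁻¹ * b * c) ∈ π.ker := by
        have e'' : π c * π b' * (π c)⁻¹ = π b := e'
        rw [MonoidHom.mem_ker, map_mul, map_inv, map_mul, map_mul, map_inv, ← e'']
        group
      have hcb : c⁻¹ * b * c ∈ T.pair.B := by
        have := T.pair.B.mul_mem hb' (hker hk).1
        rwa [mul_inv_cancel_left] at this
      have hcb' : ((c : SLn n F)⁻¹ * b * (c : SLn n F)⁻¹⁻¹).1.IsUpperTriangular := by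
        rw [inv_inv]; exact hcb
      exact ⟨b, mono_one_mem (T.torus_of_long hc (fun a d h hS => (hτ a d h hS).2) b.2 hb hcb'), rfl⟩
    · rintro _ ⟨t, ht, rfl⟩
      refine ⟨⟨t, ht.1, rfl⟩, π (c⁻¹ * t * c), ⟨_, ?_, rfl⟩, ?_⟩
      · have := T.pair.conj_mem c⁻¹ (inv_mem hcN) t ht
        rwa [inv_inv] at this
      · show π c * π (c⁻¹ * t * c) * (π c)⁻¹ = π t
        simp only [map_mul, map_inv]; group
  have hirr := BN.stChar_irr P
  obtain ⟨U, hU⟩ : ∃ U : Subgroup T.G, (uniU n F).subgroupOf T.G = U := ⟨_, rfl⟩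
  have hone : BN.stChar P 1 = (Nat.card U : ℂ) := by
    rw [BN.stChar_borel P htop (one_mem _), ← OneMemClass.coe_one P.B, BN.fixCell_eq P hn0 _ hH]
    simp only [Cfsg.fixedPointCharacter, Nat.cast_inj]
    rw [Nat.card_congr ((Equiv.setCongr (show MulAction.fixedBy _ (1 : P.B) = Set.univ by
      ext x; simp [MulAction.mem_fixedBy])).trans (Equiv.Set.univ _)), ← Subgroup.index_eq_card]
    show ((T.pair.B ⊓ T.pair.N).map π).relIndex (T.pair.B.map π) = _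
    rw [← Subgroup.relIndex_comap, Subgroup.comap_map_eq, sup_eq_left.2 hker, T.relIndex_eq, hU]
  refine ⟨BN.stChar P, hirr, fun Q => ?_⟩
  let V : Sylow p (H ⧸ Subgroup.center H) := (T.sylow p).mapSurjective hsur
  have hcard : Nat.card Q = Nat.card U := by
    rw [Q.card_eq_multiplicity, ← V.card_eq_multiplicity]
    show Nat.card (((uniU n F).subgroupOf T.G).map π) = _
    rw [hU]
    refine (Nat.card_congr (Equiv.ofBijective
      (fun u : U => (⟨π u, u, u.2, rfl⟩ : U.map π)) ⟨fun u v h => ?_, ?_⟩)).symm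
    · have h1 : (u : T.G)⁻¹ * v ∈ π.ker := by
        rw [MonoidHom.mem_ker, map_mul, map_inv, show π u = π v from congrArg Subtype.val h, inv_mul_cancel]
      have h2 : ((u : T.G)⁻¹ * v : T.G) ∈ (uniU n F).subgroupOf T.G := by
        rw [hU]; exact mul_mem (inv_mem u.2) v.2
      have h3 := uni_diag_eq_one (Subgroup.mem_subgroupOf.1 h2) (mem_inf ⟨(hker h1).1, (hker h1).2⟩)
      exact Subtype.ext (inv_mul_eq_one.1 (Subtype.ext h3))
    · rintro ⟨_, u, hu, rfl⟩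
      exact ⟨⟨u, hu⟩, rfl⟩
  refine ⟨by rw [hone, hcard], fun x hx hx1 => ?_⟩
  obtain ⟨m, ρ, hρ, he⟩ := hirr
  haveI := hρ
  have hd : Module.finrank ℂ (Fin m → ℂ) = Nat.card Q := by
    have h1 := congrFun he 1
    rw [Representation.char_one, hone, ← hcard] at h1
    exact_mod_cast h1
  have hp := (Fact.out : p.Prime)
  rw [← he]
  refine S0165.result ρ p _ hp (Nat.ordProj_dvd _ _) (Nat.pow_succ_factorization_not_dvd Nat.card_pos.ne' hp)
    (by rw [hd, Q.card_eq_multiplicity]) x ?_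
  obtain ⟨k, hk⟩ := Q.isPGroup' ⟨x, hx⟩
  have hk' : x ^ p ^ k = 1 := congrArg Subtype.val hk
  obtain ⟨j, -, hj⟩ := (Nat.dvd_prime_pow hp).1 (orderOf_dvd_of_pow_eq_one hk')
  rw [hj]
  exact dvd_pow_self p fun h0 => hx1 (orderOf_eq_one_iff.1 (by rw [hj, h0, pow_zero]))

end Split

end Cfsg.Agent.SLPair
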