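import Cfsg.Agent.Lib.Steinberg.Reps
import Cfsg.Prelude.Def_ParabolicCharacters

/-!
# Parabolic cosets and Bruhat cells of a finite Tits system
-/

set_option autoImplicit false

namespace Cfsg.Agent.BN

variable {G : Type*} [Group G] (P : Cfsg.BNPair G)

/-- multiplication of cells along additive lengths -/
theorem cell_mul_add {u v : W P} (h : len P (u * v) = len P u + len P v) {x y : G}
    (hx : x ∈ cell P u) (hy : y ∈ cell P v) : x * y ∈ cell P (u * v) := by
  induction hk : len P u generalizing u v x y with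
  | zero =>
    rw [len_eq_zero] at hk
    subst hk
    rw [cell_one] at hx
    rw [one_mul]
    exact cell_mul_left P hx hy
  | succ k ih =>
    obtain ⟨l, hl, rfl⟩ := exists_reduced P u
    cases l with
    | nil => simp at hk
    | cons s l =>
      simp only [List.length_cons] at hl
      obtain ⟨n, hn, hnu⟩ := exists_rep P (wp P l)
      have hwl : len P (wp P l) = l.length := by
        refine le_antisymm (len_wp_le P l) ?_
        have := len_σ_mul_le P s (wp P l)
        rw [← wp_cons] at this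
        omega
      have hcell : cell P (wp P (s :: l)) = dc P ((s : G) * n) := by
        rw [wp_cons, ← hnu, σ, ← wmk_mul P (P.subset s.2) hn, cell_mk]
      rw [hcell] at hx
      obtain ⟨b, hb, b', hb', rfl⟩ := DoubleCoset.mem_doubleCoset.1 hx
      have hn' : n * b' ∈ cell P (wp P l) := by
        rw [← hnu, cell_mk, ← dc_mul_right P (g := n) hb']; exact self_mem_dc P _
      have hlv : len P (wp P l * v) = len P (wp P l) + len P v := by
        refine le_antisymm (len_mul_le P _ _) ?_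
        have := len_σ_mul_le P s (wp P l * v)
        rw [← mul_assoc, ← wp_cons] at this
        omega
      have hny := ih hlv hn' hy (by omega)
      have hs : b * (s : G) ∈ cell P (σ P s) := cell_mul_left P hb (self_mem_cell_σ P s)
      have := mul_mem_cell_of_le P s (wp P l * v) (by rw [← mul_assoc, ← wp_cons]; omega) hs hny
      rw [← mul_assoc (σ P s), ← wp_cons] at this
      simpa [mul_assoc] using this

theorem mem_parabolic_of_cell {J : Set P.S} {v : W P} (hv : v ∈ wJ P (sJ P J)) {x : G}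
    (hx : x ∈ cell P v) : x ∈ P.parabolic (sJ P J) := by
  obtain ⟨l, hl, rfl⟩ := (mem_wJ_iff P).1 hv
  have hprod : ∀ l : List P.S, (∀ s ∈ l, (s : G) ∈ sJ P J) →
      ∃ m ∈ P.parabolic (sJ P J), ∃ hm : m ∈ P.N, wmk P m hm = wp P l := by
    intro l
    induction l with
    | nil => exact fun _ => ⟨1, one_mem _, P.N.one_mem, rfl⟩
    | cons s l ih =>
      intro h
      obtain ⟨m, hm, hmN, he⟩ := ih fun z hz => h z (List.mem_cons_of_mem _ hz)
      refine ⟨s * m, mul_mem (subset_parabolic P _ (h s List.mem_cons_self)) hm,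
        P.N.mul_mem (P.subset s.2) hmN, ?_⟩
      rw [wmk_mul P (P.subset s.2) hmN, he, wp_cons]
      rfl
  obtain ⟨m, hm, hmN, he⟩ := hprod l hl
  rw [← he, cell_mk] at hx
  exact dc_subset P (B_le_parabolic P _) hm hx

theorem parabolic_cell {J : Set P.S} {x : G} (hx : x ∈ P.parabolic (sJ P J)) :
    ∃ v ∈ wJ P (sJ P J), x ∈ cell P v := by
  obtain ⟨n, -, hn, hw, hd⟩ := parabolic_mem_cell P (sJ_subset P J) hx
  exact ⟨_, hw, by rwa [cell_mk]⟩

theorem mul_cell_cases {J : Set P.S} {a : W P} (ha : a ∈ wJ P (sJ P J)) {x y : G} {w : W P}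
    (hx : x ∈ cell P a) (hy : y ∈ cell P w) :
    ∃ v ∈ wJ P (sJ P J), x * y ∈ cell P (v * w) := by
  obtain ⟨l, hl, rfl, hlen⟩ := exists_reduced_mem P J ha
  induction l generalizing x with
  | nil =>
    rw [wp_nil, cell_one] at hx
    exact ⟨1, one_mem _, by rw [one_mul]; exact cell_mul_left P hx hy⟩
  | cons s l ih =>
    have hwl : len P (wp P l) = l.length := by
      refine le_antisymm (len_wp_le P l) ?_
      have := len_σ_mul_le P s (wp P l)
      rw [← wp_cons] at this
      simp only [List.length_cons] at hlen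
      omega
    obtain ⟨n, hn, hnu⟩ := exists_rep P (wp P l)
    have hcell : cell P (wp P (s :: l)) = dc P ((s : G) * n) := by
      rw [wp_cons, ← hnu, σ, ← wmk_mul P (P.subset s.2) hn, cell_mk]
    rw [hcell] at hx
    obtain ⟨b, hb, b', hb', rfl⟩ := DoubleCoset.mem_doubleCoset.1 hx
    have hn' : n * b' ∈ cell P (wp P l) := by
      rw [← hnu, cell_mk, ← dc_mul_right P (g := n) hb']; exact self_mem_dc P _
    obtain ⟨v, hv, hvy⟩ := ih (fun z hz => hl z (List.mem_cons_of_mem _ hz))
      (wp_mem P J fun z hz => hl z (List.mem_cons_of_mem _ hz)) hn' hwl.symm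
    have hs : b * (s : G) ∈ cell P (σ P s) := cell_mul_left P hb (self_mem_cell_σ P s)
    rw [show b * (↑s * n) * b' * y = b * ↑s * (n * b' * y) by group]
    rcases mul_mem_cell P s (v * w) hs hvy with h | h
    · exact ⟨σ P s * v, mul_mem ((σ_mem_wJ_iff P s).2 ((mem_sJ P).2 (hl s List.mem_cons_self))) hv,
        by rwa [mul_assoc]⟩
    · exact ⟨v, hv, h⟩

theorem parabolic_mul_cell {J : Set P.S} {x y : G} {w : W P} (hx : x ∈ P.parabolic (sJ P J))
    (hy : y ∈ cell P w) : ∃ v ∈ wJ P (sJ P J), x * y ∈ cell P (v * w) := by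
  obtain ⟨a, ha, hxa⟩ := parabolic_cell P hx
  exact mul_cell_cases P ha hxa hy

theorem cell_mul_parabolic {J : Set P.S} {x y : G} {w : W P} (hx : x ∈ P.parabolic (sJ P J))
    (hy : y ∈ cell P w) : ∃ v ∈ wJ P (sJ P J), y * x ∈ cell P (w * v) := by
  obtain ⟨v, hv, h⟩ := parabolic_mul_cell P (inv_mem hx) (cell_inv P hy)
  refine ⟨v⁻¹, inv_mem hv, ?_⟩
  have := cell_inv P h
  simpa using this

/-- representatives -/
noncomputable def repW (w : W P) : G := ((Quotient.out w : P.N) : G)

theorem repW_mem (w : W P) : repW P w ∈ cell P w := self_mem_dc P _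

/-- The double cosets of two parabolic subgroups are the classes in the Weyl group. -/
theorem parabolic_sandwich {J K : Set P.S} {w v : W P} :
    (∃ p ∈ P.parabolic (sJ P J), ∃ r ∈ P.parabolic (sJ P K), repW P v = p * repW P w * r) ↔
      cls P J K w = cls P J K v := by
  constructor
  · rintro ⟨p, hp, r, hr, e⟩
    obtain ⟨a, ha, hpw⟩ := parabolic_mul_cell P hp (repW_mem P w)
    obtain ⟨c, hc, h⟩ := cell_mul_parabolic P hr hpw
    rw [← e] at h
    have := eq_of_mem_cell P (repW_mem P v) h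
    exact (cls_eq_of_mem P ((mem_cls P).2 ⟨a, ha, c, hc, this⟩)).symm
  · intro h
    obtain ⟨a, ha, c, hc, rfl⟩ := (mem_cls P).1 (h ▸ self_mem_cls P J K v)
    have hpa : repW P a ∈ P.parabolic (sJ P J) := mem_parabolic_of_cell P ha (repW_mem P a)
    have hpc : repW P c ∈ P.parabolic (sJ P K) := mem_parabolic_of_cell P hc (repW_mem P c)
    have key : ∀ n₁ n₂ : P.N, QuotientGroup.mk n₁ = (QuotientGroup.mk n₂ : W P) →
        (n₁ : G)⁻¹ * n₂ ∈ P.B := fun n₁ n₂ e => (wmk_eq_iff P n₁.2 n₂.2).1 e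
    have e : QuotientGroup.mk (Quotient.out a * Quotient.out w * Quotient.out c) =
        (QuotientGroup.mk (Quotient.out (a * w * c)) : W P) := by
      simp only [QuotientGroup.mk_mul, QuotientGroup.out_eq']
    refine ⟨_, hpa, repW P c * ((repW P a * repW P w * repW P c)⁻¹ * repW P (a * w * c)),
      mul_mem hpc (B_le_parabolic P _ ?_), by group⟩
    have := key _ _ e
    simpa [repW] using this

theorem exists_parabolic_cover (J K : Set P.S) (g : G) :
    ∃ p ∈ P.parabolic (sJ P J), ∃ r ∈ P.parabolic (sJ P K), ∃ w, g = p * repW P w * r := by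
  obtain ⟨w, hw⟩ := bruhat P g
  obtain ⟨a, ha, b, hb, rfl⟩ := DoubleCoset.mem_doubleCoset.1 hw
  exact ⟨a, B_le_parabolic P _ ha, b, B_le_parabolic P _ hb, w, rfl⟩

/-! ### fixed cosets -/

/-- the cell of a coset of `B` -/
theorem mem_cell_iff_of_mk_eq {w : W P} {x y : G} (h : (x : G ⧸ P.B) = y) :
    x ∈ cell P w ↔ y ∈ cell P w := by
  have hB := QuotientGroup.eq.1 h
  constructor
  · intro hx
    have := cell_mul_right P hB hx
    rwa [mul_inv_cancel_left] at this
  · intro hy
    have := cell_mul_right P (inv_mem hB) hy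
    simpa using this

/-- number of fixed cosets of `B` in a cell -/
noncomputable def fixCell (b : G) (w : W P) : ℕ :=
  Nat.card {q : G ⧸ P.B // b • q = q ∧ q.out ∈ cell P w}

theorem fixed_parabolic_eq [Finite G] [Fintype (W P)] (K : Set P.S) [DecidablePred (AscR P K)]
    {b : G} (hb : b ∈ P.B) :
    Nat.card (MulAction.fixedBy (G ⧸ P.parabolic (sJ P K)) b) =
      ∑ w : W P, if AscR P K w then fixCell P b w else 0 := by
  classical
  let f : {q : G ⧸ P.B // b • q = q ∧ ∃ w, AscR P K w ∧ q.out ∈ cell P w} →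
      MulAction.fixedBy (G ⧸ P.parabolic (sJ P K)) b := fun q =>
    ⟨((q.1.out : G) : G ⧸ P.parabolic (sJ P K)), by
      show (((b * q.1.out : G)) : G ⧸ P.parabolic (sJ P K)) = (q.1.out : G)
      refine QuotientGroup.eq.2 (B_le_parabolic P _ ?_)
      refine QuotientGroup.eq.1 ?_
      show b • ((q.1.out : G) : G ⧸ P.B) = ((q.1.out : G) : G ⧸ P.B)
      rw [QuotientGroup.out_eq']
      exact q.2.1⟩
  have hf : Function.Bijective f := by
    constructor
    · rintro ⟨q, hq, w, hw, hqw⟩ ⟨q', hq', w', hw', hqw'⟩ h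
      have hP : q.out⁻¹ * q'.out ∈ P.parabolic (sJ P K) :=
        QuotientGroup.eq.1 (congrArg Subtype.val h)
      obtain ⟨v, hv, hvc⟩ := parabolic_cell P hP
      have hprod := cell_mul_add P (len_add_of_ascR P hw hv) hqw hvc
      rw [mul_inv_cancel_left] at hprod
      have e := eq_of_mem_cell P hqw' hprod
      have hww : w' = w := by
        refine asc_cls_inj P (J := ∅) ⟨fun s hs => absurd hs (Set.notMem_empty _), hw'⟩
          ⟨fun s hs => absurd hs (Set.notMem_empty _), hw⟩ (cls_eq_of_mem P ?_)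
        exact (mem_cls P).2 ⟨1, one_mem _, v, hv, by rw [one_mul, e]⟩
      have hv1 : v = 1 := by simpa [hww] using e
      rw [hv1, cell_one] at hvc
      refine Subtype.ext ?_
      show q = q'
      rw [← QuotientGroup.out_eq' q, ← QuotientGroup.out_eq' q']
      exact QuotientGroup.eq.2 hvc
    · rintro ⟨z, hz⟩
      induction z using QuotientGroup.induction_on with | H g => ?_
      obtain ⟨w, hw⟩ := bruhat P g
      obtain ⟨d, hd, -, hdR, -⟩ := exists_asc_mem P ∅ K w
      obtain ⟨a, ha, c, hc, rfl⟩ := (mem_cls P).1 hd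
      have ha1 : a = 1 := by
        obtain ⟨A, hA, rfl, -⟩ := exists_reduced_mem P ∅ ha
        cases A with
        | nil => simp
        | cons s A => exact absurd (hA s List.mem_cons_self) (Set.notMem_empty _)
      subst ha1
      rw [one_mul] at hdR
      obtain ⟨y, hy, hgy⟩ : ∃ y ∈ cell P (w * c), g⁻¹ * y ∈ P.parabolic (sJ P K) := by
        have hprod := cell_mul_add P (len_add_of_ascR P hdR (inv_mem hc)) (repW_mem P (w * c))
          (repW_mem P c⁻¹)
        rw [mul_inv_cancel_right] at hprod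
        have hdc : dc P (repW P (w * c) * repW P c⁻¹) = cell P w := dc_eq_of_mem P hprod
        rw [← hdc] at hw
        obtain ⟨c₁, hc₁, c₂, hc₂, rfl⟩ := DoubleCoset.mem_doubleCoset.1 hw
        refine ⟨c₁ * repW P (w * c), cell_mul_left P hc₁ (repW_mem P _), ?_⟩
        rw [show (c₁ * (repW P (w * c) * repW P c⁻¹) * c₂)⁻¹ * (c₁ * repW P (w * c)) =
          c₂⁻¹ * (repW P c⁻¹)⁻¹ by group]
        exact mul_mem (B_le_parabolic P _ (inv_mem hc₂))
          (inv_mem (mem_parabolic_of_cell P (inv_mem hc) (repW_mem P _)))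
      have hq : ∀ x : G, (x : G ⧸ P.B) = (y : G ⧸ P.B) → x ∈ cell P (w * c) := fun x hx =>
        (mem_cell_iff_of_mk_eq P hx).2 hy
      have hfix : b • (y : G ⧸ P.B) = (y : G ⧸ P.B) := by
        have hbP : (b * g)⁻¹ * g ∈ P.parabolic (sJ P K) := QuotientGroup.eq.1 hz
        have hmem : y⁻¹ * (b * y) ∈ P.parabolic (sJ P K) := by
          rw [show y⁻¹ * (b * y) = (g⁻¹ * y)⁻¹ * ((b * g)⁻¹ * g)⁻¹ * (g⁻¹ * y) by group]
          exact mul_mem (mul_mem (inv_mem hgy) (inv_mem hbP)) hgy
        obtain ⟨v, hv, hvc⟩ := parabolic_cell P hmem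
        have hprod := cell_mul_add P (len_add_of_ascR P hdR hv) hy hvc
        rw [mul_inv_cancel_left] at hprod
        have hv1 : v = 1 := by
          have := eq_of_mem_cell P (cell_mul_left P hb hy) hprod
          simpa using this
        rw [hv1, cell_one] at hvc
        exact (QuotientGroup.eq.2 hvc).symm
      refine ⟨⟨(y : G ⧸ P.B), hfix, w * c, hdR, hq _ (QuotientGroup.out_eq' _)⟩, Subtype.ext ?_⟩
      show (((y : G ⧸ P.B).out : G) : G ⧸ P.parabolic (sJ P K)) = (g : G ⧸ P.parabolic (sJ P K))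
      refine QuotientGroup.eq.2 ?_
      have h1 : ((y : G ⧸ P.B).out)⁻¹ * y ∈ P.parabolic (sJ P K) :=
        B_le_parabolic P _ (QuotientGroup.eq.1 (QuotientGroup.out_eq' _))
      rw [show ((y : G ⧸ P.B).out)⁻¹ * g = (((y : G ⧸ P.B).out)⁻¹ * y) * (g⁻¹ * y)⁻¹ by group]
      exact mul_mem h1 (inv_mem hgy)
  rw [← Nat.card_eq_of_bijective f hf]
  let e : (Σ w : {w : W P // AscR P K w}, {q : G ⧸ P.B // b • q = q ∧ q.out ∈ cell P w.1}) ≃
      {q : G ⧸ P.B // b • q = q ∧ ∃ w, AscR P K w ∧ q.out ∈ cell P w} :=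
    Equiv.ofBijective (fun x => ⟨x.2.1, x.2.2.1, x.1.1, x.1.2, x.2.2.2⟩) ⟨by
      rintro ⟨⟨w, hw⟩, q, h1, h2⟩ ⟨⟨w', hw'⟩, q', h1', h2'⟩ h
      obtain rfl : q = q' := congrArg Subtype.val h
      obtain rfl := eq_of_mem_cell P h2 h2'
      rfl, fun ⟨q, h1, w, hw, h2⟩ => ⟨⟨⟨w, hw⟩, q, h1, h2⟩, rfl⟩⟩
  rw [← Nat.card_congr e, Nat.card_sigma, ← Finset.sum_filter,
    ← Finset.sum_subtype_eq_sum_filter, Finset.subtype_univ]
  rfl

end Cfsg.Agent.BN
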