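import Cfsg.Agent.Lib.Steinberg.Cells
import Cfsg.Agent.Lib.Unipotent.DoubleCoset
import Cfsg.Agent.Lib.Char.PermChar
import Cfsg.Agent.Lib.Char.Induction

/-!
# The Steinberg character of a finite Tits system
-/

set_option autoImplicit false

namespace Cfsg.Agent.BN

open scoped ComplexConjugate

universe u

variable {G : Type u} [Group G] (P : Cfsg.BNPair G) [Fintype P.S]

/-- the alternating sum of the parabolic permutation characters -/
noncomputable def stChar (g : G) : ℂ :=
  ∑ K : Finset P.S, (-1 : ℂ) ^ K.card *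
    Cfsg.fixedPointCharacter (P.parabolic (sJ P (↑K : Set P.S))) g

open Classical in
/-- the alternating sum over `K` of the indicator of the right ascents -/
theorem alt_sum_ite (w : W P) :
    ∑ K : Finset P.S, (-1 : ℂ) ^ K.card * (if AscR P (↑K : Set P.S) w then 1 else 0) =
      if Top P w then 1 else 0 := by
  have h := congrArg (fun z : ℤ => (z : ℂ)) (alt_sum P w)
  simp only [Int.cast_sum, Int.cast_mul, Int.cast_pow, Int.cast_neg, Int.cast_one,
    Finset.powerset_univ, Set.indicator_apply, Set.mem_ite_univ_right, Set.mem_setOf_eq,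
    apply_ite (fun z : ℤ => (z : ℂ)), Int.cast_zero] at h
  exact h

variable [Finite G]

theorem finite_W : Finite (W P) := Quotient.finite _

/-- The restriction to the Borel subgroup. -/
theorem stChar_borel {w0 : W P} (h0 : Top P w0) {b : G} (hb : b ∈ P.B) :
    stChar P b = (fixCell P b w0 : ℂ) := by
  classical
  haveI := finite_W P
  haveI := Fintype.ofFinite (W P)
  simp only [stChar, Cfsg.fixedPointCharacter, fixed_parabolic_eq P _ hb, Nat.cast_sum,
    Finset.mul_sum]
  rw [Finset.sum_comm]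
  have : ∀ w : W P, ∑ K : Finset P.S, (-1 : ℂ) ^ K.card *
      ((if AscR P (↑K : Set P.S) w then fixCell P b w else 0 : ℕ) : ℂ) =
      (if w = w0 then 1 else 0) * (fixCell P b w : ℂ) := by
    intro w
    rw [show (if w = w0 then (1 : ℂ) else 0) = if Top P w then 1 else 0 by
      by_cases h : w = w0
      · simp [h, h0]
      · have hn : ¬ Top P w := fun ht => h (top_unique P ht h0)
        simp [h, hn], ← alt_sum_ite, Finset.sum_mul]
    refine Finset.sum_congr rfl fun K _ => ?_
    split_ifs <;> simp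
  rw [Finset.sum_congr rfl fun w _ => this w]
  simp

theorem fixedPoint_gen (U : Subgroup G) :
    Cfsg.IsGeneralizedCharacter G (Cfsg.fixedPointCharacter U) := by
  haveI := Fintype.ofFinite G
  rw [show Cfsg.fixedPointCharacter U = Cfsg.indFun U (fun _ => 1) from
    funext fun g => (Cfsg.Agent.Char.indFun_one_eq_card U g).symm]
  exact Cfsg.Agent.Char.IsGeneralizedCharacter.of_isCharacter
    (Cfsg.Agent.Char.isCharacter_indFun U Cfsg.Agent.Char.isCharacter_one)

theorem stChar_gen : Cfsg.IsGeneralizedCharacter G (stChar P) := by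
  classical
  haveI := Fintype.ofFinite G
  have e : stChar P = ∑ K : Finset P.S, ((((-1 : ℤ) ^ K.card : ℤ)) : ℂ) •
      Cfsg.fixedPointCharacter (P.parabolic (sJ P (↑K : Set P.S))) := by
    funext g
    simp [stChar, Finset.sum_apply]
  rw [e]
  exact Cfsg.Agent.Char.isGeneralizedCharacter_sum _ fun K _ =>
    Cfsg.Agent.Char.IsGeneralizedCharacter.int_smul (fixedPoint_gen _) _

theorem inner_parabolic [Fintype G] (J K : Set P.S) :
    (Nat.card G : ℂ)⁻¹ * ∑ g : G, Cfsg.fixedPointCharacter (P.parabolic (sJ P J)) g *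
      Cfsg.fixedPointCharacter (P.parabolic (sJ P K)) g =
      (Nat.card {x : W P // AscL P J x ∧ AscR P K x} : ℂ) := by
  rw [← card_cls]
  exact Cfsg.Agent.Unipotent.inner_fixedPoint _ _ (repW P) (cls P J K)
    (exists_parabolic_cover P J K) (fun a b h => (parabolic_sandwich P).2 h)
    (fun a b h => (parabolic_sandwich P).1 h)

theorem stChar_norm [Fintype G] : Cfsg.classInner (stChar P) (stChar P) = 1 := by
  classical
  haveI := finite_W P
  haveI := Fintype.ofFinite (W P)
  obtain ⟨w0, h0⟩ := exists_top P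
  have hconj : ∀ g, conj (stChar P g) = stChar P g := by
    intro g; simp [stChar, Cfsg.fixedPointCharacter]
  have step1 : Cfsg.classInner (stChar P) (stChar P) =
      ∑ J : Finset P.S, ∑ K : Finset P.S, (-1 : ℂ) ^ J.card * ((-1 : ℂ) ^ K.card *
        (Nat.card {x : W P // AscL P (↑J : Set P.S) x ∧ AscR P (↑K : Set P.S) x} : ℂ)) := by
    rw [Cfsg.classInner, Finset.sum_congr rfl fun g _ => by rw [hconj g]]
    simp only [stChar, Finset.sum_mul_sum]
    rw [Finset.sum_comm, Finset.mul_sum]
    refine Finset.sum_congr rfl fun J _ => ?_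
    rw [Finset.sum_comm, Finset.mul_sum]
    refine Finset.sum_congr rfl fun K _ => ?_
    rw [← inner_parabolic P, Finset.mul_sum, Finset.mul_sum, Finset.mul_sum, Finset.mul_sum]
    refine Finset.sum_congr rfl fun g _ => ?_
    ring
  have step2 : ∀ J : Finset P.S, ∑ K : Finset P.S, (-1 : ℂ) ^ J.card * ((-1 : ℂ) ^ K.card *
        (Nat.card {x : W P // AscL P (↑J : Set P.S) x ∧ AscR P (↑K : Set P.S) x} : ℂ)) =
      (-1 : ℂ) ^ J.card * if J = ∅ then 1 else 0 := by
    intro J
    rw [← Finset.mul_sum]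
    congr 1
    have hc : ∀ K : Finset P.S,
        (Nat.card {x : W P // AscL P (↑J : Set P.S) x ∧ AscR P (↑K : Set P.S) x} : ℂ) =
        ∑ x : W P, (if AscL P (↑J : Set P.S) x then 1 else 0) *
          (if AscR P (↑K : Set P.S) x then 1 else 0) := fun K => by
      rw [Nat.card_eq_fintype_card, Fintype.card_subtype, Finset.card_filter, Nat.cast_sum]
      refine Finset.sum_congr rfl fun x _ => ?_
      split_ifs <;> simp_all
    simp only [hc, Finset.mul_sum]
    rw [Finset.sum_comm]
    have : ∀ x : W P, ∑ K : Finset P.S, (-1 : ℂ) ^ K.card * ((if AscL P (↑J : Set P.S) x then 1 else 0) *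
          (if AscR P (↑K : Set P.S) x then 1 else 0)) =
        if x = w0 then (if J = ∅ then 1 else 0) else 0 := by
      intro x
      rw [show ∀ a : ℂ, (∑ K : Finset P.S, (-1 : ℂ) ^ K.card * (a *
        (if AscR P (↑K : Set P.S) x then 1 else 0))) = a * ∑ K : Finset P.S, (-1 : ℂ) ^ K.card *
          (if AscR P (↑K : Set P.S) x then 1 else 0) from fun a => by
        rw [Finset.mul_sum]; exact Finset.sum_congr rfl fun K _ => by ring, alt_sum_ite]
      by_cases hx : x = w0
      · subst hx
        by_cases hJ : J = ∅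
        · subst hJ; simp [h0, AscL]
        · obtain ⟨s, hs⟩ := Finset.nonempty_iff_ne_empty.2 hJ
          have : ¬ AscL P (↑J : Set P.S) x := fun h =>
            Nat.lt_asymm (h s (Finset.mem_coe.2 hs)) (top_left P h0 s)
          simp [this, hJ]
      · have hn : ¬ Top P x := fun ht => hx (top_unique P ht h0)
        simp [hx, hn]
    rw [Finset.sum_congr rfl fun x _ => this x]
    simp
  rw [step1, Finset.sum_congr rfl fun J _ => step2 J]
  simp

omit [Fintype P.S] in
theorem fixCell_one_pos {w0 : W P} : 0 < fixCell P 1 w0 := by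
  obtain ⟨y, hy⟩ := cell_nonempty P w0
  haveI : Nonempty {q : G ⧸ P.B // (1 : G) • q = q ∧ q.out ∈ cell P w0} :=
    ⟨⟨(y : G ⧸ P.B), one_smul _ _, (mem_cell_iff_of_mk_eq P (QuotientGroup.out_eq' _)).2 hy⟩⟩
  exact Nat.card_pos

theorem stChar_irr : Cfsg.IsIrrCharacter G (stChar P) := by
  haveI := Fintype.ofFinite G
  haveI := finite_W P
  obtain ⟨w0, h0⟩ := exists_top P
  rcases Cfsg.Agent.Char.IsGeneralizedCharacter.of_norm_one (stChar_gen P) (stChar_norm P) with h | h
  · exact h
  · exfalso
    obtain ⟨n, ρ, -, hρ⟩ := h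
    have e := congrFun hρ 1
    rw [Representation.char_one, Pi.neg_apply, stChar_borel P h0 (one_mem _)] at e
    have hpos := fixCell_one_pos P (w0 := w0)
    have e2 : ((Module.finrank ℂ (Fin n → ℂ) : ℕ) : ℤ) = -((fixCell P 1 w0 : ℕ) : ℤ) := by
      exact_mod_cast e
    omega

omit [Fintype P.S] [Finite G] in
/-- The fixed cosets in the big cell are those of `B ∩ n B n⁻¹`. -/
theorem fixCell_eq {n : G} (hn : n ∈ P.N) (H : Subgroup G) (hH : P.B ⊓ P.B.map (MulAut.conj n).toMonoidHom = H)
    (b : P.B) : (fixCell P (b : G) (wmk P n hn) : ℂ) = Cfsg.fixedPointCharacter (H.subgroupOf P.B) b := by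
  simp only [fixCell, Cfsg.fixedPointCharacter, Nat.cast_inj]
  have hiff : ∀ x y : P.B, (x : G)⁻¹ * y ∈ H ↔ ((x * n : G) : G ⧸ P.B) = ((y * n : G) : G ⧸ P.B) := by
    intro x y
    rw [QuotientGroup.eq, ← hH, Subgroup.mem_inf, Subgroup.mem_map_equiv, MulAut.conj_symm_apply,
      show n⁻¹ * ((x : G)⁻¹ * y) * n = (x * n : G)⁻¹ * (y * n) by group]
    exact and_iff_right (mul_mem (inv_mem x.2) y.2)
  let f : P.B ⧸ H.subgroupOf P.B → G ⧸ P.B :=
    Quotient.lift (fun x : P.B => ((x * n : G) : G ⧸ P.B)) fun x y h => by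
      have h' := Subgroup.mem_subgroupOf.1 (QuotientGroup.leftRel_apply.1 h)
      exact (hiff x y).1 (by simpa using h')
  have hf : ∀ x : P.B, f (x : P.B ⧸ H.subgroupOf P.B) = ((x * n : G) : G ⧸ P.B) := fun _ => rfl
  have finj : Function.Injective f := by
    intro a c h
    induction a using QuotientGroup.induction_on with | H x => ?_
    induction c using QuotientGroup.induction_on with | H y => ?_
    rw [hf, hf, ← hiff] at h
    exact QuotientGroup.eq.2 (Subgroup.mem_subgroupOf.2 (by simpa using h))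
  have fsmul : ∀ a, f (b • a) = (b : G) • f a := by
    intro a
    induction a using QuotientGroup.induction_on with | H x => ?_
    show ((((b * x : P.B) : G) * n : G) : G ⧸ P.B) = (((b : G) * (x * n) : G) : G ⧸ P.B)
    rw [Subgroup.coe_mul, mul_assoc]
  have fmem : ∀ a, (f a).out ∈ cell P (wmk P n hn) := by
    intro a
    induction a using QuotientGroup.induction_on with | H x => ?_
    refine (mem_cell_iff_of_mk_eq P ((QuotientGroup.out_eq' _).trans (hf x))).2 ?_
    exact cell_mul_left P x.2 (by rw [cell_mk]; exact self_mem_dc P n)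
  refine (Nat.card_eq_of_bijective
    (fun a : MulAction.fixedBy (P.B ⧸ H.subgroupOf P.B) b =>
      (⟨f a.1, by rw [← fsmul]; exact congrArg f a.2, fmem a.1⟩ :
        {q : G ⧸ P.B // (b : G) • q = q ∧ q.out ∈ cell P (wmk P n hn)}))
    ⟨fun a c h => Subtype.ext (finj (congrArg Subtype.val h)), ?_⟩).symm
  rintro ⟨q, hq, hqc⟩
  rw [cell_mk] at hqc
  obtain ⟨c₁, h₁, c₂, h₂, e⟩ := DoubleCoset.mem_doubleCoset.1 hqc
  have hfq : f ((⟨c₁, h₁⟩ : P.B) : P.B ⧸ H.subgroupOf P.B) = q := by
    rw [hf, ← QuotientGroup.out_eq' q, e]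
    exact QuotientGroup.eq.2 (by
      rw [show (c₁ * n)⁻¹ * (c₁ * n * c₂) = c₂ by group]; exact h₂)
  exact ⟨⟨_, finj (by rw [fsmul, hfq, hq])⟩, Subtype.ext hfq⟩

omit [Fintype P.S] [Finite G] in
/-- recognising the longest element -/
theorem top_of_witness {n : G} (hn : n ∈ P.N)
    (h : ∀ s : P.S, ∃ b ∈ P.B, n * b * (s : G) ∈ dc P n) : Top P (wmk P n hn) := by
  intro s
  refine lt_of_le_of_ne (not_lt.1 fun hlt => ?_) (len_mul_σ_ne P s _)
  obtain ⟨b, hb, hbn⟩ := h s
  rw [← cell_mk P hn] at hbn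
  have hadd : len P (wmk P n hn * σ P s) = len P (wmk P n hn) + len P (σ P s) := by
    have := len_mul_le P (wmk P n hn) (σ P s)
    rw [len_σ] at this ⊢
    omega
  have hnb : n * b ∈ cell P (wmk P n hn) :=
    cell_mul_right P hb (by rw [cell_mk]; exact self_mem_dc P n)
  have e := eq_of_mem_cell P (cell_mul_add P hadd hnb (self_mem_cell_σ P s)) hbn
  exact σ_ne_one P s (mul_eq_left.1 e)

end Cfsg.Agent.BN
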