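import Cfsg.Agent.Lib.Steinberg.Char
import Cfsg.Agent.Lib.Lie.ChevLong
import Cfsg.Agent.Lib.Lie.ChevBN
import Cfsg.Agent.Lib.Lie.ChevUnip2
import Cfsg.Agent.Lib.Lie.ChevSylow
import Cfsg.Agent.S0165

/-!
# The Steinberg character of a Chevalley group
-/

set_option autoImplicit false

namespace Cfsg.Agent.Chev

open Cfsg.Lie

universe v

namespace Tab

variable {T : Tab} {F : Type v} [Field F]

theorem rank_eq' (g : T.Good) : T.D.rank = T.l := g.rank_eq

noncomputable instance sSet_fintype [Fintype F] (g : T.GoodA) : Fintype (bnPair g F).S :=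
  Fintype.ofFinite _

/-- the representative of a fundamental reflection -/
noncomputable def sGenBN (g : T.GoodA) (F : Type v) [Field F] (i : Fin T.l) : (bnPair g F).S :=
  ⟨⟨nG g.toGood F i, nG_mem_group g.toGood i⟩, (mem_sSet_iff g.toGood).2 ⟨i, i.2, rfl⟩⟩

theorem sGen_bijective (g : T.GoodA) : Function.Bijective (sGenBN g F) := by
  constructor
  · intro i j h
    have e : nG g.toGood F i = nG g.toGood F j := congrArg (fun z => ((z.1 : ↥(T.D.group F)) : GL T.D.Idx F)) h
    refine Fin.ext (nG_eq_of_inv_mul_mem g.toGood i.2 j.2 (by rw [e, inv_mul_cancel]; exact one_mem _) )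
  · rintro ⟨x, hx⟩
    obtain ⟨i, hi, e⟩ := (mem_sSet_iff g.toGood).1 hx
    exact ⟨⟨i, hi⟩, Subtype.ext (Subtype.ext e.symm)⟩

theorem parabolic_eq_bn (g : T.GoodA) (J : Set (Fin T.l)) :
    (T.D.parabolicSubgroup F (Fin.val '' J)).subgroupOf (T.D.group F) =
      (bnPair g F).parabolic (BN.sJ (bnPair g F) (sGenBN g F '' J)) := by
  have hg := g.toGood
  refine Subgroup.map_injective (T.D.group F).subtype_injective ?_
  have himg : (T.D.group F).subtype '' (BN.sJ (bnPair g F) (sGenBN g F '' J)) =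
      {x : GL T.D.Idx F | ∃ j ∈ Fin.val '' J, j < T.D.rank ∧ (x : Matrix T.D.Idx T.D.Idx F) =
        T.D.nMat F (T.D.simple j) 1} := by
    ext x
    simp only [BN.sJ, Set.mem_image, Set.mem_setOf_eq]
    constructor
    · rintro ⟨_, ⟨_, ⟨i, hi, rfl⟩, rfl⟩, rfl⟩
      refine ⟨i, ⟨i, hi, rfl⟩, by rw [hg.rank_eq]; exact i.2, ?_⟩
      show (nG hg F i : Matrix T.D.Idx T.D.Idx F) = _
      rw [nG_val hg i.2, nM]
    · rintro ⟨j, ⟨i, hi, rfl⟩, -, hx⟩
      exact ⟨_, ⟨_, ⟨i, hi, rfl⟩, rfl⟩, Units.ext (by rw [hx]; exact nG_val hg i.2)⟩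
  have hsub : T.D.parabolicSubgroup F (Fin.val '' J) ≤ T.D.group F := by
    refine sup_le (borel_le_group hg) ((Subgroup.closure_le _).2 ?_)
    rintro x ⟨j, ⟨i, hi, rfl⟩, -, hx⟩
    rw [show x = nG hg F i from Units.ext (by rw [hx, nG_val hg i.2, nM])]
    exact nG_mem_group hg i
  rw [Subgroup.map_subgroupOf_eq_of_le hsub]
  show _ = ((bnPair g F).B ⊔ Subgroup.closure _).map _
  rw [Subgroup.map_sup, MonoidHom.map_closure, himg]
  show _ = ((T.D.borelSubgroup F).subgroupOf (T.D.group F)).map _ ⊔ _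
  rw [Subgroup.map_subgroupOf_eq_of_le (borel_le_group hg)]
  rfl

theorem steinberg_eq [Fintype F] (g : T.GoodA) :
    T.D.steinbergCharacter F = BN.stChar (bnPair g F) := by
  classical
  have hg := g.toGood
  funext x
  simp only [ChevalleyDatum.steinbergCharacter, BN.stChar, hg.rank_eq]
  let e : Fin T.l ↪ (bnPair g F).S := ⟨sGenBN g F, (sGen_bijective g).1⟩
  have h1 : (Finset.univ : Finset (Finset (bnPair g F).S)) =
      (Finset.univ : Finset (Finset (Fin T.l))).image (fun J => J.map e) := by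
    ext K
    simp only [Finset.mem_univ, Finset.mem_image, true_and, true_iff]
    refine ⟨K.preimage (sGenBN g F) (sGen_bijective g).1.injOn, ?_⟩
    ext s
    obtain ⟨i, rfl⟩ := (sGen_bijective g).2 s
    simp [e, (sGen_bijective g).1.eq_iff]
  have h2 : (Finset.range T.l).powerset =
      (Finset.univ : Finset (Finset (Fin T.l))).image (fun J => J.map Fin.valEmbedding) := by
    ext K
    simp only [Finset.mem_powerset, Finset.mem_image, Finset.mem_univ, true_and]
    constructor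
    · intro h
      refine ⟨K.attach.map ⟨fun k => ⟨k.1, Finset.mem_range.1 (h k.2)⟩,
        fun a b hab => Subtype.ext (congrArg Fin.val hab)⟩, ?_⟩
      ext k
      simp only [Finset.mem_map, Finset.mem_attach, true_and, Subtype.exists,
        Function.Embedding.coeFn_mk, Fin.valEmbedding_apply]
      constructor
      · rintro ⟨_, ⟨a, ha, rfl⟩, rfl⟩; exact ha
      · exact fun hk => ⟨_, ⟨k, hk, rfl⟩, rfl⟩
    · rintro ⟨J, rfl⟩ k hk
      obtain ⟨i, -, rfl⟩ := Finset.mem_map.1 hk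
      exact Finset.mem_range.2 i.2
  rw [h1, h2, Finset.sum_image (fun a _ b _ h => Finset.map_injective _ h),
    Finset.sum_image (fun a _ b _ h => Finset.map_injective _ h)]
  refine Finset.sum_congr rfl fun J _ => ?_
  rw [Finset.card_map, Finset.card_map, ChevalleyDatum.parabolicIn]
  congr 2
  rw [Finset.coe_map, Finset.coe_map]
  exact parabolic_eq_bn g _

theorem exists_top_rep (g : T.GoodA) :
    ∃ n : ↥(T.D.group F), ∃ hn : n ∈ (bnPair g F).N, BN.Top (bnPair g F) (BN.wmk _ n hn) ∧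
      (bnPair g F).B ⊓ (bnPair g F).B.map (MulAut.conj n).toMonoidHom =
        (T.D.diagonalSubgroup F).subgroupOf (T.D.group F) := by
  have hg := g.toGood
  obtain ⟨L, hL, h1, -⟩ := exists_longest hg
  have hmono : nWd hg F L ∈ T.D.monomialSubgroup F := (mem_monomial_iff hg).2 ⟨L, hL, 1, by simp⟩
  refine ⟨⟨nWd hg F L, monomial_le_group hg hmono⟩, hmono, BN.top_of_witness _ _ ?_, ?_⟩
  · intro s
    obtain ⟨i, rfl⟩ := (sGen_bijective g).2 s
    have hi := i.2
    refine ⟨⟨xg hg (T.smp i) (-1), xg_mem_group hg _ _⟩, pos_le_borel hg (hg.smp_ge hi) (hg.smp_lt hi) _, ?_⟩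
    have hn := nG_conj (F := F) hg hi (hg.smp_lt hi) (1 : F)
    rw [hg.ref_smp hi, hg.eta_smp hi] at hn
    have hneg : T.neg (T.smp i) < T.n := neg_lt (hg.smp_lt hi)
    have hlow : T.neg (T.smp i) < T.N := (neg_lt_N_iff (hg.smp_lt hi)).2 (hg.smp_ge hi)
    obtain ⟨ε, -, hc⟩ := nWd_conj (F := F) hg hL hneg
    have hpos : T.N ≤ T.rw' L (T.neg (T.smp i)) := by
      rw [rw'_neg hg hL (hg.smp_lt hi)]
      exact (N_le_neg_iff (rw'_lt hg hL (hg.smp_lt hi))).2 (h1 _ (hg.smp_ge hi) (hg.smp_lt hi))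
    have key : nG hg F i = xg hg (T.smp i) 1 * xg hg (T.neg (T.smp i)) (-1) * xg hg (T.smp i) 1 :=
      rfl
    refine DoubleCoset.mem_doubleCoset.2 ⟨⟨xg hg (T.rw' L (T.neg (T.smp i))) ((ε : F) * -1),
      xg_mem_group hg _ _⟩, pos_le_borel hg hpos (rw'_lt hg hL hneg) _,
      ⟨xg hg (T.smp i) 1, xg_mem_group hg _ _⟩,
      pos_le_borel hg (hg.smp_ge hi) (hg.smp_lt hi) _, Subtype.ext ?_⟩
    show nWd hg F L * xg hg (T.smp i) (-1) * nG hg F i =
      xg hg (T.rw' L (T.neg (T.smp i))) ((ε : F) * -1) * nWd hg F L * xg hg (T.smp i) 1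
    rw [← (hc (-1)).1, key, ← mul_assoc, ← mul_assoc, mul_assoc (nWd hg F L), xg_add, neg_add_cancel,
      xg_zero, mul_one]
    group
  · apply le_antisymm
    · intro z hz
      rw [Subgroup.mem_inf, Subgroup.mem_map_equiv, MulAut.conj_symm_apply] at hz
      obtain ⟨hzB, hz'⟩ := hz
      obtain ⟨u, hu, d, hd⟩ := (mem_borel_iff hg).1 hz'
      rw [Subgroup.mem_subgroupOf]
      set n := nWd hg F L with hn
      have hd' : n⁻¹ * (z : GL T.D.Idx F) * n = u * tor T F d := hd
      have hv : n * u * n⁻¹ ∈ genS hg F (Set.Iio T.N) := by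
        have : n * u * n⁻¹ ∈ (genS hg F (Set.Ico T.N T.n)).map (MulAut.conj n).toMonoidHom :=
          ⟨u, hu, rfl⟩
        rw [hn, genS_map_nWd hg hL fun r hr => hr.2] at this
        refine genS_mono hg ?_ this
        rintro _ ⟨r, hr, rfl⟩
        exact h1 r hr.1 hr.2
      obtain ⟨e, he⟩ := wSub_conj_torus hg (nWd_mem_wSub hg hL) d
      have hH : n * tor T F d * n⁻¹ ∈ T.D.diagonalSubgroup F := by
        rw [diagonalSubgroup_eq hg, hn, he]; exact ⟨e, rfl⟩
      have ez : (z : GL T.D.Idx F) = (n * u * n⁻¹) * (n * tor T F d * n⁻¹) := by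
        rw [show (z : GL T.D.Idx F) = n * (n⁻¹ * z * n) * n⁻¹ by group, hd']; group
      have hvB : n * u * n⁻¹ ∈ T.D.borelSubgroup F := by
        have := mul_mem (show (z : GL T.D.Idx F) ∈ T.D.borelSubgroup F from hzB)
          (inv_mem (Subgroup.mem_sup_right (S := T.D.posUnipotent F) hH))
        rwa [ez, mul_inv_cancel_right] at this
      rw [ez, borel_inf_neg hg hvB hv, one_mul]
      exact hH
    · intro z hz
      rw [Subgroup.mem_subgroupOf] at hz
      refine Subgroup.mem_inf.2 ⟨Subgroup.mem_sup_right hz, ?_⟩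
      rw [diagonalSubgroup_eq hg] at hz
      obtain ⟨c, hc⟩ := hz
      rw [Subgroup.mem_map_equiv, MulAut.conj_symm_apply]
      obtain ⟨e, he⟩ := wSub_conj_torus hg (inv_mem (nWd_mem_wSub hg hL (F := F))) c
      show (nWd hg F L)⁻¹ * (z : GL T.D.Idx F) * nWd hg F L ∈ T.D.borelSubgroup F
      rw [← hc]
      rw [inv_inv] at he
      rw [he]
      exact torus_le_borel hg e

theorem steinberg_borel [Fintype F] (g : T.GoodA)
    (b : ↥((T.D.borelSubgroup F).subgroupOf (T.D.group F))) :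
    T.D.steinbergCharacter F (b : ↥(T.D.group F)) =
      Cfsg.fixedPointCharacter (((T.D.diagonalSubgroup F).subgroupOf (T.D.group F)).subgroupOf
        ((T.D.borelSubgroup F).subgroupOf (T.D.group F))) b := by
  obtain ⟨n, hn, htop, hH⟩ := exists_top_rep (F := F) g
  rw [steinberg_eq g, BN.stChar_borel (bnPair g F) htop b.2,
    BN.fixCell_eq (bnPair g F) hn _ hH b]
  rfl

theorem steinberg_irr [Fintype F] (g : T.GoodA) :
    Cfsg.IsIrrCharacter ↥(T.D.group F) (T.D.steinbergCharacter F) := by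
  rw [steinberg_eq g]; exact BN.stChar_irr _

theorem card_borel_quot [Fintype F] (g : T.GoodA) :
    Nat.card (↥((T.D.borelSubgroup F).subgroupOf (T.D.group F)) ⧸
      ((T.D.diagonalSubgroup F).subgroupOf (T.D.group F)).subgroupOf
        ((T.D.borelSubgroup F).subgroupOf (T.D.group F))) = Fintype.card F ^ T.N := by
  have hg := g.toGood
  rw [← card_pos g]
  refine (Nat.card_eq_of_bijective (fun u : genS hg F (Set.Ico T.N T.n) =>
    ((⟨⟨(u : GL T.D.Idx F), posU_le_group hg u.2⟩,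
      (by rw [Subgroup.mem_subgroupOf]
          exact Subgroup.mem_sup_left (S := T.D.posUnipotent F) (by rw [posUnipotent_eq hg]; exact u.2))⟩ :
      ↥((T.D.borelSubgroup F).subgroupOf (T.D.group F))) :
      ↥((T.D.borelSubgroup F).subgroupOf (T.D.group F)) ⧸ _)) ⟨?_, ?_⟩).symm
  · intro u v h
    have h' := QuotientGroup.eq.1 h
    simp only [Subgroup.mem_subgroupOf, Subgroup.coe_mul, Subgroup.coe_inv] at h'
    have := pos_inf_torus hg (mul_mem (inv_mem u.2) v.2) h'
    exact Subtype.ext (inv_mul_eq_one.1 this)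
  · intro q
    induction q using QuotientGroup.induction_on with | H x => ?_
    obtain ⟨u, hu, c, hc⟩ := (mem_borel_iff hg).1 (Subgroup.mem_subgroupOf.1 x.2)
    refine ⟨⟨u, hu⟩, QuotientGroup.eq.2 ?_⟩
    simp only [Subgroup.mem_subgroupOf, Subgroup.coe_mul, Subgroup.coe_inv, hc]
    rw [inv_mul_cancel_left, diagonalSubgroup_eq hg]
    exact ⟨c, rfl⟩

theorem steinberg_one [Fintype F] (g : T.GoodA) :
    T.D.steinbergCharacter F 1 = (Fintype.card F : ℂ) ^ T.N := by
  have h := steinberg_borel (F := F) g 1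
  rw [OneMemClass.coe_one] at h
  rw [h, Cfsg.fixedPointCharacter, ← Nat.cast_pow, Nat.cast_inj, ← card_borel_quot g]
  exact Nat.card_congr ((Equiv.setCongr (by ext x; simp [MulAction.mem_fixedBy])).trans
    (Equiv.Set.univ _))

theorem nroots_half (g : T.Good) : T.D.nroots / 2 = T.N := by
  rw [g.nroots_eq]; have := n_def (T := T); omega

theorem sylow_pow [Fintype F] (g : T.GoodA) (p : ℕ) [Fact p.Prime] [CharP F p] :
    p ^ (Nat.card ↥(T.D.group F)).factorization p = Fintype.card F ^ T.N := by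
  obtain ⟨P, hP⟩ := exists_sylow_posU (F := F) g p
  have hm := P.card_eq_multiplicity
  rw [hP] at hm
  rw [← hm,
    posUnipotent_eq g.toGood, Nat.card_congr (Subgroup.subgroupOfEquivOfLe
      (posU_le_group g.toGood)).toEquiv, card_pos g]

theorem steinberg_singular [Fintype F] (g : T.GoodA) (p : ℕ) [Fact p.Prime] [CharP F p]
    {x : ↥(T.D.group F)} (hx : p ∣ orderOf x) : T.D.steinbergCharacter F x = 0 := by
  obtain ⟨n, ρ, hρ, he⟩ := steinberg_irr (F := F) g
  haveI := hρ
  have hd : Module.finrank ℂ (Fin n → ℂ) = Fintype.card F ^ T.N := by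
    have h := congrFun he 1
    rw [Representation.char_one, steinberg_one g, ← Nat.cast_pow] at h
    exact_mod_cast h
  rw [← he]
  exact Cfsg.Agent.S0165.result ρ p _ Fact.out (Nat.ordProj_dvd _ _)
    (Nat.pow_succ_factorization_not_dvd Nat.card_pos.ne' Fact.out)
    (by rw [hd, sylow_pow g p]) x hx

end Tab

end Cfsg.Agent.Chev
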