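import Cfsg.Agent.Lib.Steinberg.HeckeGroup
import Cfsg.Agent.Lib.Steinberg.Chev
import Cfsg.Agent.Lib.Lie.ChevCoxeter

/-!
# The constituents of `1_B^G` for the Chevalley groups
-/

set_option autoImplicit false

open scoped ComplexConjugate

namespace Cfsg.Agent.Chev

open Cfsg.Lie

universe v

namespace Tab

variable {T : Tab} {F : Type v} [Field F]

theorem card_cell_sGen (g : T.GoodA) [Fintype F] (i : Fin T.l) :
    Nat.card (BN.cell (bnPair g F) (BN.σ (bnPair g F) (sGenBN g F i))) =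
      Fintype.card F * Nat.card (bnPair g F).B := by
  have hg := g.toGood
  set n := nG hg F i with hn
  rw [BN.cell_σ, ← Nat.card_eq_fintype_card (α := F), ← Nat.card_prod]
  let f : F × ↥(bnPair g F).B → ↥(T.D.group F) := fun z =>
    ⟨xg hg (T.smp i) z.1 * n * ((z.2 : ↥(T.D.group F)) : GL T.D.Idx F),
      mul_mem (mul_mem (xg_mem_group hg _ _) (nG_mem_group hg _)) z.2.1.2⟩
  have hmem : ∀ z, f z ∈ BN.dc (bnPair g F) ((sGenBN g F i : (bnPair g F).S) : ↥(T.D.group F)) := fun z =>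
    DoubleCoset.mem_doubleCoset.2 ⟨⟨_, xg_mem_group hg (T.smp i) z.1⟩,
      Subgroup.mem_subgroupOf.2 (pos_le_borel hg (hg.smp_ge i.2) (hg.smp_lt i.2) _),
      z.2, z.2.2, Subtype.ext rfl⟩
  refine (Nat.card_eq_of_bijective (fun z => (⟨f z, hmem z⟩ :
    BN.dc (bnPair g F) ((sGenBN g F i : (bnPair g F).S) : ↥(T.D.group F)))) ⟨?_, ?_⟩).symm
  · rintro ⟨t, b⟩ ⟨t', b'⟩ h
    have e : xg hg (T.smp i) t * n * ((b : ↥(T.D.group F)) : GL T.D.Idx F) =
        xg hg (T.smp i) t' * n * ((b' : ↥(T.D.group F)) : GL T.D.Idx F) :=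
      congrArg (fun z => ((z.1 : ↥(T.D.group F)) : GL T.D.Idx F)) h
    have hB : n⁻¹ * xg hg (T.smp i) (-t' + t) * n ∈ T.D.borelSubgroup F := by
      rw [← xg_add, ← xg_inv, show n⁻¹ * ((xg hg (T.smp i) t')⁻¹ * xg hg (T.smp i) t) * n =
        (xg hg (T.smp i) t' * n)⁻¹ * (xg hg (T.smp i) t * n) by group,
        show (xg hg (T.smp i) t' * n)⁻¹ * (xg hg (T.smp i) t * n) =
          ((b' : ↥(T.D.group F)) : GL T.D.Idx F) * ((b : ↥(T.D.group F)) : GL T.D.Idx F)⁻¹ by
            rw [inv_mul_eq_iff_eq_mul, ← mul_assoc, ← e, mul_inv_cancel_right]]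
      exact mul_mem (Subgroup.mem_subgroupOf.1 b'.2) (inv_mem (Subgroup.mem_subgroupOf.1 b.2))
    have hconj : n⁻¹ * xg hg (T.smp i) (-t' + t) * n = xg hg (T.neg (T.smp i)) (-(-t' + t)) := by
      have h2 := nG_conj (F := F) hg i.2 (neg_lt (hg.smp_lt i.2)) (-(-t' + t) * (T.eta i (T.neg (T.smp i)) : F) * 0)
      have h3 := nG_conj (F := F) hg i.2 (hg.smp_lt i.2) (-t' + t)
      rw [hg.ref_smp i.2, hg.eta_smp i.2] at h3
      have hs := nG_sq (F := F) hg i.2
      have hc : hS T F i (-1) * xg hg (T.smp i) (-t' + t) * (hS T F i (-1))⁻¹ =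
          xg hg (T.smp i) (-t' + t) := by
        rw [hS_eq_tor, tor_xg hg _ (hg.smp_lt i.2), wt_single hg i.2, A_smp_self hg i.2]
        norm_num
      rw [show n⁻¹ * xg hg (T.smp i) (-t' + t) * n =
          n * ((n * n)⁻¹ * xg hg (T.smp i) (-t' + t) * (n * n)) * n⁻¹ by group,
        hn, hs, show (hS T F i (-1))⁻¹ * xg hg (T.smp i) (-t' + t) * hS T F i (-1) =
          xg hg (T.smp i) (-t' + t) by
            conv_lhs => arg 1; arg 2; rw [← hc]
            group, h3]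
      congr 1
      push_cast
      ring
    rw [hconj] at hB
    have h1 := borel_inf_neg hg hB (xg_mem_genS hg (S := Set.Iio T.N)
      ((neg_lt_N_iff (hg.smp_lt i.2)).2 (hg.smp_ge i.2)) _)
    rw [← xg_zero hg (T.neg (T.smp i))] at h1
    have h2 := xg_injective hg (neg_lt (hg.smp_lt i.2)) h1
    have ht : t = t' := by linear_combination -h2
    subst ht
    exact Prod.ext rfl (Subtype.ext (Subtype.ext (mul_left_cancel e)))
  · rintro ⟨x, hx⟩
    obtain ⟨b₁, h1, b₂, h2, rfl⟩ := DoubleCoset.mem_doubleCoset.1 hx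
    obtain ⟨u, hu, c, hc⟩ := (mem_borel_iff hg).1 (Subgroup.mem_subgroupOf.1 h1)
    obtain ⟨u', hu', a, ha⟩ := pos_split g i.2 (inv_mem hu)
    have hu'' : n⁻¹ * u'⁻¹ * n ∈ T.D.borelSubgroup F := by
      refine genS_pos_le_borel hg (S := T.posExc i) (fun r hr => ⟨hr.1, hr.2.1⟩) ?_
      exact (Subgroup.mem_normalizer_iff''.1 (nG_normalizes hg i.2 (fun r hr => hr.2.1)
        fun r hr => ref_posExc hg i.2 hr) u'⁻¹).1 (inv_mem hu')
    obtain ⟨e, he⟩ := torus_pass hg (nG_mem_wSub (F := F) hg i.2) (fun k => c k)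
    obtain ⟨d, hd⟩ := wSub_conj_torus hg (inv_mem (nG_mem_wSub (F := F) hg i.2)) c
    rw [inv_inv, ← hn] at hd
    have hbB : (n⁻¹ * u'⁻¹ * n) * tor T F d * ((b₂ : ↥(T.D.group F)) : GL T.D.Idx F) ∈
        T.D.borelSubgroup F :=
      mul_mem (mul_mem hu'' (torus_le_borel hg d)) (Subgroup.mem_subgroupOf.1 h2)
    refine ⟨⟨-a, ⟨⟨_, borel_le_group hg hbB⟩, hbB⟩⟩, Subtype.ext (Subtype.ext ?_)⟩
    show xg hg (T.smp i) (-a) * n * ((n⁻¹ * u'⁻¹ * n) * tor T F d * ((b₂ : ↥(T.D.group F)) : GL T.D.Idx F)) =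
      (b₁ : GL T.D.Idx F) * nG hg F i * b₂
    rw [hc, ← hd, ← xg_inv, ← hn, show u = (u' * xg hg (T.smp i) a)⁻¹ by rw [← ha, inv_inv]]
    group

theorem card_conjClasses_weyl (g : T.GoodA) (F : Type v) [Field F] {M : CoxeterMatrix (Fin T.l)}
    (hM : ∀ i j : Fin T.l, T.checkOrd [(i : ℕ), (j : ℕ)] (M i j) = true) :
    Nat.card (ConjClasses (BN.W (bnPair g F))) = Nat.card (ConjClasses M.Group) := by
  refine Nat.card_congr (Equiv.ofBijective (ConjClasses.map (coxEquiv g F hM).toMonoidHom) ⟨?_, ?_⟩)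
  · intro a b h
    induction a using Quotient.inductionOn with | h a => ?_
    induction b using Quotient.inductionOn with | h b => ?_
    have h' : IsConj (coxEquiv g F hM a) (coxEquiv g F hM b) := ConjClasses.mk_eq_mk_iff_isConj.1 h
    obtain ⟨c, hc⟩ := isConj_iff.1 h'
    refine ConjClasses.mk_eq_mk_iff_isConj.2 (isConj_iff.2 ⟨(coxEquiv g F hM).symm c, ?_⟩)
    apply (coxEquiv g F hM).injective
    simpa using hc
  · exact ConjClasses.map_surjective (coxEquiv g F hM).surjective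

theorem card_principal_series [Fintype F] (g : T.GoodA) {M : CoxeterMatrix (Fin T.l)}
    (hM : ∀ i j : Fin T.l, T.checkOrd [(i : ℕ), (j : ℕ)] (M i j) = true) :
    Nat.card {χ : Cfsg.IrrCharacter ↥(T.D.group F) //
      ∃ φ : ↥(T.D.group F) → ℂ, Cfsg.IsCharacter ↥(T.D.group F) φ ∧
        Cfsg.fixedPointCharacter ((T.D.borelSubgroup F).subgroupOf (T.D.group F)) =
          (χ : ↥(T.D.group F) → ℂ) + φ} = Nat.card (ConjClasses M.Group) := by
  classical
  haveI := Fintype.ofFinite ↥(T.D.group F)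
  haveI := Fintype.ofFinite ↥(bnPair g F).B
  haveI := BN.finite_W (bnPair g F)
  haveI := Fintype.ofFinite (BN.W (bnPair g F))
  have hq : ∀ s : (bnPair g F).S, Nat.card (BN.cell (bnPair g F) (BN.σ (bnPair g F) s)) =
      Fintype.card F * Nat.card (bnPair g F).B := fun s => by
    obtain ⟨i, rfl⟩ := (sGen_bijective g).2 s
    exact card_cell_sGen g i
  rw [← card_conjClasses_weyl g F hM,
    ← BN.HG.card_constituents (bnPair g F) (Fintype.card F) hq Fintype.card_ne_zero]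
  refine Nat.card_congr (Equiv.subtypeEquivRight fun χ => ?_)
  show (∃ φ, _ ∧ Cfsg.fixedPointCharacter (bnPair g F).B = _) ↔ _
  set π := Cfsg.fixedPointCharacter (bnPair g F).B with hπ
  have hπc : Cfsg.IsCharacter ↥(T.D.group F) π := by
    rw [hπ, show Cfsg.fixedPointCharacter (bnPair g F).B = Cfsg.indFun (bnPair g F).B (fun _ => 1) from
      funext fun x => (Char.indFun_one_eq_card _ x).symm]
    exact Char.isCharacter_indFun _ Char.isCharacter_one
  have hinner : Cfsg.classInner (χ : ↥(T.D.group F) → ℂ) π =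
      (Nat.card ↥(T.D.group F) : ℂ)⁻¹ * (((bnPair g F).B.index : ℂ) *
        ∑ b : (bnPair g F).B, (χ : ↥(T.D.group F) → ℂ) b) := by
    rw [Cfsg.classInner, ← BN.sum_weight_fixed (bnPair g F).B (χ : ↥(T.D.group F) → ℂ)
      fun a b => Char.IsCharacter.isClassFunction (Char.IsIrrCharacter.isCharacter χ.2) a b]
    congr 1
    refine Finset.sum_congr rfl fun x _ => ?_
    simp [π, Cfsg.fixedPointCharacter]
  obtain ⟨m, hm⟩ := Char.IsCharacter.exists_decomp hπc
  have hmχ : Cfsg.classInner π (χ : ↥(T.D.group F) → ℂ) = (m χ : ℂ) := by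
    rw [hm, Char.classInner_combination]
  have hne : ((Nat.card ↥(T.D.group F) : ℂ))⁻¹ * ((bnPair g F).B.index : ℂ) ≠ 0 :=
    mul_ne_zero (inv_ne_zero (Nat.cast_ne_zero.2 Nat.card_pos.ne'))
      (Nat.cast_ne_zero.2 Subgroup.index_ne_zero_of_finite)
  constructor
  · rintro ⟨φ, hφ, e⟩ h0
    rw [h0, mul_zero, mul_zero] at hinner
    obtain ⟨k, hk⟩ := Char.IsCharacter.exists_classInner_nat (Char.IsIrrCharacter.isCharacter χ.2) hφ
    rw [e, Char.classInner_add_right, Char.classInner_self_irr χ.2, hk] at hinner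
    norm_cast at hinner
    omega
  · intro h0
    have hpos : m χ ≠ 0 := fun h => by
      rw [h, Nat.cast_zero] at hmχ
      rw [← Char.classInner_conj_symm, hmχ, map_zero, ← mul_assoc] at hinner
      exact h0 ((mul_eq_zero.1 hinner.symm).resolve_left hne)
    refine ⟨∑ ψ : Cfsg.IrrCharacter ↥(T.D.group F),
      ((if ψ = χ then m χ - 1 else m ψ : ℕ) : ℂ) • (ψ : ↥(T.D.group F) → ℂ), ?_, ?_⟩
    · exact Char.isCharacter_sum _ fun ψ _ =>
        Char.IsCharacter.nsmul (Char.IsIrrCharacter.isCharacter ψ.2) _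
    · rw [hm]
      funext x
      simp only [Finset.sum_apply, Pi.smul_apply, Pi.add_apply, smul_eq_mul]
      rw [← Finset.add_sum_erase _ _ (Finset.mem_univ χ),
        ← Finset.add_sum_erase _ (fun ψ : Cfsg.IrrCharacter ↥(T.D.group F) =>
          ((if ψ = χ then m χ - 1 else m ψ : ℕ) : ℂ) * (ψ : ↥(T.D.group F) → ℂ) x) (Finset.mem_univ χ),
        if_pos rfl, ← add_assoc]
      congr 1
      · obtain ⟨k, hk⟩ := Nat.exists_eq_succ_of_ne_zero hpos
        rw [hk, Nat.succ_sub_one, Nat.cast_succ]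
        ring
      · exact Finset.sum_congr rfl fun ψ hψ => by rw [if_neg (Finset.ne_of_mem_erase hψ)]

end Tab

end Cfsg.Agent.Chev
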