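import Cfsg.Agent.Lib.Steinberg.Sub
import Cfsg.Agent.Lib.Char.Fixed
import Cfsg.Agent.Lib.Char.Integral

/-!
# The Steinberg character at elements of order prime to the characteristic
-/

set_option autoImplicit false

namespace Cfsg.Agent.BN

open scoped ComplexConjugate

universe u

variable {G : Type u} [Group G]

theorem sum_weight_fixed [Fintype G] (L : Subgroup G) [Fintype L] (f : G → ℂ)
    (hf : ∀ x y, f (y * x * y⁻¹) = f x) :
    ∑ x : G, f x * Cfsg.fixedPointCharacter L x = (L.index : ℂ) * ∑ x : L, f x := by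
  classical
  haveI : Fintype (G ⧸ L) := Fintype.ofFinite _
  have h : ∀ x : G, Cfsg.fixedPointCharacter L x = ∑ q : G ⧸ L, if x • q = q then (1 : ℂ) else 0 :=
    fun x => by
      rw [Cfsg.fixedPointCharacter, Finset.sum_boole, ← Fintype.card_subtype,
        ← Nat.card_eq_fintype_card]
      rfl
  have hfib : ∀ q : G ⧸ L, ∑ x : G, (if x • q = q then f x else 0) = ∑ x : L, f x := by
    intro q
    rw [← Finset.sum_subtype (Finset.univ.filter (· ∈ L)) (p := (· ∈ L)) (by simp) f,
      Finset.sum_filter, ← Equiv.sum_comp (MulAut.conj q.out).toEquiv]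
    refine Finset.sum_congr rfl fun x _ => ?_
    have hiff : (q.out * x * q.out⁻¹) • q = q ↔ x ∈ L := by
      conv_lhs => arg 1; arg 2; rw [← QuotientGroup.out_eq' q]
      conv_lhs => rhs; rw [← QuotientGroup.out_eq' q]
      rw [MulAction.Quotient.smul_coe, smul_eq_mul, QuotientGroup.eq,
        show (q.out * x * q.out⁻¹ * q.out)⁻¹ * q.out = x⁻¹ by group, inv_mem_iff]
    show (if (q.out * x * q.out⁻¹) • q = q then f (q.out * x * q.out⁻¹) else 0) = _
    simp only [hiff, hf]
  simp only [h, Finset.mul_sum, mul_ite, mul_one, mul_zero]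
  rw [Finset.sum_comm, Finset.sum_congr rfl fun q _ => hfib q, Finset.sum_const, nsmul_eq_mul,
    Finset.card_univ, Subgroup.index, Nat.card_eq_fintype_card (α := G ⧸ L), Finset.mul_sum]

/-- a character without fixed vectors on a subgroup has vanishing sums over its cosets -/
theorem coset_sum_zero [Finite G] {φ : G → ℂ} (hφ : Cfsg.IsCharacter G φ) (R : Subgroup G) [Fintype R]
    (h0 : ∑ r : R, φ r = 0) (x : G) : ∑ r : R, φ (x * r) = 0 := by
  obtain ⟨n, ρ, rfl⟩ := hφ
  have hcard : (Fintype.card R : ℂ) ≠ 0 := Nat.cast_ne_zero.2 Fintype.card_ne_zero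
  let e : (Fin n → ℂ) →ₗ[ℂ] (Fin n → ℂ) := ((Fintype.card R : ℂ))⁻¹ • ∑ r : R, ρ r
  have hmul : ∀ s : R, ρ (s : G) * ∑ r : R, ρ (r : G) = ∑ r : R, ρ (r : G) := fun s => by
    rw [Finset.mul_sum]
    refine Fintype.sum_equiv (Equiv.mulLeft s) _ _ fun r => ?_
    rw [← map_mul]; rfl
  have he : IsIdempotentElem e := by
    show e * e = e
    simp only [e, smul_mul_assoc, mul_smul_comm, Finset.sum_mul, hmul, Finset.sum_const,
      Finset.card_univ]
    rw [← Nat.cast_smul_eq_nsmul ℂ, smul_smul, smul_smul]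
    congr 1
    field_simp
  have htr : LinearMap.trace ℂ _ e = 0 := by
    simp only [e, map_smul, map_sum]
    have : ∑ r : R, LinearMap.trace ℂ _ (ρ (r : G)) = 0 := h0
    rw [this, smul_zero]
  have hr := (LinearMap.IsIdempotentElem.isProj_range e he).trace
  rw [htr, eq_comm, Nat.cast_eq_zero, Submodule.finrank_eq_zero, LinearMap.range_eq_bot] at hr
  have hs : ∑ r : R, ρ (r : G) = 0 := by
    have := hr
    simp only [e, smul_eq_zero, inv_eq_zero, hcard, false_or] at this
    exact this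
  calc ∑ r : R, ρ.character (x * r) = LinearMap.trace ℂ _ (ρ x * ∑ r : R, ρ (r : G)) := by
        rw [Finset.mul_sum, map_sum]
        exact Finset.sum_congr rfl fun r _ => by rw [Representation.character, map_mul]
    _ = 0 := by rw [hs, mul_zero, map_zero]

theorem sum_subgroupOf {H K : Subgroup G} [Fintype H] [Fintype (H.subgroupOf K)] (hle : H ≤ K)
    (f : G → ℂ) : ∑ z : H.subgroupOf K, f ((z : K) : G) = ∑ z : H, f z := by
  refine Fintype.sum_equiv (Subgroup.subgroupOfEquivOfLe hle).toEquiv _ _ fun z => ?_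
  exact congrArg f rfl

variable (P : Cfsg.BNPair G) [Fintype P.S] [DecidableEq P.S] [Finite G]

theorem stChar_class (x y : G) : stChar P (y * x * y⁻¹) = stChar P x := by
  refine Finset.sum_congr rfl fun K _ => ?_
  congr 1
  simp only [Cfsg.fixedPointCharacter, Nat.cast_inj]
  exact (Nat.card_congr ((MulAction.toPerm y).subtypeEquiv fun q => by
    simp [MulAction.mem_fixedBy, mul_smul])).symm

theorem inner_stChar_parabolic [Fintype G] (J : Finset P.S) :
    (Nat.card G : ℂ)⁻¹ * ∑ g : G, stChar P g * Cfsg.fixedPointCharacter (pJ P (↑J : Set P.S)) g =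
      if J = ∅ then 1 else 0 := by
  classical
  haveI := finite_W P
  haveI := Fintype.ofFinite (W P)
  obtain ⟨w0, h0⟩ := exists_top P
  have hsym : ∀ K : Finset P.S, (Nat.card G : ℂ)⁻¹ * ∑ g : G,
      Cfsg.fixedPointCharacter (P.parabolic (sJ P (↑K : Set P.S))) g *
        Cfsg.fixedPointCharacter (pJ P (↑J : Set P.S)) g =
      ∑ x : W P, (if AscL P (↑J : Set P.S) x then 1 else 0) *
        (if AscR P (↑K : Set P.S) x then 1 else 0) := fun K => by
    rw [Finset.sum_congr rfl fun g _ => mul_comm _ _, inner_parabolic P, Nat.card_eq_fintype_card,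
      Fintype.card_subtype, Finset.card_filter, Nat.cast_sum]
    refine Finset.sum_congr rfl fun x _ => ?_
    split_ifs <;> simp_all
  calc (Nat.card G : ℂ)⁻¹ * ∑ g : G, stChar P g * Cfsg.fixedPointCharacter (pJ P (↑J : Set P.S)) g
      = ∑ K : Finset P.S, (-1 : ℂ) ^ K.card * ∑ x : W P, (if AscL P (↑J : Set P.S) x then 1 else 0) *
          (if AscR P (↑K : Set P.S) x then 1 else 0) := by
        simp only [stChar, Finset.sum_mul, ← hsym, Finset.mul_sum]
        rw [Finset.sum_comm]
        refine Finset.sum_congr rfl fun K _ => Finset.sum_congr rfl fun g _ => ?_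
        ring
    _ = ∑ x : W P, (if AscL P (↑J : Set P.S) x then 1 else 0) *
          ∑ K : Finset P.S, (-1 : ℂ) ^ K.card * (if AscR P (↑K : Set P.S) x then 1 else 0) := by
        simp only [Finset.mul_sum]
        rw [Finset.sum_comm]
        refine Finset.sum_congr rfl fun K _ => Finset.sum_congr rfl fun g _ => ?_
        ring
    _ = if J = ∅ then 1 else 0 := by
        simp only [alt_sum_ite]
        rw [Finset.sum_eq_single w0 (fun x _ hx => by
          have hn : ¬ Top P x := fun ht => hx (top_unique P ht h0)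
          simp [hn]) (fun h => absurd (Finset.mem_univ _) h)]
        by_cases hJ : J = ∅
        · subst hJ; simp [h0, AscL]
        · obtain ⟨s, hs⟩ := Finset.nonempty_iff_ne_empty.2 hJ
          have : ¬ AscL P (↑J : Set P.S) w0 := fun h =>
            Nat.lt_asymm (h s (Finset.mem_coe.2 hs)) (top_left P h0 s)
          simp [this, hJ]

theorem sum_stChar_parabolic [Fintype G] (J : Finset P.S) [Fintype ↥(pJ P (↑J : Set P.S))] :
    ∑ x : pJ P (↑J : Set P.S), stChar P x =
      if J = ∅ then (Nat.card ↥(pJ P (↑J : Set P.S)) : ℂ) else 0 := by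
  have h := inner_stChar_parabolic P J
  have hidx := Subgroup.card_mul_index (pJ P (↑J : Set P.S))
  classical
  rw [sum_weight_fixed (pJ P (↑J : Set P.S)) (stChar P) (stChar_class P), ← hidx, Nat.cast_mul] at h
  have h1 : ((pJ P (↑J : Set P.S)).index : ℂ) ≠ 0 := Nat.cast_ne_zero.2 Subgroup.index_ne_zero_of_finite
  have h2 : (Nat.card ↥(pJ P (↑J : Set P.S)) : ℂ) ≠ 0 := Nat.cast_ne_zero.2 Nat.card_pos.ne'
  field_simp at h
  rw [h]
  split_ifs <;> simp

theorem parabolic_univ : pJ P (↑(Finset.univ : Finset P.S) : Set P.S) = ⊤ := by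
  refine eq_top_iff.2 fun x _ => ?_
  obtain ⟨w, hw⟩ := bruhat P x
  refine mem_parabolic_of_cell P ?_ hw
  obtain ⟨l, rfl⟩ := exists_word P w
  exact wp_mem P _ fun s _ => Finset.mem_coe.2 (Finset.mem_univ s)

theorem inner_restrict [Fintype G] (J : Finset P.S) [Fintype ↥(pJ P (↑J : Set P.S))] :
    Cfsg.classInner (fun y : ↥(pJ P (↑J : Set P.S)) => stChar P (y : G))
      (StCount.altFix (fun K : Finset P.S => pJ P (↑K : Set P.S)) J) = 1 := by
  classical
  set ψ : ↥(pJ P (↑J : Set P.S)) → ℂ := StCount.altFix (fun K : Finset P.S => pJ P (↑K : Set P.S)) J with hψdef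
  have hconj : ∀ y, conj (ψ y) = ψ y := fun y => by
    simp [hψdef, StCount.altFix, Cfsg.fixedPointCharacter]
  rw [Cfsg.classInner, Finset.sum_congr rfl fun y _ => by rw [hconj y]]
  simp only [hψdef, StCount.altFix, Finset.mul_sum]
  rw [Finset.sum_comm, Finset.sum_eq_single ∅]
  · have hidx := Subgroup.card_mul_index
      ((pJ P (↑(∅ : Finset P.S) : Set P.S)).subgroupOf (pJ P (↑J : Set P.S)))
    rw [Finset.card_empty, pow_zero, ← Finset.mul_sum]
    simp only [one_mul]
    rw [sum_weight_fixed _ (fun y : ↥(pJ P (↑J : Set P.S)) => stChar P (y : G))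
      (fun a b => by push_cast; exact stChar_class P _ _), ← hidx, Nat.cast_mul]
    have hle : pJ P (↑(∅ : Finset P.S) : Set P.S) ≤ pJ P (↑J : Set P.S) :=
      sup_le_sup_left (Subgroup.closure_mono (Set.image_mono (by simp))) _
    have hs := sum_stChar_parabolic P (∅ : Finset P.S)
    rw [if_pos rfl] at hs
    rw [sum_subgroupOf hle (stChar P), hs,
      Nat.card_congr (Subgroup.subgroupOfEquivOfLe hle).toEquiv]
    have e1 : (((pJ P (↑(∅ : Finset P.S) : Set P.S)).subgroupOf (pJ P (↑J : Set P.S))).index : ℂ) ≠ 0 :=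
      Nat.cast_ne_zero.2 Subgroup.index_ne_zero_of_finite
    have e2 : (Nat.card ↥(pJ P (↑(∅ : Finset P.S) : Set P.S)) : ℂ) ≠ 0 := Nat.cast_ne_zero.2 Nat.card_pos.ne'
    field_simp
  · intro K hKJ hne
    rw [← Finset.mul_sum]
    have hle : pJ P (↑K : Set P.S) ≤ pJ P (↑J : Set P.S) :=
      sup_le_sup_left (Subgroup.closure_mono (Set.image_mono
        (Finset.coe_subset.2 (Finset.mem_powerset.1 hKJ)))) _
    have hs := sum_stChar_parabolic P K
    rw [if_neg hne] at hs
    have h0 : ∑ y : ↥(pJ P (↑J : Set P.S)), stChar P (y : G) *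
        Cfsg.fixedPointCharacter ((pJ P (↑K : Set P.S)).subgroupOf (pJ P (↑J : Set P.S))) y = 0 := by
      rw [sum_weight_fixed _ (fun y : ↥(pJ P (↑J : Set P.S)) => stChar P (y : G))
        (fun a b => by push_cast; exact stChar_class P _ _),
        sum_subgroupOf hle (stChar P), hs, mul_zero]
    rw [show (∑ y : ↥(pJ P (↑J : Set P.S)), stChar P (y : G) * ((-1 : ℂ) ^ K.card *
      Cfsg.fixedPointCharacter ((pJ P (↑K : Set P.S)).subgroupOf (pJ P (↑J : Set P.S))) y)) =
      (-1 : ℂ) ^ K.card * ∑ y : ↥(pJ P (↑J : Set P.S)), stChar P (y : G) *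
        Cfsg.fixedPointCharacter ((pJ P (↑K : Set P.S)).subgroupOf (pJ P (↑J : Set P.S))) y by
      rw [Finset.mul_sum]; exact Finset.sum_congr rfl fun y _ => by ring, h0, mul_zero, mul_zero]
  · exact fun h => absurd (Finset.empty_mem_powerset J) h

section

variable (R : Finset P.S → Subgroup G) (hR : ∀ J, R J ≤ pJ P (↑J : Set P.S))
  (hnorm : ∀ J : Finset P.S, ∀ x ∈ pJ P (↑J : Set P.S), ∀ y ∈ R J, x * y * x⁻¹ ∈ R J)
  (hK : ∀ J K : Finset P.S, K ⊆ J → R J ≤ pJ P (↑K : Set P.S))
  (hdeg : ∀ J : Finset P.S, (Nat.card (R J) : ℂ) *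
    StCount.altFix (fun K : Finset P.S => pJ P (↑K : Set P.S)) J 1 = stChar P 1)
  (p : ℕ) [Fact p.Prime] (hRp : ∀ J, IsPGroup p (R J))
  (hsing : ∀ x, p ∣ orderOf x → stChar P x = 0)

include hR hnorm hK in
theorem altFix_translate (J : Finset P.S) (x r : ↥(pJ P (↑J : Set P.S))) (hr : (r : G) ∈ R J) :
    (StCount.altFix (fun K : Finset P.S => pJ P (↑K : Set P.S))) J (x * r) = (StCount.altFix (fun K : Finset P.S => pJ P (↑K : Set P.S))) J x := by
  refine Finset.sum_congr rfl fun K hKJ => ?_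
  congr 1
  simp only [Cfsg.fixedPointCharacter, Nat.cast_inj]
  refine Nat.card_congr (Equiv.setCongr (Set.ext fun q => ?_))
  have hq : r • q = q := by
    induction q using QuotientGroup.induction_on with | H y => ?_
    refine QuotientGroup.eq.2 ?_
    show ((r * y)⁻¹ * y : ↥(pJ P (↑J : Set P.S))) ∈ _
    rw [Subgroup.mem_subgroupOf]
    have := hK J K (Finset.mem_powerset.1 hKJ) (hnorm J _ (inv_mem y.2) _ (inv_mem hr))
    simpa [mul_assoc] using this
  simp only [MulAction.mem_fixedBy, mul_smul, hq]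

include hR hnorm hK hdeg hRp hsing in
theorem avg [Fintype G] (J : Finset P.S) [Fintype (R J)] (x : G) (hx : x ∈ pJ P (↑J : Set P.S)) :
    ∑ r : R J, stChar P (x * r) = (Nat.card (R J) : ℂ) * (StCount.altFix (fun K : Finset P.S => pJ P (↑K : Set P.S))) J ⟨x, hx⟩ := by
  classical
  set ψ : ↥(pJ P (↑J : Set P.S)) → ℂ := (StCount.altFix (fun K : Finset P.S => pJ P (↑K : Set P.S))) J with hψdef
  have hψ : Cfsg.IsIrrCharacter ↥(pJ P (↑J : Set P.S)) ψ := by
    have e : ψ = stChar (subPair P (↑J : Set P.S)) := funext fun y => altFix_eq P J y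
    rw [e]; exact stChar_irr _
  obtain ⟨n, ρ, hρ, he⟩ := stChar_irr P
  have hχ : Cfsg.IsCharacter ↥(pJ P (↑J : Set P.S)) fun y => stChar P (y : G) :=
    Char.IsCharacter.restrict ⟨n, ρ, he⟩ _
  have hinner := inner_restrict P J
  obtain ⟨m, hm⟩ := Char.IsCharacter.exists_decomp hχ
  set ψ₀ : Cfsg.IrrCharacter ↥(pJ P (↑J : Set P.S)) := ⟨ψ, hψ⟩ with hψ₀
  have hm1 : (m ψ₀ : ℂ) = 1 := by
    have := Char.classInner_combination (fun η => (m η : ℂ)) ψ₀
    rw [← hm] at this; exact this.symm.trans hinner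
  set φ : ↥(pJ P (↑J : Set P.S)) → ℂ :=
    ∑ η ∈ Finset.univ.erase ψ₀, (m η : ℂ) • (η : ↥(pJ P (↑J : Set P.S)) → ℂ) with hφdef
  have hsplit : ∀ y : ↥(pJ P (↑J : Set P.S)), stChar P (y : G) = ψ y + φ y := by
    intro y
    have h := congrFun hm y
    rw [h, ← Finset.add_sum_erase Finset.univ _ (Finset.mem_univ ψ₀), hm1, one_smul]
    rfl
  have hφ : Cfsg.IsCharacter ↥(pJ P (↑J : Set P.S)) φ :=
    Char.isCharacter_sum _ fun η _ => by
      simpa using Char.IsCharacter.nsmul (Char.IsIrrCharacter.isCharacter η.2) (m η)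
  let R' : Subgroup ↥(pJ P (↑J : Set P.S)) := (R J).subgroupOf (pJ P (↑J : Set P.S))
  let eR : R' ≃ R J := (Subgroup.subgroupOfEquivOfLe (hR J)).toEquiv
  haveI : Fintype R' := Fintype.ofFinite _
  have hsum : ∀ y : ↥(pJ P (↑J : Set P.S)), ∑ r : R', φ (y * r) =
      (∑ r : R J, stChar P ((y : G) * r)) - (Nat.card (R J) : ℂ) * ψ y := by
    intro y
    have e1 : ∀ r : R', φ (y * r) = stChar P ((y : G) * (eR r : G)) - ψ y := by
      intro r
      have h := hsplit (y * r)
      rw [Subgroup.coe_mul] at h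
      have h2 : ψ (y * r) = ψ y :=
        altFix_translate P R hR hnorm hK J y r (Subgroup.mem_subgroupOf.1 r.2)
      have e2 : ((eR r : R J) : G) = ((r : ↥(pJ P (↑J : Set P.S))) : G) := rfl
      rw [e2]
      linear_combination -h + (-h2)
    rw [Finset.sum_congr rfl fun r _ => e1 r, Finset.sum_sub_distrib, Finset.sum_const,
      nsmul_eq_mul, Finset.card_univ, ← Nat.card_eq_fintype_card, Nat.card_congr eR,
      Equiv.sum_comp eR fun r : R J => stChar P ((y : G) * r)]
  have h1 : ∑ r : R', φ r = 0 := by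
    have h := hsum 1
    simp only [one_mul, OneMemClass.coe_one] at h
    rw [h, Finset.sum_eq_single (1 : R J)]
    · rw [OneMemClass.coe_one, hdeg J, sub_self]
    · intro r _ hr
      refine hsing _ ?_
      rw [Subgroup.orderOf_coe]
      obtain ⟨k, hk⟩ := IsPGroup.iff_orderOf.1 (hRp J) r
      rw [hk]
      refine dvd_pow_self p ?_
      rintro rfl
      exact hr (orderOf_eq_one_iff.1 (by rw [hk, pow_zero]))
    · exact fun h => absurd (Finset.mem_univ _) h
  have h2 := coset_sum_zero hφ R' h1 ⟨x, hx⟩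
  rw [hsum] at h2
  exact sub_eq_zero.1 h2

include hR hnorm hK hdeg hRp hsing in
/-- The value of the Steinberg character at a semisimple element. -/
theorem stChar_semisimple (hdegree : stChar P 1 = ((p ^ (Nat.card G).factorization p : ℕ) : ℂ))
    {g : G} (hg : ¬ p ∣ orderOf g) :
    stChar P g = ((p ^ (Nat.card ↥(Subgroup.centralizer ({g} : Set G))).factorization p : ℕ) : ℂ) ∨
    stChar P g = -((p ^ (Nat.card ↥(Subgroup.centralizer ({g} : Set G))).factorization p : ℕ) : ℂ) := by
  classical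
  haveI := Fintype.ofFinite G
  have hp : p.Prime := Fact.out
  -- a minimal parabolic containing a conjugate
  obtain ⟨J, ⟨y, hy⟩, hmin⟩ := exists_minimalFor_of_wellFoundedLT
    (fun J : Finset P.S => ∃ y, y * g * y⁻¹ ∈ pJ P (↑J : Set P.S)) Finset.card
    ⟨Finset.univ, 1, by rw [parabolic_univ]; trivial⟩
  set g' := y * g * y⁻¹ with hg'
  have hord : orderOf g' = orderOf g :=
    orderOf_injective (MulAut.conj y).toMonoidHom (MulAut.conj y).injective g
  have hell : (StCount.altFix (fun K : Finset P.S => pJ P (↑K : Set P.S))) J ⟨g', hy⟩ = (-1 : ℂ) ^ J.card := by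
    rw [StCount.altFix, Finset.sum_eq_single J]
    · have : Cfsg.fixedPointCharacter
          ((pJ P (↑J : Set P.S)).subgroupOf (pJ P (↑J : Set P.S))) (⟨g', hy⟩ : ↥(pJ P (↑J : Set P.S))) = 1 := by
        rw [Cfsg.fixedPointCharacter, Nat.cast_eq_one, Nat.card_eq_one_iff_unique]
        refine ⟨⟨fun a b => Subtype.ext ?_⟩, ⟨⟨((1 : ↥(pJ P (↑J : Set P.S))) : _ ⧸ _), ?_⟩⟩⟩
        · obtain ⟨a, -⟩ := a
          obtain ⟨b, -⟩ := b
          induction a using QuotientGroup.induction_on with | H a => ?_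
          induction b using QuotientGroup.induction_on with | H b => ?_
          exact QuotientGroup.eq.2 (Subgroup.mem_subgroupOf.2 (a⁻¹ * b).2)
        · exact QuotientGroup.eq.2 (Subgroup.mem_subgroupOf.2 (Subtype.coe_prop _))
      rw [this, mul_one]
    · intro K hKJ hne
      have hsub := Finset.mem_powerset.1 hKJ
      have : Cfsg.fixedPointCharacter
          ((pJ P (↑K : Set P.S)).subgroupOf (pJ P (↑J : Set P.S))) (⟨g', hy⟩ : ↥(pJ P (↑J : Set P.S))) = 0 := by
        rw [Cfsg.fixedPointCharacter, Nat.cast_eq_zero, Nat.card_eq_zero]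
        refine Or.inl ⟨fun ⟨q, hq⟩ => ?_⟩
        induction q using QuotientGroup.induction_on with | H z => ?_
        have hz := Subgroup.mem_subgroupOf.1 (QuotientGroup.eq.1 hq)
        have hlt : K.card < J.card :=
          Finset.card_lt_card (lt_of_le_of_ne hsub hne)
        refine absurd (hmin (j := K) ⟨(z : G)⁻¹ * y, ?_⟩ hlt.le) (not_le.2 hlt)
        have := inv_mem hz
        simpa [hg', mul_assoc] using this
      rw [this, mul_zero]
    · exact fun h => absurd (Finset.mem_powerset_self J) h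
  -- the coset sum
  set C := Subgroup.centralizer ({g'} : Set G) with hC
  have hgn : g' ∈ Subgroup.normalizer (R J : Set G) :=
    Subgroup.mem_normalizer_fintype fun r hr => hnorm J _ hy r hr
  have hcop : Nat.Coprime (orderOf g') (Nat.card (R J)) := by
    obtain ⟨k, hk⟩ := IsPGroup.iff_card.1 (hRp J)
    rw [hk, hord]
    exact ((hp.coprime_iff_not_dvd.2 hg).pow_left k).symm
  let φ : R J → R J := fun r => ⟨g'⁻¹ * r * g' * (r : G)⁻¹, mul_mem (by
    simpa using hnorm J _ (inv_mem hy) _ r.2) (inv_mem r.2)⟩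
  have hφ : ∀ r, g' * (φ r : G) = r * g' * (r : G)⁻¹ := fun r => by simp [φ, mul_assoc]
  have hA : stChar P g' = (Nat.card ↥((R J) ⊓ C : Subgroup G) : ℂ) * (StCount.altFix (fun K : Finset P.S => pJ P (↑K : Set P.S))) J ⟨g', hy⟩ := by
    have h1 : ∑ r : R J, stChar P (g' * (φ r : G)) = (Nat.card (R J) : ℂ) * stChar P g' := by
      rw [Finset.sum_congr rfl fun r _ => by rw [hφ r, stChar_class P], Finset.sum_const,
        nsmul_eq_mul, Finset.card_univ, Nat.card_eq_fintype_card]
    have hfib : ∀ s ∈ Finset.univ.image φ, (Finset.univ.filter fun r => φ r = s).card =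
        Nat.card ↥((R J) ⊓ C : Subgroup G) := by
      intro s hs
      obtain ⟨r₀, -, rfl⟩ := Finset.mem_image.1 hs
      rw [← Fintype.card_subtype, ← Nat.card_eq_fintype_card]
      have hmem : ∀ r : R J, φ r = φ r₀ ↔ (r₀ : G)⁻¹ * r ∈ C := by
        intro r
        rw [hC, Subgroup.mem_centralizer_singleton_iff, ← Subtype.coe_inj,
          ← mul_left_cancel_iff (a := g'), hφ, hφ]
        constructor
        · intro h
          calc (r₀ : G)⁻¹ * r * g' = (r₀ : G)⁻¹ * (r * g' * (r : G)⁻¹) * r := by group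
            _ = (r₀ : G)⁻¹ * (r₀ * g' * (r₀ : G)⁻¹) * r := by rw [h]
            _ = g' * ((r₀ : G)⁻¹ * r) := by group
        · intro h
          calc (r : G) * g' * (r : G)⁻¹ = r₀ * ((r₀ : G)⁻¹ * r * g') * (r : G)⁻¹ := by group
            _ = r₀ * (g' * ((r₀ : G)⁻¹ * r)) * (r : G)⁻¹ := by rw [h]
            _ = _ := by group
      exact Nat.card_congr
        ⟨fun r => ⟨(r₀ : G)⁻¹ * r.1, Subgroup.mem_inf.2 ⟨(R J).mul_mem ((R J).inv_mem r₀.2) r.1.2, (hmem _).1 r.2⟩⟩,
          fun c => ⟨r₀ * ⟨c.1, (Subgroup.mem_inf.1 c.2).1⟩, (hmem _).2 (by simpa using (Subgroup.mem_inf.1 c.2).2)⟩,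
          fun r => Subtype.ext (Subtype.ext (by simp)), fun c => Subtype.ext (by simp)⟩
    have h2 : ∑ r : R J, stChar P (g' * (φ r : G)) =
        (Nat.card ↥((R J) ⊓ C : Subgroup G) : ℂ) * ∑ s : R J, stChar P (g' * (s : G)) := by
      rw [Finset.sum_comp (fun s : R J => stChar P (g' * (s : G))) φ,
        Finset.sum_congr rfl fun s hs => by rw [hfib s hs], Finset.mul_sum]
      simp only [nsmul_eq_mul]
      refine Finset.sum_subset (Finset.subset_univ _) fun s _ hs => ?_
      by_cases hd : p ∣ orderOf (g' * (s : G))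
      · rw [hsing _ hd, mul_zero]
      exfalso
      apply hs
      have hs' : g' * (s : G) * g'⁻¹ ∈ R J := hnorm J _ hy _ s.2
      obtain ⟨a, ha, c, hc, hcg, hac⟩ := Char.exists_coprime_conj (R J) hgn hcop hs'
      rw [inv_mul_cancel_right] at hac
      have hc1 : c = 1 := by
        have hordc : orderOf (c * g') = orderOf (g' * (s : G)) := by
          rw [← hac]
          exact orderOf_injective (MulAut.conj a).toMonoidHom (MulAut.conj a).injective _
        have hcomm : Commute c g' := hcg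
        obtain ⟨k, hk⟩ := IsPGroup.iff_orderOf.1 (hRp J) ⟨c, hc⟩
        rw [Subgroup.orderOf_mk] at hk
        have hco : Nat.Coprime (orderOf c) (orderOf g') := by
          rw [hk, hord]; exact (hp.coprime_iff_not_dvd.2 hg).pow_left k
        rw [hcomm.orderOf_mul_eq_mul_orderOf_of_coprime hco, hk] at hordc
        by_contra hne
        refine hd (hordc ▸ Dvd.dvd.mul_right (dvd_pow_self p ?_) _)
        rintro rfl
        exact hne (orderOf_eq_one_iff.1 (by rw [hk, pow_zero]))
      rw [hc1, one_mul] at hac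
      refine Finset.mem_image.2 ⟨⟨a⁻¹, inv_mem ha⟩, Finset.mem_univ _, ?_⟩
      refine Subtype.ext (mul_left_cancel (a := g') ?_)
      rw [hφ]
      show a⁻¹ * g' * (a⁻¹)⁻¹ = g' * (s : G)
      conv_lhs => arg 1; arg 2; rw [← hac]
      group
    rw [h1, avg P R hR hnorm hK hdeg p hRp hsing J g' hy] at h2
    have hne : (Nat.card (R J) : ℂ) ≠ 0 := Nat.cast_ne_zero.2 Nat.card_pos.ne'
    refine mul_left_cancel₀ hne ?_
    rw [h2]; ring
  rw [hell] at hA
  -- the power of `p`
  obtain ⟨i, hi⟩ := IsPGroup.iff_card.1 ((hRp J).to_le (inf_le_left : R J ⊓ C ≤ R J))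
  rw [hi] at hA
  have hCg : Nat.card ↥(Subgroup.centralizer ({g} : Set G)) = Nat.card C := by
    refine Nat.card_congr ((MulAut.conj y).toEquiv.subtypeEquiv fun z => ?_)
    show z ∈ Subgroup.centralizer ({g} : Set G) ↔ y * z * y⁻¹ ∈ C
    rw [hC, Subgroup.mem_centralizer_singleton_iff, Subgroup.mem_centralizer_singleton_iff, hg']
    constructor
    · intro h
      calc y * z * y⁻¹ * (y * g * y⁻¹) = y * (z * g) * y⁻¹ := by group
        _ = y * (g * z) * y⁻¹ := by rw [h]
        _ = _ := by group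
    · intro h
      calc z * g = y⁻¹ * (y * z * y⁻¹ * (y * g * y⁻¹)) * y := by group
        _ = y⁻¹ * (y * g * y⁻¹ * (y * z * y⁻¹)) * y := by rw [h]
        _ = _ := by group
  rw [hCg]
  set a := (Nat.card C).factorization p with ha
  have hia : i ≤ a := by
    rw [ha, ← hp.pow_dvd_iff_le_factorization Nat.card_pos.ne', ← hi]
    exact Subgroup.card_dvd_of_le inf_le_right
  have hai : a ≤ i := by
    have hω := Char.IsIrrCharacter.isIntegral_centralChar (stChar_irr P) g'
    rw [← hC, hA, hdegree] at hω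
    set N := (Nat.card G).factorization p with hN
    have h2 : IsIntegral ℤ (((C.index * p ^ i : ℕ) : ℂ) / ((p ^ N : ℕ) : ℂ)) := by
      have := hω.mul (isIntegral_one.neg.pow J.card)
      refine (?_ : ((C.index * p ^ i : ℕ) : ℂ) / ((p ^ N : ℕ) : ℂ) = _) ▸ this
      push_cast
      rcases neg_one_pow_eq_or ℂ J.card with h | h <;> rw [h] <;> ring
    have h3 : p ^ N ∣ C.index * p ^ i := Char.dvd_of_isIntegral_div (pow_ne_zero _ hp.ne_zero) h2
    have hidx : C.index ≠ 0 := Subgroup.index_ne_zero_of_finite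
    have h4 : N ≤ C.index.factorization p + i := by
      have := (hp.pow_dvd_iff_le_factorization (mul_ne_zero hidx (pow_ne_zero _ hp.ne_zero))).1 h3
      rwa [Nat.factorization_mul hidx (pow_ne_zero _ hp.ne_zero), Finsupp.add_apply,
        Nat.factorization_pow, Finsupp.smul_apply, hp.factorization_self, smul_eq_mul, mul_one] at this
    have h5 : N = a + C.index.factorization p := by
      rw [hN, ← Subgroup.card_mul_index C, Nat.factorization_mul Nat.card_pos.ne' hidx,
        Finsupp.add_apply]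
    omega
  obtain rfl : i = a := le_antisymm hia hai
  rw [← stChar_class P g y, ← hg', hA]
  rcases neg_one_pow_eq_or ℂ J.card with h | h <;> rw [h]
  · left; simp
  · right; simp

end

end Cfsg.Agent.BN
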