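import Cfsg.Agent.Lib.Steinberg.UnipotentCount
import Cfsg.Agent.Lib.Steinberg.Semisimple

/-!
# The Steinberg character of a Chevalley group at semisimple elements
-/

set_option autoImplicit false

namespace Cfsg.Agent.Chev

open Cfsg.Lie

universe v

namespace Tab

variable {T : Tab} {K : List (List ℕ)} {F : Type v} [Field F]

/-- the set of fundamental roots belonging to a set of fundamental reflections -/
def idxS (g : T.GoodA) (F : Type v) [Field F] (J : Finset (bnPair g F).S) : Set ℕ :=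
  {i | ∃ h : i < T.l, sGenBN g F ⟨i, h⟩ ∈ J}

theorem parabolic_idxS (g : T.GoodA) (J : Finset (bnPair g F).S) :
    (T.D.parabolicSubgroup F (idxS g F J)).subgroupOf (T.D.group F) =
      BN.pJ (bnPair g F) (↑J : Set (bnPair g F).S) := by
  have h := parabolic_eq_bn (F := F) g {i | sGenBN g F i ∈ J}
  rw [show sGenBN g F '' {i | sGenBN g F i ∈ J} = (↑J : Set (bnPair g F).S) from by
    ext s
    obtain ⟨i, rfl⟩ := (sGen_bijective g).2 s
    simp [(sGen_bijective g).1.eq_iff]] at h
  refine Eq.trans ?_ h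
  congr 2
  ext i
  simp only [idxS, Set.mem_setOf_eq, Set.mem_image]
  exact ⟨fun ⟨hi, h⟩ => ⟨⟨i, hi⟩, h, rfl⟩, fun ⟨j, hj, e⟩ => e ▸ ⟨j.2, hj⟩⟩

/-- the unipotent radical of a standard parabolic subgroup -/
noncomputable def radS (g : T.GoodA) (F : Type v) [Field F] (J : Finset (bnPair g F).S) :
    Subgroup ↥(T.D.group F) :=
  (genS g.toGood F (T.outJ (idxS g F J))).subgroupOf (T.D.group F)

theorem radS_normal (g : T.GoodK K) (J : Finset (bnPair g.toGoodA F).S) :
    ∀ x ∈ BN.pJ (bnPair g.toGoodA F) (↑J : Set (bnPair g.toGoodA F).S),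
      ∀ y ∈ radS g.toGoodA F J, x * y * x⁻¹ ∈ radS g.toGoodA F J := by
  intro x hx y hy
  rw [← parabolic_idxS, Subgroup.mem_subgroupOf] at hx
  rw [radS, Subgroup.mem_subgroupOf] at hy ⊢
  simpa using (Subgroup.mem_normalizer_iff.1 (parabolic_normalizes g _ hx) y).1 hy

theorem radS_le_posU (g : T.GoodA) (J : Finset (bnPair g F).S) :
    radS g F J ≤ (T.D.posUnipotent F).subgroupOf (T.D.group F) := fun x hx => by
  rw [radS, Subgroup.mem_subgroupOf] at hx
  rw [Subgroup.mem_subgroupOf, posUnipotent_eq g.toGood]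
  exact genS_mono g.toGood outJ_pos hx

theorem radS_le_borel (g : T.GoodA) (J : Finset (bnPair g F).S) : radS g F J ≤ (bnPair g F).B :=
  fun _ hx => Subgroup.mem_subgroupOf.2 (Subgroup.mem_sup_left
    (Subgroup.mem_subgroupOf.1 (radS_le_posU g J hx)))

theorem radS_pgroup [Fintype F] (g : T.GoodA) (p : ℕ) [Fact p.Prime] [CharP F p]
    (J : Finset (bnPair g F).S) : IsPGroup p (radS g F J) := by
  obtain ⟨S, hS⟩ := exists_sylow_posU (F := F) g p
  exact S.2.to_le (hS.symm ▸ radS_le_posU g J)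

theorem card_radS_mul [Fintype F] (g : T.GoodA) (J : Finset (bnPair g F).S) :
    Nat.card (radS g F J) *
      ((sdT g.toGood F (T.outJ (idxS g F J))).subgroupOf (T.D.group F)).relIndex (bnPair g F).B =
      Fintype.card F ^ T.N := by
  have hg := g.toGood
  set H := (sdT hg F (T.outJ (idxS g F J))).subgroupOf (T.D.group F) with hH
  have hleB : H ≤ (bnPair g F).B := fun x hx => by
    rw [hH, Subgroup.mem_subgroupOf] at hx
    refine Subgroup.mem_subgroupOf.2 ?_
    rw [borel_eq_sdT hg]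
    exact (sup_le_sup_right (genS_mono hg outJ_pos) _ : sdT hg F _ ≤ _) hx
  have h := Subgroup.card_mul_index (H.subgroupOf (bnPair g F).B)
  rw [Nat.card_congr (Subgroup.subgroupOfEquivOfLe hleB).toEquiv] at h
  have hle : sdT hg F (T.outJ (idxS g F J)) ≤ T.D.group F :=
    sup_le (genS_le hg fun r _ t => xg_mem_group hg r t)
      ((le_sup_right : T.D.diagonalSubgroup F ≤ T.D.borelSubgroup F).trans (borel_le_group hg))
  have e1 : Nat.card H = Nat.card (radS g F J) * Nat.card (T.D.diagonalSubgroup F) := by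
    rw [hH, radS, Nat.card_congr (Subgroup.subgroupOfEquivOfLe hle).toEquiv, card_sdT hg outJ_pos,
      Nat.card_congr (Subgroup.subgroupOfEquivOfLe
        (genS_le hg (S := T.outJ (idxS g F J)) fun r _ t => xg_mem_group hg r t)).toEquiv]
  have e2 : Nat.card (bnPair g F).B = Fintype.card F ^ T.N * Nat.card (T.D.diagonalSubgroup F) := by
    show Nat.card ((T.D.borelSubgroup F).subgroupOf (T.D.group F)) = _
    rw [Nat.card_congr (Subgroup.subgroupOfEquivOfLe (borel_le_group hg)).toEquiv, borel_eq_sdT hg,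
      card_sdT hg subset_rfl, card_pos g]
  rw [e1, e2] at h
  exact mul_right_cancel₀ (Nat.card_pos (α := T.D.diagonalSubgroup F)).ne'
    (by rw [← h, Subgroup.relIndex]; ring)

theorem altFix_one [Fintype F] (g : T.GoodK K) [DecidableEq (bnPair g.toGoodA F).S]
    (J : Finset (bnPair g.toGoodA F).S) :
    StCount.altFix (fun K : Finset (bnPair g.toGoodA F).S => BN.pJ (bnPair g.toGoodA F) (↑K : Set _)) J 1 =
      ((((sdT g.toGood F (T.outJ (idxS g.toGoodA F J))).subgroupOf (T.D.group F)).relIndex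
        (bnPair g.toGoodA F).B : ℕ) : ℂ) := by
  classical
  have hg := g.toGood
  let P := bnPair g.toGoodA F
  obtain ⟨n, hnN, hnP, htop, hH⟩ := exists_parabolic_rep (F := F) g (idxS g.toGoodA F J)
  let n' : ↥(T.D.group F) := ⟨n, monomial_le_group hg hnN⟩
  have hnJ : n' ∈ BN.pJ P (↑J : Set P.S) := by rw [← parabolic_idxS]; exact hnP
  have htop' : ∀ s ∈ J, ∃ b ∈ P.B, n' * b * (s : ↥(T.D.group F)) ∈ BN.dc P n' := by
    intro s hs
    obtain ⟨i, rfl⟩ := (sGen_bijective g.toGoodA).2 s
    obtain ⟨b, hb, a, ha, c, hc, e⟩ := htop i i.2 ⟨i.2, hs⟩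
    exact ⟨⟨b, borel_le_group hg hb⟩, hb, DoubleCoset.mem_doubleCoset.2
      ⟨⟨a, borel_le_group hg ha⟩, ha, ⟨c, borel_le_group hg hc⟩, hc, Subtype.ext e⟩⟩
  have hH' : P.B ⊓ P.B.map (MulAut.conj n').toMonoidHom =
      (sdT hg F (T.outJ (idxS g.toGoodA F J))).subgroupOf (T.D.group F) := by
    ext z
    simp only [← hH, Subgroup.mem_inf, Subgroup.mem_subgroupOf, Subgroup.mem_map_equiv,
      MulAut.conj_symm_apply]
    exact Iff.rfl
  have h := (BN.altFix_borel P J (n := n') hnN hnJ htop' _ hH' 1 (one_mem _)).1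
    fun z _ => by simp
  convert h

theorem steinberg_semisimple [Fintype F] (g : T.GoodK K) (p : ℕ) [Fact p.Prime] [CharP F p]
    {x : ↥(T.D.group F)} (hx : ¬ p ∣ orderOf x) :
    T.D.steinbergCharacter F x =
        ((p ^ (Nat.card ↥(Subgroup.centralizer ({x} : Set ↥(T.D.group F)))).factorization p : ℕ) : ℂ) ∨
      T.D.steinbergCharacter F x =
        -((p ^ (Nat.card ↥(Subgroup.centralizer ({x} : Set ↥(T.D.group F)))).factorization p : ℕ) : ℂ) := by
  classical
  set gA := g.toGoodA with hgA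
  rw [steinberg_eq gA]
  refine BN.stChar_semisimple (bnPair gA F) (radS gA F)
    (fun J => (radS_le_borel gA J).trans (BN.B_le_parabolic _ _))
    (radS_normal g)
    (fun J K _ => (radS_le_borel gA J).trans (BN.B_le_parabolic _ _))
    (fun J => ?_) p (radS_pgroup gA p)
    (fun y hy => by rw [← steinberg_eq gA]; exact steinberg_singular gA p hy) ?_ hx
  · rw [altFix_one g J, ← steinberg_eq gA, steinberg_one gA, ← Nat.cast_mul, card_radS_mul gA J,
      Nat.cast_pow]
  · rw [← steinberg_eq gA, steinberg_one gA, sylow_pow gA p, Nat.cast_pow]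

end Tab

end Cfsg.Agent.Chev
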