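import Cfsg.Prelude.Def_ParabolicCharacters
import Mathlib.GroupTheory.Index
import Mathlib.Algebra.BigOperators.Ring.Finset
import Mathlib.Data.Nat.Choose.Sum
import Mathlib.GroupTheory.OrderOfElement

/-!
# Counting elements through an alternating sum over a lattice of subgroups
-/

set_option autoImplicit false

namespace Cfsg.Agent.StCount

open Finset

variable {G : Type*} [Group G] [Finite G]

theorem sum_fixed (L : Subgroup G) (p : G → Prop) [DecidablePred p] [Fintype G]
    (hp : ∀ x y, p x → p (y * x * y⁻¹)) :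
    ∑ x : G, (if p x then Nat.card (MulAction.fixedBy (G ⧸ L) x) else 0) =
      L.index * Nat.card {x : G // x ∈ L ∧ p x} := by
  classical
  haveI : Fintype (G ⧸ L) := Fintype.ofFinite _
  have h : ∀ x : G, Nat.card (MulAction.fixedBy (G ⧸ L) x) =
      ∑ q : G ⧸ L, if x • q = q then 1 else 0 := fun x => by
    rw [Finset.sum_boole, Nat.cast_id, ← Fintype.card_subtype, ← Nat.card_eq_fintype_card]
    rfl
  have hfib : ∀ q : G ⧸ L, ∑ x : G, (if p x then (if x • q = q then 1 else 0) else 0) =
      Nat.card {x : G // x ∈ L ∧ p x} := by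
    intro q
    rw [Nat.card_eq_fintype_card, Fintype.card_subtype, Finset.card_filter,
      ← Equiv.sum_comp (MulAut.conj q.out).toEquiv]
    refine Finset.sum_congr rfl fun x _ => ?_
    have hiff : (q.out * x * q.out⁻¹) • q = q ↔ x ∈ L := by
      conv_lhs => arg 1; arg 2; rw [← QuotientGroup.out_eq' q]
      conv_lhs => rhs; rw [← QuotientGroup.out_eq' q]
      rw [MulAction.Quotient.smul_coe, smul_eq_mul, QuotientGroup.eq,
        show (q.out * x * q.out⁻¹ * q.out)⁻¹ * q.out = x⁻¹ by group, inv_mem_iff]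
    have hpiff : p (q.out * x * q.out⁻¹) ↔ p x :=
      ⟨fun h => by simpa [mul_assoc] using hp _ q.out⁻¹ h, hp x _⟩
    show (if p (q.out * x * q.out⁻¹) then (if (q.out * x * q.out⁻¹) • q = q then 1 else 0) else 0) = _
    simp only [hiff, hpiff]
    split_ifs <;> simp_all
  simp only [h]
  have e : ∀ x : G, (if p x then ∑ q : G ⧸ L, (if x • q = q then 1 else 0) else 0) =
      ∑ q : G ⧸ L, (if p x then (if x • q = q then 1 else 0) else 0) := fun x => by
    split_ifs <;> simp
  rw [Finset.sum_congr rfl fun x _ => e x, Finset.sum_comm, Finset.sum_congr rfl fun q _ => hfib q,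
    Finset.sum_const, smul_eq_mul, Finset.card_univ, Subgroup.index, Nat.card_eq_fintype_card (α := G ⧸ L)]

variable {ι : Type*} [DecidableEq ι]

/-- the alternating fixed point sum below `J` -/
noncomputable def altFix (PS : Finset ι → Subgroup G) (J : Finset ι) (x : ↥(PS J)) : ℂ :=
  ∑ K ∈ J.powerset, (-1 : ℂ) ^ K.card * Cfsg.fixedPointCharacter ((PS K).subgroupOf (PS J)) x

theorem altFix_conj (PS : Finset ι → Subgroup G) (J : Finset ι) (x y : ↥(PS J)) :
    altFix PS J (y * x * y⁻¹) = altFix PS J x := by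
  refine Finset.sum_congr rfl fun L _ => ?_
  congr 1
  simp only [Cfsg.fixedPointCharacter, Nat.cast_inj]
  exact (Nat.card_congr ((MulAction.toPerm y).subtypeEquiv fun q => by
    simp [MulAction.mem_fixedBy, mul_smul])).symm

open Classical in
theorem count (PS : Finset ι → Subgroup G) (hmono : ∀ J K, K ⊆ J → PS K ≤ PS J)
    (p : G → Prop) (hp : ∀ x y, p x → p (y * x * y⁻¹)) (h1 : p 1)
    (R : Finset ι → Subgroup G) (hR : ∀ J, R J ≤ PS J) (hRp : ∀ J, ∀ x ∈ R J, p x)
    (d : Finset ι → ℕ) (Q : ℕ) (hQ : ∀ J, Nat.card (R J) * d J = Q)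
    (hval : ∀ J (x : ↥(PS J)), p (x : G) → altFix PS J x = if (x : G) ∈ R J then (d J : ℂ) else 0)
    (J : Finset ι) : Nat.card {x : G // x ∈ PS J ∧ p x} = Q * d J := by
  haveI := Fintype.ofFinite G
  let f : Finset ι → ℂ := fun K => (Nat.card {x : G // x ∈ PS K ∧ p x} : ℂ)
  let A : Finset ι → ℂ := fun K => ((Nat.card (PS K) : ℂ))⁻¹
  have hA : ∀ K, (Nat.card (PS K) : ℂ) ≠ 0 := fun K => Nat.cast_ne_zero.2 Nat.card_pos.ne'
  have hidx : ∀ J K, K ⊆ J → (((PS K).subgroupOf (PS J)).index : ℂ) = A K / A J := by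
    intro J K hK
    have h := Subgroup.card_mul_index ((PS K).subgroupOf (PS J))
    rw [Nat.card_congr (Subgroup.subgroupOfEquivOfLe (hmono J K hK)).toEquiv] at h
    have h' : (Nat.card (PS K) : ℂ) * (((PS K).subgroupOf (PS J)).index : ℂ) = Nat.card (PS J) := by
      exact_mod_cast h
    have := hA K
    have := hA J
    simp only [A]
    field_simp
    linear_combination h'
  have E1 : ∀ J, ∑ K ∈ J.powerset, (-1 : ℂ) ^ K.card * A K = (d J : ℂ) * A J := by
    intro J
    have h := hval J 1 (by simpa using h1)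
    rw [if_pos (by simp), altFix] at h
    have hfix : ∀ K ∈ J.powerset, Cfsg.fixedPointCharacter ((PS K).subgroupOf (PS J)) (1 : ↥(PS J)) =
        A K / A J := by
      intro K hK
      rw [← hidx J K (Finset.mem_powerset.1 hK), Cfsg.fixedPointCharacter, Subgroup.index,
        Nat.cast_inj]
      exact Nat.card_congr ((Equiv.setCongr (by ext x; simp)).trans (Equiv.Set.univ _))
    rw [Finset.sum_congr rfl fun K hK => by rw [hfix K hK]] at h
    have hAJ : A J ≠ 0 := inv_ne_zero (hA J)
    rw [← h, Finset.sum_mul]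
    refine Finset.sum_congr rfl fun K _ => ?_
    field_simp
  have E2 : ∀ J, ∑ K ∈ J.powerset, (-1 : ℂ) ^ K.card * (A K * (d K : ℂ)) = A J := by
    intro J
    have step : ∀ K ∈ J.powerset, (-1 : ℂ) ^ K.card * (A K * (d K : ℂ)) =
        ∑ L ∈ J.powerset, if L ⊆ K then (-1 : ℂ) ^ K.card * ((-1 : ℂ) ^ L.card * A L) else 0 := by
      intro K hK
      rw [mul_comm (A K), ← E1 K, Finset.mul_sum, ← Finset.sum_filter]
      refine Finset.sum_congr ?_ fun L _ => rfl
      ext L
      simp only [Finset.mem_powerset, Finset.mem_filter]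
      exact ⟨fun h => ⟨h.trans (Finset.mem_powerset.1 hK), h⟩, fun h => h.2⟩
    rw [Finset.sum_congr rfl step, Finset.sum_comm]
    have inner : ∀ L ∈ J.powerset,
        ∑ K ∈ J.powerset, (if L ⊆ K then (-1 : ℂ) ^ K.card * ((-1 : ℂ) ^ L.card * A L) else 0) =
          if L = J then A J else 0 := by
      intro L hL
      have hLJ := Finset.mem_powerset.1 hL
      rw [← Finset.sum_filter, ← Finset.sum_mul]
      have hbij : ∑ K ∈ J.powerset.filter (fun K => L ⊆ K), (-1 : ℂ) ^ K.card =
          ∑ M ∈ (J \ L).powerset, (-1 : ℂ) ^ (L.card + M.card) := by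
        refine (Finset.sum_bij' (fun M _ => L ∪ M) (fun K _ => K \ L) ?_ ?_ ?_ ?_ ?_).symm
        · intro M hM
          simp only [Finset.mem_powerset, Finset.subset_sdiff] at hM
          simp [Finset.union_subset_iff, hLJ, hM.1]
        · intro K hK
          simp only [Finset.mem_filter, Finset.mem_powerset] at hK ⊢
          exact Finset.sdiff_subset_sdiff hK.1 le_rfl
        · intro M hM
          simp only [Finset.mem_powerset, Finset.subset_sdiff] at hM
          rw [Finset.union_sdiff_left]
          exact Finset.sdiff_eq_self_of_disjoint hM.2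
        · intro K hK
          simp only [Finset.mem_filter, Finset.mem_powerset] at hK
          exact Finset.union_sdiff_of_subset hK.2
        · intro M hM
          simp only [Finset.mem_powerset, Finset.subset_sdiff] at hM
          rw [Finset.card_union_of_disjoint hM.2.symm]
      rw [hbij]
      simp only [pow_add, ← Finset.mul_sum]
      have hz : ∑ M ∈ (J \ L).powerset, (-1 : ℂ) ^ M.card = if L = J then 1 else 0 := by
        have := congrArg (fun z : ℤ => (z : ℂ)) (Finset.sum_powerset_neg_one_pow_card (x := J \ L))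
        simp only [Int.cast_sum, Int.cast_pow, Int.cast_neg, Int.cast_one,
          apply_ite (fun z : ℤ => (z : ℂ)), Int.cast_zero] at this
        rw [this]
        refine if_congr ?_ rfl rfl
        rw [Finset.sdiff_eq_empty_iff_subset]
        exact ⟨fun h => le_antisymm hLJ h, fun h => h.ge⟩
      rw [hz]
      split_ifs with hL'
      · subst hL'
        rw [mul_one, ← mul_assoc, ← pow_add, Even.neg_one_pow ⟨_, rfl⟩, one_mul]
      · simp
    rw [Finset.sum_congr rfl inner]
    simp
  have E3 : ∀ J, ∑ K ∈ J.powerset, (-1 : ℂ) ^ K.card * (A K * f K) = A J * (Q : ℂ) := by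
    intro J
    haveI : Fintype ↥(PS J) := Fintype.ofFinite _
    have hL : ∀ K ∈ J.powerset, ∑ x : ↥(PS J), (if p (x : G) then
        Cfsg.fixedPointCharacter ((PS K).subgroupOf (PS J)) x else 0) = A K / A J * f K := by
      intro K hK
      have hKJ := hmono J K (Finset.mem_powerset.1 hK)
      have h := sum_fixed ((PS K).subgroupOf (PS J)) (fun x : ↥(PS J) => p (x : G))
        fun x y hx => by simpa using hp (x : G) (y : G) hx
      have hc : Nat.card {x : ↥(PS J) // x ∈ (PS K).subgroupOf (PS J) ∧ p (x : G)} =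
          Nat.card {x : G // x ∈ PS K ∧ p x} := Nat.card_congr
        ⟨fun x => ⟨x.1.1, x.2.1, x.2.2⟩, fun x => ⟨⟨x.1, hKJ x.2.1⟩, x.2.1, x.2.2⟩,
          fun _ => rfl, fun _ => rfl⟩
      rw [hc] at h
      have h' := congrArg (fun n : ℕ => (n : ℂ)) h
      simp only [Nat.cast_sum, Nat.cast_mul, hidx J K (Finset.mem_powerset.1 hK)] at h'
      rw [← h']
      refine Finset.sum_congr rfl fun x _ => ?_
      split_ifs <;> simp [Cfsg.fixedPointCharacter]
    have hR' : ∑ x : ↥(PS J), (if p (x : G) then altFix PS J x else 0) = (Q : ℂ) := by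
      have e : ∀ x : ↥(PS J), (if p (x : G) then altFix PS J x else 0) =
          (if (x : G) ∈ R J then (d J : ℂ) else 0) := by
        intro x
        by_cases hx : p (x : G)
        · rw [if_pos hx, hval J x hx]
        · rw [if_neg hx, if_neg fun h => hx (hRp J _ h)]
      rw [Finset.sum_congr rfl fun x _ => e x, ← Finset.sum_filter, Finset.sum_const, nsmul_eq_mul,
        ← hQ J, Nat.cast_mul]
      congr 2
      rw [← Fintype.card_subtype, ← Nat.card_eq_fintype_card]
      exact Nat.card_congr ⟨fun x => ⟨x.1.1, x.2⟩, fun x => ⟨⟨x.1, hR J x.2⟩, x.2⟩,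
        fun _ => rfl, fun _ => rfl⟩
    have hswap : ∑ x : ↥(PS J), (if p (x : G) then altFix PS J x else 0) =
        ∑ K ∈ J.powerset, (-1 : ℂ) ^ K.card * (A K / A J * f K) := by
      have e1 : ∀ K ∈ J.powerset, (-1 : ℂ) ^ K.card * (A K / A J * f K) =
          ∑ x : ↥(PS J), (if p (x : G) then (-1 : ℂ) ^ K.card *
            Cfsg.fixedPointCharacter ((PS K).subgroupOf (PS J)) x else 0) := fun K hK => by
        rw [← hL K hK, Finset.mul_sum]
        refine Finset.sum_congr rfl fun x _ => ?_
        split_ifs <;> simp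
      rw [Finset.sum_congr rfl e1, Finset.sum_comm]
      refine Finset.sum_congr rfl fun x _ => ?_
      split_ifs <;> simp [altFix]
    rw [hR'] at hswap
    have hAJ : A J ≠ 0 := inv_ne_zero (hA J)
    rw [hswap, Finset.mul_sum]
    refine Finset.sum_congr rfl fun K _ => ?_
    field_simp
  have main : ∀ J, f J = (Q : ℂ) * d J := by
    intro J
    induction J using Finset.strongInduction with
    | _ J IH =>
      have hsum : ∑ K ∈ J.powerset, (-1 : ℂ) ^ K.card * (A K * (f K - (Q : ℂ) * d K)) = 0 := by
        have : ∀ K ∈ J.powerset, (-1 : ℂ) ^ K.card * (A K * (f K - (Q : ℂ) * d K)) =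
            (-1 : ℂ) ^ K.card * (A K * f K) - (Q : ℂ) * ((-1 : ℂ) ^ K.card * (A K * d K)) :=
          fun K _ => by ring
        rw [Finset.sum_congr rfl this, Finset.sum_sub_distrib, ← Finset.mul_sum, E3 J, E2 J]
        ring
      rw [Finset.sum_eq_single J (fun K hK hne => by
        rw [IH K (lt_of_le_of_ne (Finset.mem_powerset.1 hK) hne), sub_self, mul_zero, mul_zero])
        (fun h => absurd (Finset.mem_powerset_self J) h)] at hsum
      have := sub_eq_zero.1 (by
        simpa [mul_eq_zero, inv_eq_zero, hA J, A] using hsum : f J - (Q : ℂ) * d J = 0)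
      exact this
  have := main J
  simp only [f] at this
  exact_mod_cast this

end Cfsg.Agent.StCount
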