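import Cfsg.Agent.Lib.Steinberg.SLDecomp
import Cfsg.Agent.Lib.Steinberg.RefPerm
import Cfsg.Agent.S0165

/-!
# The (B, N)-pair and the Steinberg character of the fixed points of a twist of a special linear group
-/

set_option autoImplicit false
set_option linter.unusedSectionVars false
set_option linter.style.haveILetI false

namespace Cfsg.Agent.SLPair

open Matrix
open Cfsg.Agent.SLBlocks (uniU upper_mul_diag mem_uniU_of_upper isPGroup_uniU)

universe u

variable {n : ℕ} {F : Type u} [Field F]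

/-- an endomorphism of the special linear group of the type of a graph automorphism -/
structure Twist (n : ℕ) (F : Type u) [Field F] where
  /-- the endomorphism -/
  τ : SLn n F →* SLn n F
  uni : ∀ g ∈ uniU n F, τ g ∈ uniU n F
  low : ∀ g ∈ loU n F, τ g ∈ loU n F
  mono : ∀ (g : SLn n F) (σ : Equiv.Perm (Fin n)), Mono σ g.1 → Mono (flipP σ) (τ g).1
  root : ∀ i : Idx n, ∃ y ∈ loU n F, τ y = y ∧ y ≠ 1 ∧ ∀ a b, y.1 a b ≠ 0 → blk i a = blk i b
  /-- a subgroup of the fixed points containing all fixed unitriangular elements -/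
  G : Subgroup (SLn n F)
  fixed : ∀ g ∈ G, τ g = g
  memU : ∀ g ∈ uniU n F, τ g = g → g ∈ G
  memL : ∀ g ∈ loU n F, τ g = g → g ∈ G

namespace Twist

variable (T : Twist n F)

theorem sym_of_fixed {σ : Equiv.Perm (Fin n)} {m : SLn n F} (hm : Mono σ m.1) (hf : T.τ m = m) :
    flipP σ = σ := by
  have h := T.mono m σ hm
  rw [hf] at h
  exact Mono.unique h hm

variable [Fintype F]

theorem fixed_decomp {g : SLn n F} (hg : T.τ g = g) :
    ∃ (σ : Equiv.Perm (Fin n)) (u m v : SLn n F), u ∈ uniU n F ∧ Mono σ m.1 ∧ v ∈ uniU n F ∧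
      m * v * m⁻¹ ∈ loU n F ∧ g = u * m * v ∧ flipP σ = σ ∧ T.τ u = u ∧ T.τ m = m ∧ T.τ v = v := by
  obtain ⟨σ, u, m, v, hu, hm, hv, hc, e⟩ := exists_decomp g
  obtain ⟨h1, h2, h3, h4⟩ := decomp_unique (T.uni u hu) hu (T.mono m σ hm) hm (T.uni v hv) hv
    (by rw [← map_inv, ← map_mul, ← map_mul]; exact T.low _ hc) hc
    (by rw [← map_mul, ← map_mul, ← e, hg])
  exact ⟨σ, u, m, v, hu, hm, hv, hc, e, h1, h2, h3, h4⟩

theorem torus_fixed {b t : SLn n F} (hb : T.τ b = b) (ht : Mono 1 t.1) (hu : t⁻¹ * b ∈ uniU n F) :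
    T.τ t = t := by
  have h1 : Mono 1 ((T.τ t)⁻¹ * t).1 := by
    have ht' := T.mono t 1 ht
    rw [flipP_one] at ht'
    have : Mono ((1 : Equiv.Perm (Fin n))⁻¹ * 1) (((T.τ t)⁻¹).1 * t.1) := ht'.inv.mul ht
    rw [inv_one, one_mul] at this
    exact this
  have h2 : (T.τ t)⁻¹ * t = T.τ (t⁻¹ * b) * (t⁻¹ * b)⁻¹ := by
    rw [map_mul, map_inv, hb]; group
  have h3 := uni_diag_eq_one (h2 ▸ mul_mem (T.uni _ hu) (inv_mem hu)) h1
  exact inv_mul_eq_one.1 h3

theorem uni_offdiag {v : SLn n F} (hv : v ∈ uniU n F) {a b : Fin n} (h : v.1 a b ≠ 0) : a ≤ b :=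
  le_of_not_gt fun hlt => h (hv.1 (show id b < id a from hlt))

/-- elements of the root subgroup of an orbit are supported on its blocks -/
theorem u2_block {i : Idx n} {s : SLn n F} (hs : Mono (ref i) s.1) {v : SLn n F} (hv : v ∈ uniU n F)
    (hc : s * v * s⁻¹ ∈ loU n F) : ∀ a b, v.1 a b ≠ 0 → blk i a = blk i b := by
  intro a b h
  have hab := uni_offdiag hv h
  by_contra hne
  exact h ((conj_mem_lo_iff hs hv.2).1 hc a b (ref_mono i (lt_of_le_of_ne (blk_mono i hab) hne)))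

theorem block_conj_uni {i : Idx n} {ρ : Equiv.Perm (Fin n)} {m : SLn n F} (hm : Mono ρ m.1)
    {v : SLn n F} (hv : v ∈ uniU n F) (hblk : ∀ a b, v.1 a b ≠ 0 → blk i a = blk i b)
    (hpos : ∀ a b, a < b → blk i a = blk i b → ρ a < ρ b) : m * v * m⁻¹ ∈ uniU n F := by
  refine (conj_mem_uni_iff hm hv.2).2 fun a b hab => ?_
  by_contra hne
  rcases eq_or_lt_of_le (uni_offdiag hv hne) with rfl | hlt
  · exact lt_irrefl _ hab
  · exact lt_asymm hab (hpos a b hlt (hblk a b hne))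

theorem conj_blocks {i : Idx n} {s : SLn n F} (hs : Mono (ref i) s.1) {v : SLn n F}
    (hblk : ∀ a b, v.1 a b ≠ 0 → blk i a = blk i b) :
    ∀ a b, (s * v * s⁻¹).1 a b ≠ 0 → blk i a = blk i b := by
  intro a b h
  obtain ⟨a, rfl⟩ := (ref i).surjective a
  obtain ⟨b, rfl⟩ := (ref i).surjective b
  rw [blk_ref, blk_ref]
  exact hblk a b fun h0 => h ((conj_apply_eq_zero hs v a b).2 h0)

/-- a non-trivial lower element in the blocks lies in the cell of the reflection -/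
theorem block_cell {i : Idx n} {y : SLn n F} (hy : y ∈ loU n F) (hf : T.τ y = y) (h1 : y ≠ 1)
    (hblk : ∀ a b, y.1 a b ≠ 0 → blk i a = blk i b) :
    ∃ u m w : SLn n F, u ∈ uniU n F ∧ Mono (ref i) m.1 ∧ w ∈ uniU n F ∧ m * w * m⁻¹ ∈ loU n F ∧
      y = u * m * w ∧ T.τ u = u ∧ T.τ m = m ∧ T.τ w = w := by
  obtain ⟨σ, u, m, w, hu, hm, hw, hc, e, hσ, huf, hmf, hwf⟩ := T.fixed_decomp hf
  have hbt : ∀ {M : SLn n F}, M ∈ uniU n F → M.1.BlockTriangular (blk i) := fun {M} hM a b hab => by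
    by_contra hne
    exact absurd (blk_mono i (uni_offdiag hM hne)) (not_le.2 hab)
  have hyb : y.1.BlockTriangular (blk i) := fun a b hab => by
    by_contra hne
    exact absurd (hblk a b hne) (ne_of_gt hab)
  have hmb : m.1.BlockTriangular (blk i) := by
    have h2 : m = u⁻¹ * y * w⁻¹ := by rw [e]; group
    rw [h2]
    exact ((hbt (inv_mem hu)).mul hyb).mul (hbt (inv_mem hw))
  have hle : ∀ a, blk i (σ a) ≤ blk i a := fun a => le_of_not_gt fun hlt => hm.apply_ne a (hmb hlt)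
  have heq : ∀ a, blk i (σ a) = blk i a := fun a => by
    by_contra hne
    have h3 : ∑ x, blk i (σ x) < ∑ x, blk i x :=
      Finset.sum_lt_sum (fun x _ => hle x) ⟨a, Finset.mem_univ _, lt_of_le_of_ne (hle a) hne⟩
    rw [Equiv.sum_comp σ (blk i)] at h3
    exact lt_irrefl _ h3
  rcases eq_one_or_ref i hσ heq with rfl | rfl
  · exfalso
    refine h1 (uni_loU_eq_one ?_ hy)
    rw [e]
    exact (hu.1.mul (mono_one_upper hm)).mul hw.1
  · exact ⟨u, m, w, hu, hm, hw, hc, e, huf, hmf, hwf⟩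

theorem exists_rep (i : Idx n) : ∃ s : SLn n F, T.τ s = s ∧ Mono (ref i) s.1 ∧
    ∃ y u w : SLn n F, u ∈ uniU n F ∧ w ∈ uniU n F ∧ T.τ u = u ∧ T.τ w = w ∧ y ∈ loU n F ∧ T.τ y = y ∧
      y ≠ 1 ∧ (∀ a b, y.1 a b ≠ 0 → blk i a = blk i b) ∧ y = u * s * w := by
  obtain ⟨y, hy, hf, h1, hblk⟩ := T.root i
  obtain ⟨u, m, w, hu, hm, hw, -, e, huf, hmf, hwf⟩ := T.block_cell hy hf h1 hblk
  exact ⟨m, hmf, hm, y, u, w, hu, hw, huf, hwf, hy, hf, h1, hblk, e⟩

/-- the representative of an orbit -/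
noncomputable def rep (i : Idx n) : SLn n F := (T.exists_rep i).choose

theorem rep_fixed (i : Idx n) : T.τ (T.rep i) = T.rep i := (T.exists_rep i).choose_spec.1

theorem rep_mono (i : Idx n) : Mono (ref i) (T.rep i).1 := (T.exists_rep i).choose_spec.2.1

theorem rep_mem (i : Idx n) : T.rep i ∈ T.G := by
  obtain ⟨-, -, y, u, w, hu, hw, huf, hwf, hy, hyf, -, -, e⟩ := (T.exists_rep i).choose_spec
  have h : T.rep i = u⁻¹ * y * w⁻¹ := by rw [show y = u * T.rep i * w from e]; group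
  rw [h]
  exact mul_mem (mul_mem (inv_mem (T.memU u hu huf)) (T.memL y hy hyf)) (inv_mem (T.memU w hw hwf))

theorem rep_sq (i : Idx n) : Mono 1 (T.rep i * T.rep i).1 := by
  have h : Mono (ref i * ref i) ((T.rep i).1 * (T.rep i).1) := (T.rep_mono i).mul (T.rep_mono i)
  rwa [ref_mul_self] at h

/-- a fixed non-trivial element of the root subgroup -/
theorem exists_root_elt (i : Idx n) : ∃ x ∈ uniU n F, T.τ x = x ∧ x ≠ 1 ∧
    (∀ a b, x.1 a b ≠ 0 → blk i a = blk i b) ∧ T.rep i * x * (T.rep i)⁻¹ ∈ loU n F := by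
  obtain ⟨y, hy, hf, h1, hblk⟩ := T.root i
  have hs' : Mono (ref i) ((T.rep i)⁻¹).1 := by
    have := (T.rep_mono i).inv
    rwa [ref_inv] at this
  refine ⟨(T.rep i)⁻¹ * y * (T.rep i)⁻¹⁻¹, ?_, ?_, ?_, conj_blocks hs' hblk, ?_⟩
  · refine (conj_mem_uni_iff hs' (mem_loU.1 hy).2).2 fun a b hab => ?_
    by_contra hne
    rcases lt_trichotomy a b with h | rfl | h
    · exact hne ((mem_loU.1 hy).1 a b h)
    · exact lt_irrefl _ hab
    · exact lt_asymm hab (ref_anti i h (hblk a b hne).symm)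
  · rw [map_mul, map_mul, map_inv, map_inv, map_inv, hf, T.rep_fixed]
  · intro e
    apply h1
    rw [show y = T.rep i * ((T.rep i)⁻¹ * y * (T.rep i)⁻¹⁻¹) * (T.rep i)⁻¹ by group, e]
    group
  · rw [show T.rep i * ((T.rep i)⁻¹ * y * (T.rep i)⁻¹⁻¹) * (T.rep i)⁻¹ = y by group]
    exact hy

/-- the representatives inside the fixed group -/
noncomputable def repG (i : Idx n) : T.G := ⟨T.rep i, T.rep_mem i⟩

theorem exists_mono_fixed : ∀ (σ : Equiv.Perm (Fin n)), flipP σ = σ →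
    ∃ w ∈ Subgroup.closure (Set.range T.repG), Mono σ (w : SLn n F).1 := by
  intro σ
  induction hk : (invs σ).card using Nat.strong_induction_on generalizing σ with
  | _ k ih =>
    intro hσ
    by_cases h1 : σ = 1
    · exact ⟨1, one_mem _, h1 ▸ Mono.one⟩
    · obtain ⟨i, hi⟩ := exists_descent hσ h1
      obtain ⟨w, hw, hw'⟩ := ih _ (hk ▸ invs_lt i hi) (σ * ref i) rfl (by rw [flipP_mul, hσ, flipP_ref])
      refine ⟨w * T.repG i, mul_mem hw (Subgroup.subset_closure ⟨i, rfl⟩), ?_⟩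
      have h2 : Mono (σ * ref i * ref i) ((w : SLn n F).1 * (T.rep i).1) := hw'.mul (T.rep_mono i)
      rw [mul_assoc, ref_mul_self, mul_one] at h2
      exact h2

theorem exists_long : ∃ c : T.G, c ∈ Subgroup.closure (Set.range T.repG) ∧
    Mono (Fin.revPerm : Equiv.Perm (Fin n)) (c : SLn n F).1 := by
  obtain ⟨w, hw, hw'⟩ := T.exists_mono_fixed _ flipP_rev
  exact ⟨w, hw, hw'⟩

theorem closure_le_mono : Subgroup.closure (Set.range T.repG) ≤ (nSub n F).subgroupOf T.G :=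
  (Subgroup.closure_le _).2 (by rintro _ ⟨i, rfl⟩; exact ⟨_, T.rep_mono i⟩)

/-- the Tits system on the fixed points -/
noncomputable def pair : Cfsg.BNPair T.G where
  B := (bSub n F).subgroupOf T.G
  N := (nSub n F).subgroupOf T.G
  S := Set.range T.repG
  sup_eq_top := eq_top_iff.2 fun g _ => by
    obtain ⟨σ, u, m, v, hu, hm, hv, -, e, -, huf, -, hvf⟩ := T.fixed_decomp (T.fixed _ g.2)
    have hmG : m ∈ T.G := by
      rw [show m = u⁻¹ * (g : SLn n F) * v⁻¹ by rw [e]; group]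
      exact mul_mem (mul_mem (inv_mem (T.memU u hu huf)) g.2) (inv_mem (T.memU v hv hvf))
    have : g = (⟨u, T.memU u hu huf⟩ : T.G) * ⟨m, hmG⟩ * ⟨v, T.memU v hv hvf⟩ := Subtype.ext e
    rw [this]
    exact mul_mem (mul_mem (Subgroup.mem_sup_left hu.1) (Subgroup.mem_sup_right ⟨σ, hm⟩)) (Subgroup.mem_sup_left hv.1)
  conj_mem := by
    rintro c ⟨σ, hσ⟩ t ⟨ht1, ht2⟩
    have h0 : Mono 1 (t : SLn n F).1 := mem_inf ⟨ht1, ht2⟩
    refine mono_one_upper ?_
    have : Mono (σ * 1 * σ⁻¹) ((c : SLn n F) * t * (c : SLn n F)⁻¹).1 := (hσ.mul h0).mul hσ.inv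
    rw [mul_one, mul_inv_cancel] at this
    exact this
  subset := by
    rintro _ ⟨i, rfl⟩
    exact ⟨_, T.rep_mono i⟩
  sq_mem := by
    rintro _ ⟨i, rfl⟩
    exact mono_one_upper (T.rep_sq i)
  inj := by
    rintro _ ⟨i, rfl⟩ _ ⟨j, rfl⟩ hm
    have h1 : Mono ((ref i)⁻¹ * ref j) ((T.rep i)⁻¹ * T.rep j).1 := (T.rep_mono i).inv.mul (T.rep_mono j)
    rw [ref_injective (inv_mul_eq_one.1 (h1.eq_one_of_upper hm))]
  closure_sup := by
    refine le_antisymm (sup_le T.closure_le_mono inf_le_right) ?_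
    rintro c ⟨σ, hσ⟩
    obtain ⟨w, hw, hw'⟩ := T.exists_mono_fixed σ (T.sym_of_fixed hσ (T.fixed _ c.2))
    have h1 : Mono 1 ((w⁻¹ * c : T.G) : SLn n F).1 := by
      have : Mono (σ⁻¹ * σ) (((w : SLn n F)⁻¹).1 * (c : SLn n F).1) := hw'.inv.mul hσ
      rw [inv_mul_cancel] at this
      exact this
    rw [show c = w * (w⁻¹ * c) by group]
    exact mul_mem (Subgroup.mem_sup_left hw) (Subgroup.mem_sup_right (mono_one_mem h1))
  mul_mem_union := by
    rintro _ ⟨i, rfl⟩ ⟨c, hcf⟩ ⟨σ, hc⟩ ⟨b, hbf⟩ hb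
    change Mono σ c.1 at hc
    have hbf' : T.τ b = b := T.fixed b hbf
    have hcf' : T.τ c = c := T.fixed c hcf
    obtain ⟨s, hs⟩ : ∃ s, T.rep i = s := ⟨_, rfl⟩
    have hsm : Mono (ref i) s.1 := hs ▸ T.rep_mono i
    have hsf : T.τ s = s := hs ▸ T.rep_fixed i
    have hsM : ∀ t : SLn n F, Mono 1 t.1 → Mono 1 (s * t * s⁻¹).1 := fun t ht => by
      have : Mono (ref i * 1 * (ref i)⁻¹) (s * t * s⁻¹).1 := (hsm.mul ht).mul hsm.inv
      rwa [mul_one, mul_inv_cancel] at this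
    obtain ⟨t, ht, ht1, -⟩ := exists_torus (show b ∈ bSub n F from hb)
    have htf : T.τ t = t := T.torus_fixed hbf' ht ht1
    obtain ⟨v₁, v₂, hv₁, hv₂, hA, hB, e⟩ := uni_factor hsm ht1
    have h2f : T.τ v₂ = v₂ := by
      have hA' : s * T.τ v₁ * s⁻¹ ∈ uniU n F := by
        have := T.uni _ hA
        rwa [map_mul, map_mul, map_inv, hsf] at this
      have hB' : s * T.τ v₂ * s⁻¹ ∈ loU n F := by
        have := T.low _ hB
        rwa [map_mul, map_mul, map_inv, hsf] at this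
      have e' : T.τ v₁ * T.τ v₂ = v₁ * v₂ := by
        rw [← map_mul, ← e, map_mul, map_inv, hbf', htf]
      have h1 : (s * v₁ * s⁻¹)⁻¹ * (s * T.τ v₁ * s⁻¹) = (s * v₂ * s⁻¹) * (s * T.τ v₂ * s⁻¹)⁻¹ := by
        rw [show (s * v₁ * s⁻¹)⁻¹ * (s * T.τ v₁ * s⁻¹) = s * (v₁⁻¹ * (T.τ v₁ * T.τ v₂) * (T.τ v₂)⁻¹) * s⁻¹ by group, e']
        group
      have h2 := uni_loU_eq_one (mul_mem (inv_mem hA) hA').1 (h1 ▸ mul_mem hB (inv_mem hB'))
      rw [h1] at h2
      have h3 : v₂ = T.τ v₂ := by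
        have := mul_inv_eq_one.1 h2
        exact mul_left_cancel (mul_right_cancel this)
      exact h3.symm
    have h1f : T.τ v₁ = v₁ := by
      have : T.τ (v₁ * v₂) = v₁ * v₂ := by rw [← e, map_mul, map_inv, hbf', htf]
      rwa [map_mul, h2f, mul_left_inj] at this
    have hbe : b = t * v₁ * v₂ := by rw [mul_assoc, ← e]; group
    have hblk := u2_block hsm hv₂ hB
    have hsG : s ∈ T.G := hs ▸ T.rep_mem i
    have h12 : t⁻¹ * b ∈ T.G := by
      rw [e]; exact mul_mem (T.memU v₁ hv₁ h1f) (T.memU v₂ hv₂ h2f)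
    have htG : t ∈ T.G := by
      rw [show t = b * (t⁻¹ * b)⁻¹ by group]
      exact mul_mem hbf (inv_mem h12)
    have hσ : flipP σ⁻¹ = σ⁻¹ := by rw [flipP_inv, T.sym_of_fixed hc hcf']
    obtain ⟨A, hA1, hA2⟩ : ∃ A : T.G, (A : SLn n F) = s * t * s⁻¹ * (s * v₁ * s⁻¹) ∧ (A : SLn n F) ∈ bSub n F :=
      ⟨⟨_, mul_mem
        (show s * t * s⁻¹ ∈ T.G from mul_mem (mul_mem hsG htG) (inv_mem hsG))
        (show s * v₁ * s⁻¹ ∈ T.G from mul_mem (mul_mem hsG (T.memU v₁ hv₁ h1f)) (inv_mem hsG))⟩, rfl,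
        mul_mem (mono_one_upper (hsM t ht)) hA.1⟩
    have hpos_case : c⁻¹ * v₂ * c⁻¹⁻¹ ∈ uniU n F →
        T.repG i * ⟨b, hbf⟩ * ⟨c, hcf⟩ ∈ DoubleCoset.doubleCoset (T.repG i * ⟨c, hcf⟩)
          (((bSub n F).subgroupOf T.G : Subgroup T.G) : Set T.G) ((bSub n F).subgroupOf T.G : Subgroup T.G) := by
      intro hp
      refine DoubleCoset.mem_doubleCoset.2 ⟨A, hA2, ⟨c⁻¹ * v₂ * c⁻¹⁻¹, ?_⟩, hp.1, Subtype.ext ?_⟩
      · exact mul_mem (mul_mem (inv_mem hcf) (T.memU v₂ hv₂ h2f)) (inv_mem (inv_mem hcf))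
      · show T.rep i * b * c = (A : SLn n F) * (T.rep i * c) * (c⁻¹ * v₂ * c⁻¹⁻¹)
        rw [hA1, hbe, hs]; group
    rcases sign_blocks i hσ with hpos | hneg
    · exact Or.inl (hpos_case (block_conj_uni hc.inv hv₂ hblk hpos))
    · by_cases h21 : v₂ = 1
      · exact Or.inl (hpos_case (by rw [h21, mul_one, mul_inv_cancel]; exact one_mem _))
      · right
        have hgf : T.τ (s * v₂ * s⁻¹) = s * v₂ * s⁻¹ := by rw [map_mul, map_mul, map_inv, hsf, h2f]
        obtain ⟨u, m, w, hu, hm, hw, hwc, e2, huf, hmf, hwf⟩ := T.block_cell hB hgf (fun e0 => h21 (by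
          rw [show v₂ = s⁻¹ * (s * v₂ * s⁻¹) * s by group, e0]; group)) (conj_blocks hsm hblk)
        have hms : Mono 1 (m * s).1 := by
          have : Mono (ref i * ref i) (m.1 * s.1) := hm.mul hsm
          rwa [ref_mul_self] at this
        have hsc : Mono ((ref i * σ)⁻¹) ((s * c)⁻¹).1 := (show Mono (ref i * σ) (s * c).1 from hsm.mul hc).inv
        have hR : (s * c)⁻¹ * w * (s * c)⁻¹⁻¹ ∈ uniU n F := by
          refine block_conj_uni hsc hw (u2_block hm hw hwc) fun a d had hbd => ?_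
          rw [_root_.mul_inv_rev, ref_inv, Equiv.Perm.mul_apply, Equiv.Perm.mul_apply]
          exact hneg _ _ (ref_anti i had hbd) (by rw [blk_ref, blk_ref, hbd])
        refine DoubleCoset.mem_doubleCoset.2 ⟨A * ⟨u * (m * s), ?_⟩, mul_mem hA2 (show u * (m * s) ∈ bSub n F from mul_mem (show u ∈ bSub n F from hu.1) (show m * s ∈ bSub n F from mono_one_upper hms)),
          ⟨(s * c)⁻¹ * w * (s * c)⁻¹⁻¹, ?_⟩, hR.1, Subtype.ext ?_⟩
        · have hmG : m ∈ T.G := by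
            rw [show m = u⁻¹ * (u * m * w) * w⁻¹ by group, ← e2]
            exact mul_mem (mul_mem (inv_mem (T.memU u hu huf))
              (mul_mem (mul_mem hsG (T.memU v₂ hv₂ h2f)) (inv_mem hsG))) (inv_mem (T.memU w hw hwf))
          exact mul_mem (T.memU u hu huf) (mul_mem hmG hsG)
        · exact mul_mem (mul_mem (inv_mem (mul_mem hsG hcf)) (T.memU w hw hwf)) (inv_mem (inv_mem (mul_mem hsG hcf)))
        · show T.rep i * b * c = (A : SLn n F) * (u * (m * s)) * c * ((s * c)⁻¹ * w * (s * c)⁻¹⁻¹)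
          rw [hA1, hbe, hs, show s * (t * v₁ * v₂) * c = s * t * s⁻¹ * (s * v₁ * s⁻¹) * (s * v₂ * s⁻¹) * s * c by group, e2]
          group
  conj_ne := by
    rintro _ ⟨i, rfl⟩ heq
    obtain ⟨x, hx, hxf0, hx1, -, hlo⟩ := T.exists_root_elt i
    have hxf : x ∈ T.G := T.memU x hx hxf0
    have hm : T.repG i * ⟨x, hxf⟩ * T.repG i ∈ (((bSub n F).subgroupOf T.G : Subgroup T.G) : Set T.G) := by
      rw [← heq]
      exact ⟨⟨x, hxf⟩, hx.1, rfl⟩
    have h1 : T.rep i * x * (T.rep i)⁻¹ ∈ bSub n F := by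
      rw [show T.rep i * x * (T.rep i)⁻¹ = T.rep i * x * T.rep i * (T.rep i * T.rep i)⁻¹ by group]
      exact mul_mem hm (inv_mem (mono_one_upper (T.rep_sq i)))
    have h2 := uni_loU_eq_one (show (T.rep i * x * (T.rep i)⁻¹).1.IsUpperTriangular from h1) hlo
    exact hx1 (by rw [show x = (T.rep i)⁻¹ * (T.rep i * x * (T.rep i)⁻¹) * T.rep i by group, h2]; group)

theorem torus_of_long {b c : SLn n F} (hc : Mono (Fin.revPerm : Equiv.Perm (Fin n)) c.1)
    (hb : b.1.IsUpperTriangular) (hb' : (c⁻¹ * b * c⁻¹⁻¹).1.IsUpperTriangular) : Mono 1 b.1 := by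
  intro a d had
  by_contra hne
  change a ≠ d at hne
  rcases lt_or_gt_of_ne hne with h | h
  · refine had ((conj_apply_eq_zero hc.inv b a d).1 (hb' ?_))
    show Fin.revPerm⁻¹ d < Fin.revPerm⁻¹ a
    rw [Equiv.Perm.inv_def, Fin.revPerm_symm, Fin.revPerm_apply, Fin.revPerm_apply]
    exact Fin.rev_lt_rev.2 h
  · exact had (hb (show id d < id a from h))

/-- the fixed elements normalising the fixed unitriangular elements are upper triangular -/
theorem upper_of_normalizes {g : SLn n F} (hg : T.τ g = g)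
    (h : ∀ u ∈ uniU n F, T.τ u = u → g⁻¹ * u * g ∈ uniU n F) : g ∈ bSub n F := by
  obtain ⟨σ, u0, m, v, hu0, hm, hv, -, e, hσ, hu0f, hmf, hvf⟩ := T.fixed_decomp hg
  have hσ1 : σ = 1 := by
    by_contra h1
    have hσ' : flipP σ⁻¹ = σ⁻¹ := by rw [flipP_inv, hσ]
    obtain ⟨i, hi⟩ := exists_descent hσ' (inv_ne_one.2 h1)
    obtain ⟨x, hx, hxf, hx1, hblk, -⟩ := T.exists_root_elt i
    have hmx : m⁻¹ * x * m⁻¹⁻¹ ∈ uniU n F := by
      have h2 := h (u0 * x * u0⁻¹) (mul_mem (mul_mem hu0 hx) (inv_mem hu0))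
        (by rw [map_mul, map_mul, map_inv, hu0f, hxf])
      rw [show m⁻¹ * x * m⁻¹⁻¹ = v * (g⁻¹ * (u0 * x * u0⁻¹) * g) * v⁻¹ by rw [e]; group]
      exact mul_mem (mul_mem hv h2) (inv_mem hv)
    refine hx1 (uni_diag_eq_one hx fun a b hab => ?_)
    by_contra hne
    change a ≠ b at hne
    have hlt : a < b := lt_of_le_of_ne (uni_offdiag hx hab) hne
    exact hab ((conj_mem_uni_iff hm.inv hx.2).1 hmx a b (hi a b hlt (hblk a b hab)))
  subst hσ1
  rw [e]
  exact mul_mem (mul_mem hu0.1 (mono_one_upper hm)) hv.1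

theorem isPGroup_fixed_uni (p : ℕ) [Fact p.Prime] [CharP F p] :
    IsPGroup p ((uniU n F).subgroupOf T.G : Subgroup T.G) :=
  (isPGroup_uniU p).comap_of_injective T.G.subtype T.G.subtype_injective

/-- the fixed unitriangular elements form a Sylow subgroup -/
theorem uni_maximal (p : ℕ) [Fact p.Prime] [CharP F p] {Q : Subgroup T.G} (hQ : IsPGroup p Q)
    (hle : (uniU n F).subgroupOf T.G ≤ Q) : Q = (uniU n F).subgroupOf T.G := by
  by_contra hne
  haveI := hQ.isNilpotent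
  have hlt : ((uniU n F).subgroupOf T.G).subgroupOf Q < ⊤ := by
    refine lt_top_iff_ne_top.2 fun htop => hne (le_antisymm ?_ hle)
    exact Subgroup.subgroupOf_eq_top.1 htop
  obtain ⟨⟨g, hgQ⟩, hgn, hgU⟩ := SetLike.exists_of_lt (Group.normalizerCondition_of_isNilpotent _ hlt)
  have hnorm : ∀ u ∈ uniU n F, T.τ u = u → (g : SLn n F)⁻¹ * u * g ∈ uniU n F := by
    intro u hu huf
    have h1 := (Subgroup.mem_normalizer_iff'.1 hgn
      (⟨(g⁻¹ * ⟨u, T.memU u hu huf⟩ : T.G), mul_mem (inv_mem hgQ) (hle (show (⟨u, T.memU u hu huf⟩ : T.G) ∈ (uniU n F).subgroupOf T.G from hu))⟩ : Q))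
    have h2 : (⟨u, T.memU u hu huf⟩ : T.G) ∈ (uniU n F).subgroupOf T.G := hu
    have h3 := h1.2 (by
      show (g * (g⁻¹ * ⟨u, T.memU u hu huf⟩) : T.G) ∈ (uniU n F).subgroupOf T.G
      rwa [mul_inv_cancel_left])
    exact h3
  have hB := T.upper_of_normalizes (T.fixed _ g.2) hnorm
  obtain ⟨k, hk⟩ := hQ ⟨g, hgQ⟩
  have h4 : ((g : SLn n F)) ^ p ^ k = 1 := congrArg Subtype.val (congrArg Subtype.val hk)
  exact hgU (mem_uniU_of_upper p hB (j := k) h4)

/-- the Sylow subgroup -/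
def sylow (p : ℕ) [Fact p.Prime] [CharP F p] : Sylow p T.G :=
  { (uniU n F).subgroupOf T.G with
    isPGroup' := T.isPGroup_fixed_uni p
    is_maximal' := fun hQ hle => T.uni_maximal p hQ hle }

theorem center_le : Subgroup.center T.G ≤ T.pair.B ⊓ T.pair.N := by
  intro z hz
  have hc : ∀ g : T.G, g * z = z * g := Subgroup.mem_center_iff.1 hz
  have hB : (z : SLn n F) ∈ bSub n F := T.upper_of_normalizes (T.fixed _ z.2) fun u hu huf => by
    have h1 : u * (z : SLn n F) = z * u := congrArg Subtype.val (hc ⟨u, T.memU u hu huf⟩)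
    rwa [mul_assoc, h1, inv_mul_cancel_left]
  obtain ⟨c, -, hc'⟩ := T.exists_long
  have h2 : (c : SLn n F) * z = z * c := congrArg Subtype.val (hc c)
  refine mono_one_mem (torus_of_long hc' hB ?_)
  show ((c : SLn n F)⁻¹ * (z : SLn n F) * (c : SLn n F)⁻¹⁻¹).1.IsUpperTriangular
  rw [inv_inv, show (c : SLn n F)⁻¹ * z * c = z by rw [mul_assoc, ← h2, inv_mul_cancel_left]]
  exact hB

theorem relIndex_eq : (T.pair.B ⊓ T.pair.N).relIndex T.pair.B = Nat.card ((uniU n F).subgroupOf T.G : Subgroup T.G) := by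
  rw [Subgroup.relIndex, Subgroup.index]
  refine (Nat.card_eq_of_bijective (fun u : ((uniU n F).subgroupOf T.G : Subgroup T.G) =>
    ((⟨(u : T.G), u.2.1⟩ : T.pair.B) : T.pair.B ⧸ (T.pair.B ⊓ T.pair.N).subgroupOf T.pair.B)) ⟨?_, ?_⟩).symm
  · intro u v h
    have h' := Subgroup.mem_subgroupOf.1 (QuotientGroup.eq.1 h)
    have h2 := uni_diag_eq_one (mul_mem (inv_mem (Subgroup.mem_subgroupOf.1 u.2)) (Subgroup.mem_subgroupOf.1 v.2))
      (mem_inf ⟨h'.1, h'.2⟩)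
    exact Subtype.ext (Subtype.ext (inv_mul_eq_one.1 h2))
  · intro q
    induction q using QuotientGroup.induction_on with | H b => ?_
    obtain ⟨⟨b, hbf⟩, hb⟩ := b
    obtain ⟨t, ht, ht1, ht2⟩ := exists_torus (show b ∈ bSub n F from hb)
    have htf0 : T.τ t = t := T.torus_fixed (T.fixed b hbf) ht ht1
    have hf : b * t⁻¹ ∈ T.G := T.memU _ ht2 (by rw [map_mul, map_inv, T.fixed b hbf, htf0])
    have htf : t ∈ T.G := by
      rw [show t = (b * t⁻¹)⁻¹ * b by group]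
      exact mul_mem (inv_mem hf) hbf
    refine ⟨⟨⟨_, hf⟩, ht2⟩, QuotientGroup.eq.2 (Subgroup.mem_subgroupOf.2 ?_)⟩
    show (⟨b * t⁻¹, hf⟩ : T.G)⁻¹ * ⟨b, hbf⟩ ∈ T.pair.B ⊓ T.pair.N
    rw [show (⟨b * t⁻¹, hf⟩ : T.G)⁻¹ * ⟨b, hbf⟩ = ⟨t, htf⟩ from Subtype.ext (by
      show (b * t⁻¹)⁻¹ * b = t
      group)]
    exact mono_one_mem ht

/-- the Steinberg character on the central quotient of a group isomorphic to the fixed points -/
theorem steinberg {H : Type*} [Group H] (e : T.G ≃* H) (p : ℕ) [Fact p.Prime] [CharP F p] :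
    ∃ χ : H ⧸ Subgroup.center H → ℂ, Cfsg.IsIrrCharacter (H ⧸ Subgroup.center H) χ ∧
      ∀ P : Sylow p (H ⧸ Subgroup.center H), χ 1 = Nat.card P ∧
        ∀ x : H ⧸ Subgroup.center H, x ∈ P → x ≠ 1 → χ x = 0 := by
  classical
  obtain ⟨π, hπ⟩ : ∃ π, (QuotientGroup.mk' (Subgroup.center H)).comp e.toMonoidHom = π := ⟨_, rfl⟩
  have hsur : Function.Surjective π := hπ ▸ (QuotientGroup.mk'_surjective _).comp e.surjective
  have hker : π.ker ≤ T.pair.B ⊓ T.pair.N := fun g hg => T.center_le (by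
    have h1 : e g ∈ Subgroup.center H := by
      rw [← hπ] at hg
      exact (QuotientGroup.eq_one_iff _).1 hg
    exact Subgroup.mem_center_iff.2 fun x => e.injective (by
      rw [map_mul, map_mul]; exact Subgroup.mem_center_iff.1 h1 (e x)))
  haveI : Finite (H ⧸ Subgroup.center H) := Finite.of_surjective π hsur
  let P := mapPair T.pair π hsur hker
  haveI : Fintype P.S := Fintype.ofFinite _
  obtain ⟨c, hcS, hc⟩ := T.exists_long
  have hcN : c ∈ T.pair.N := T.closure_le_mono hcS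
  have hn0 : π c ∈ P.N := ⟨c, hcN, rfl⟩
  have htop : BN.Top P (BN.wmk P (π c) hn0) := by
    refine BN.top_of_witness P hn0 ?_
    rintro ⟨_, _, ⟨i, rfl⟩, rfl⟩
    obtain ⟨-, -, y, u, w, hu, hw, huf, hwf, hy, hyf, -, -, e'⟩ := (T.exists_rep i).choose_spec
    have huG := T.memU u hu huf
    refine ⟨π ⟨u, huG⟩, ⟨⟨u, huG⟩, hu.1, rfl⟩, ?_⟩
    have hcy : (c : SLn n F) * y * (c : SLn n F)⁻¹ ∈ uniU n F :=
      (conj_mem_uni_iff hc (mem_loU.1 hy).2).2 fun a b hab => (mem_loU.1 hy).1 a b (by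
        rw [Fin.revPerm_apply, Fin.revPerm_apply] at hab
        exact Fin.rev_lt_rev.1 hab)
    refine DoubleCoset.mem_doubleCoset.2 ⟨π (c * ⟨y, T.memL y hy hyf⟩ * c⁻¹), ⟨_, hcy.1, rfl⟩,
      π ⟨w, T.memU w hw hwf⟩⁻¹, ⟨_, (inv_mem hw).1, rfl⟩, ?_⟩
    simp only [← map_mul]
    congr 1
    refine Subtype.ext ?_
    show (c : SLn n F) * u * T.rep i = (c : SLn n F) * y * (c : SLn n F)⁻¹ * c * w⁻¹
    rw [show y = u * T.rep i * w from e']
    group
  have hH : P.B ⊓ P.B.map (MulAut.conj (π c)).toMonoidHom = (T.pair.B ⊓ T.pair.N).map π := by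
    refine le_antisymm ?_ ?_
    · rintro _ ⟨⟨b, hb, rfl⟩, hx⟩
      obtain ⟨_, ⟨b', hb', rfl⟩, e'⟩ := hx
      have hk : b'⁻¹ * (c⁻¹ * b * c) ∈ π.ker := by
        have e'' : π c * π b' * (π c)⁻¹ = π b := e'
        rw [MonoidHom.mem_ker, map_mul, map_inv, map_mul, map_mul, map_inv, ← e'']
        group
      have hcb : c⁻¹ * b * c ∈ T.pair.B := by
        have := T.pair.B.mul_mem hb' (hker hk).1
        rwa [mul_inv_cancel_left] at this
      have hcb' : ((c : SLn n F)⁻¹ * b * (c : SLn n F)⁻¹⁻¹).1.IsUpperTriangular := by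
        rw [inv_inv]; exact hcb
      exact ⟨b, mono_one_mem (torus_of_long hc hb hcb'), rfl⟩
    · rintro _ ⟨t, ht, rfl⟩
      refine ⟨⟨t, ht.1, rfl⟩, π (c⁻¹ * t * c), ⟨_, ?_, rfl⟩, ?_⟩
      · have := T.pair.conj_mem c⁻¹ (inv_mem hcN) t ht
        rwa [inv_inv] at this
      · show π c * π (c⁻¹ * t * c) * (π c)⁻¹ = π t
        simp only [map_mul, map_inv]; group
  have hirr := BN.stChar_irr P
  obtain ⟨U, hU⟩ : ∃ U : Subgroup T.G, (uniU n F).subgroupOf T.G = U := ⟨_, rfl⟩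
  have hone : BN.stChar P 1 = (Nat.card U : ℂ) := by
    rw [BN.stChar_borel P htop (one_mem _), ← OneMemClass.coe_one P.B, BN.fixCell_eq P hn0 _ hH]
    simp only [Cfsg.fixedPointCharacter, Nat.cast_inj]
    rw [Nat.card_congr ((Equiv.setCongr (show MulAction.fixedBy _ (1 : P.B) = Set.univ by
      ext x; simp [MulAction.mem_fixedBy])).trans (Equiv.Set.univ _)), ← Subgroup.index_eq_card]
    show ((T.pair.B ⊓ T.pair.N).map π).relIndex (T.pair.B.map π) = _
    rw [← Subgroup.relIndex_comap, Subgroup.comap_map_eq, sup_eq_left.2 hker, T.relIndex_eq, hU]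
  refine ⟨BN.stChar P, hirr, fun Q => ?_⟩
  let V : Sylow p (H ⧸ Subgroup.center H) := (T.sylow p).mapSurjective hsur
  have hcard : Nat.card Q = Nat.card U := by
    rw [Q.card_eq_multiplicity, ← V.card_eq_multiplicity]
    show Nat.card (((uniU n F).subgroupOf T.G).map π) = _
    rw [hU]
    refine (Nat.card_congr (Equiv.ofBijective
      (fun u : U => (⟨π u, u, u.2, rfl⟩ : U.map π)) ⟨fun u v h => ?_, ?_⟩)).symm
    · have h1 : (u : T.G)⁻¹ * v ∈ π.ker := by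
        rw [MonoidHom.mem_ker, map_mul, map_inv, show π u = π v from congrArg Subtype.val h, inv_mul_cancel]
      have h2 : ((u : T.G)⁻¹ * v : T.G) ∈ (uniU n F).subgroupOf T.G := by
        rw [hU]; exact mul_mem (inv_mem u.2) v.2
      have h3 := uni_diag_eq_one (Subgroup.mem_subgroupOf.1 h2) (mem_inf ⟨(hker h1).1, (hker h1).2⟩)
      exact Subtype.ext (inv_mul_eq_one.1 (Subtype.ext h3))
    · rintro ⟨_, u, hu, rfl⟩
      exact ⟨⟨u, hu⟩, rfl⟩
  refine ⟨by rw [hone, hcard], fun x hx hx1 => ?_⟩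
  obtain ⟨m, ρ, hρ, he⟩ := hirr
  haveI := hρ
  have hd : Module.finrank ℂ (Fin m → ℂ) = Nat.card Q := by
    have h1 := congrFun he 1
    rw [Representation.char_one, hone, ← hcard] at h1
    exact_mod_cast h1
  have hp := (Fact.out : p.Prime)
  rw [← he]
  refine S0165.result ρ p _ hp (Nat.ordProj_dvd _ _) (Nat.pow_succ_factorization_not_dvd Nat.card_pos.ne' hp)
    (by rw [hd, Q.card_eq_multiplicity]) x ?_
  obtain ⟨k, hk⟩ := Q.isPGroup' ⟨x, hx⟩
  have hk' : x ^ p ^ k = 1 := congrArg Subtype.val hk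
  obtain ⟨j, -, hj⟩ := (Nat.dvd_prime_pow hp).1 (orderOf_dvd_of_pow_eq_one hk')
  rw [hj]
  exact dvd_pow_self p fun h0 => hx1 (orderOf_eq_one_iff.1 (by rw [hj, h0, pow_zero]))

end Twist

end Cfsg.Agent.SLPair
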