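import Cfsg.Agent.Lib.Steinberg.Reps
import Mathlib.Analysis.Complex.Basic
import Mathlib.Analysis.Normed.Module.FiniteDimension
import Mathlib.Topology.Connected.Basic
import Mathlib.Topology.LocallyConstant.Basic

/-!
# The Hecke algebra of the Weyl group of a Tits system at a real parameter

The centre has the same dimension for every positive parameter: it is both the kernel and the image
of an operator depending continuously on the parameter.
-/

set_option autoImplicit false

open scoped ComplexConjugate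

namespace Cfsg.Agent.BN

variable {G : Type*} [Group G] (P : Cfsg.BNPair G)

theorem descent_comm {s t : P.S} {w : W P} (h1 : len P w < len P (σ P s * w))
    (h2 : len P (σ P s * (w * σ P t)) < len P (w * σ P t)) : σ P s * w = w * σ P t := by
  obtain ⟨m, hml, hmw⟩ := exists_reduced P w
  have hwt : wp P (m ++ [t]) = w * σ P t := by simp [hmw]
  have hw' : w = w * σ P t * σ P t := by rw [mul_assoc, σ_mul_self, mul_one]
  have hup : len P w < len P (w * σ P t) := by
    rcases lt_or_gt_of_ne (len_mul_σ_ne P t w) with h | h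
    · exfalso
      have h3 := len_σ_mul_le P t (σ P s * (w * σ P t))⁻¹
      rw [len_inv] at h3
      have h4 : len P (σ P s * w) = len P (σ P t * (σ P s * (w * σ P t))⁻¹) := by
        conv_lhs => rw [hw']
        rw [← len_inv P (σ P t * _), mul_inv_rev, inv_inv, σ_inv]
        simp only [mul_assoc]
      omega
    · exact h
  have hle := len_σ_mul_le P t w⁻¹
  rw [len_inv, ← σ_inv P t, ← mul_inv_rev, len_inv] at hle
  have hlen : len P (wp P (m ++ [t])) = (m ++ [t]).length := by
    rw [hwt, List.length_append, List.length_singleton, hml]; omega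
  obtain ⟨i, hi, hd⟩ := exchange P s (m ++ [t]) hlen (by rw [← hlen, hwt]; exact h2)
  rw [hwt] at hd
  rw [List.length_append, List.length_singleton] at hi
  by_cases him : i < m.length
  · exfalso
    rw [List.eraseIdx_append_of_lt_length him] at hd
    have e : σ P s * w = wp P (m.eraseIdx i) := by
      rw [wp_append, wp_cons, wp_nil, mul_one, ← mul_assoc] at hd
      exact mul_right_cancel hd
    have h5 := len_wp_le P (m.eraseIdx i)
    rw [← e, List.length_eraseIdx_of_lt him] at h5
    omega
  · rw [List.eraseIdx_append_of_length_le (not_lt.1 him)] at hd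
    rw [show i - m.length = 0 by omega] at hd
    simp only [List.eraseIdx_cons_zero, List.append_nil, hmw] at hd
    calc σ P s * w = σ P s * (σ P s * (w * σ P t)) := by rw [hd]
      _ = w * σ P t := σ_cancel P s _

theorem descent_iff {s t : P.S} {w : W P} (hne : σ P s * w ≠ w * σ P t) :
    len P w < len P (σ P s * w) ↔ len P (w * σ P t) < len P (σ P s * (w * σ P t)) := by
  constructor
  · intro h
    rcases len_lt_or_gt P s (w * σ P t) with h' | h'
    · exact absurd (descent_comm P h h') hne
    · exact h'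
  · intro h
    rcases len_lt_or_gt P s w with h' | h'
    · refine absurd ?_ hne
      have e := descent_comm P (s := s) (t := t) h (by rw [mul_assoc, σ_mul_self, mul_one]; exact h')
      rw [mul_assoc w, σ_mul_self, mul_one] at e
      calc σ P s * w = σ P s * (σ P s * (w * σ P t)) := by rw [e]
        _ = w * σ P t := σ_cancel P s _
    · exact h'

namespace Hecke

/-- the function `w ↦ a w⁻¹` -/
def J : (W P → ℂ) →ₗ[ℂ] (W P → ℂ) where
  toFun a := fun w => a w⁻¹
  map_add' _ _ := rfl
  map_smul' _ _ := rfl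

theorem J_apply (a : W P → ℂ) (w : W P) : J P a w = a w⁻¹ := rfl

theorem J_J (a : W P → ℂ) : J P (J P a) = a := funext fun w => by simp [J_apply]

/-- the coefficient of the neighbour -/
noncomputable def cN (q : ℝ) (s : P.S) (w : W P) : ℂ :=
  if len P w < len P (σ P s * w) then (q : ℂ) else 1

/-- the diagonal coefficient -/
noncomputable def cD (q : ℝ) (s : P.S) (w : W P) : ℂ :=
  if len P w < len P (σ P s * w) then 0 else (q : ℂ) - 1

/-- left multiplication by a generator of the Hecke algebra -/
noncomputable def L (q : ℝ) (s : P.S) : (W P → ℂ) →ₗ[ℂ] (W P → ℂ) where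
  toFun a := fun w => cN P q s w * a (σ P s * w) + cD P q s w * a w
  map_add' a b := funext fun w => by simp only [Pi.add_apply]; ring
  map_smul' c a := funext fun w => by simp only [Pi.smul_apply, smul_eq_mul, RingHom.id_apply]; ring

theorem L_apply (q : ℝ) (s : P.S) (a : W P → ℂ) (w : W P) :
    L P q s a w = cN P q s w * a (σ P s * w) + cD P q s w * a w := rfl

/-- right multiplication by a generator -/
noncomputable def R (q : ℝ) (s : P.S) : (W P → ℂ) →ₗ[ℂ] (W P → ℂ) :=
  J P ∘ₗ L P q s ∘ₗ J P

theorem R_apply (q : ℝ) (s : P.S) (a : W P → ℂ) (w : W P) :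
    R P q s a w = cN P q s w⁻¹ * a (w * σ P s) + cD P q s w⁻¹ * a w := by
  simp [R, J_apply, L_apply, σ_inv]

theorem comm (q : ℝ) (s t : P.S) (a : W P → ℂ) :
    L P q s (R P q t a) = R P q t (L P q s a) := by
  funext w
  simp only [L_apply, R_apply]
  have key : ∀ v : W P, (len P v⁻¹ < len P (σ P t * v⁻¹)) ↔ len P v < len P (v * σ P t) := fun v => by
    rw [len_inv, ← len_inv P (v * σ P t), mul_inv_rev, σ_inv]
  by_cases h : σ P s * w = w * σ P t
  · have e1 : σ P s * (w * σ P t) = w := by rw [← h, σ_cancel]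
    have e2 : σ P s * w * σ P t = w := by rw [h, mul_assoc, σ_mul_self, mul_one]
    have c1 : cN P q s w = cN P q t w⁻¹ := by simp only [cN, key, h]
    have c2 : cN P q t (σ P s * w)⁻¹ = cN P q s (w * σ P t) := by
      simp only [cN, key, e1]
      rw [h, mul_assoc, σ_mul_self, mul_one]
    have c3 : cD P q t (σ P s * w)⁻¹ = cD P q s (w * σ P t) := by
      simp only [cD, key, e1]
      rw [h, mul_assoc, σ_mul_self, mul_one]
    have c4 : cD P q s w = cD P q t w⁻¹ := by simp only [cD, key, h]
    rw [e1, e2, ← h, c1, c2, c3, c4, ← h]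
  · have i1 := descent_iff P h
    have i2 : len P w < len P (w * σ P t) ↔ len P (σ P s * w) < len P (σ P s * w * σ P t) := by
      have := descent_iff P (s := t) (t := s) (w := w⁻¹) (fun e => h (by
        have e' := congrArg Inv.inv e
        simp only [mul_inv_rev, inv_inv, σ_inv] at e'
        exact e'.symm))
      rw [key] at this
      rw [this, show w⁻¹ * σ P s = (σ P s * w)⁻¹ by rw [mul_inv_rev, σ_inv], key]
    have c1 : cN P q t (σ P s * w)⁻¹ = cN P q t w⁻¹ := by simp only [cN, key, i2]
    have c2 : cD P q t (σ P s * w)⁻¹ = cD P q t w⁻¹ := by simp only [cD, key, i2]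
    have c3 : cN P q s (w * σ P t) = cN P q s w := by simp only [cN, i1]
    have c4 : cD P q s (w * σ P t) = cD P q s w := by simp only [cD, i1]
    rw [c1, c2, c3, c4, mul_assoc (σ P s)]
    ring

theorem quad (q : ℝ) (s : P.S) (a : W P → ℂ) :
    L P q s (L P q s a) = (q : ℂ) • a + ((q : ℂ) - 1) • L P q s a := by
  funext w
  simp only [L_apply, Pi.add_apply, Pi.smul_apply, smul_eq_mul, σ_cancel]
  rcases len_lt_or_gt P s w with h | h
  · have h' : len P (σ P s * w) < len P (σ P s * (σ P s * w)) := by rwa [σ_cancel]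
    simp only [cN, cD, not_lt.2 h.le, h', if_true, if_false]
    ring
  · have h' : ¬ len P (σ P s * w) < len P (σ P s * (σ P s * w)) := by rw [σ_cancel]; omega
    simp only [cN, cD, h', h, if_true, if_false]
    ring

/-- the operator of a word -/
noncomputable def Lw (q : ℝ) : List P.S → ((W P → ℂ) →ₗ[ℂ] (W P → ℂ))
  | [] => LinearMap.id
  | s :: l => L P q s ∘ₗ Lw q l

theorem Lw_append (q : ℝ) : ∀ (l m : List P.S) (a : W P → ℂ),
    Lw P q (l ++ m) a = Lw P q l (Lw P q m a)
  | [], _, _ => rfl
  | s :: l, m, a => by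
    show L P q s (Lw P q (l ++ m) a) = _
    rw [Lw_append q l m a]; rfl

theorem Lw_R (q : ℝ) : ∀ (l : List P.S) (t : P.S) (a : W P → ℂ),
    Lw P q l (R P q t a) = R P q t (Lw P q l a)
  | [], _, _ => rfl
  | s :: l, t, a => by
    show L P q s (Lw P q l (R P q t a)) = _
    rw [Lw_R q l t a, comm]; rfl

/-- the operator of a word acting on the right -/
noncomputable def Rw (q : ℝ) (l : List P.S) : (W P → ℂ) →ₗ[ℂ] (W P → ℂ) :=
  J P ∘ₗ Lw P q l ∘ₗ J P

theorem Rw_nil (q : ℝ) (a : W P → ℂ) : Rw P q [] a = a := by simp [Rw, Lw, J_J]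

theorem Rw_cons (q : ℝ) (s : P.S) (l : List P.S) (a : W P → ℂ) :
    Rw P q (s :: l) a = R P q s (Rw P q l a) := by
  simp [Rw, Lw, R, J_J]

theorem L_Rw (q : ℝ) (s : P.S) : ∀ (l : List P.S) (a : W P → ℂ),
    L P q s (Rw P q l a) = Rw P q l (L P q s a)
  | [], a => by rw [Rw_nil, Rw_nil]
  | t :: l, a => by rw [Rw_cons, Rw_cons, comm, L_Rw q s l a]

open Classical in
/-- the delta function -/
noncomputable def δ (v : W P) : W P → ℂ := fun w => if w = v then 1 else 0

theorem L_δ (q : ℝ) {s : P.S} {v : W P} (h : len P v < len P (σ P s * v)) :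
    L P q s (δ P v) = δ P (σ P s * v) := by
  funext w
  simp only [L_apply, δ]
  by_cases h1 : w = σ P s * v
  · subst h1
    have hne : σ P s * v ≠ v := fun e => by rw [e] at h; omega
    simp [cN, cD, σ_cancel, hne, not_lt.2 h.le]
  · have h2 : σ P s * w ≠ v := fun e => h1 (by rw [← e, σ_cancel])
    by_cases h3 : w = v
    · subst h3; simp [cD, h, h1, h2]
    · simp [h1, h2, h3]

theorem Lw_δ (q : ℝ) : ∀ (l : List P.S), len P (wp P l) = l.length →
    Lw P q l (δ P 1) = δ P (wp P l)
  | [], _ => rfl
  | s :: l, h => by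
    rw [wp_cons, List.length_cons] at h
    have h1 := len_wp_le P l
    have h2 := len_σ_mul_le P s (wp P l)
    show L P q s (Lw P q l (δ P 1)) = _
    rw [Lw_δ q l (by omega), L_δ P q (by omega), wp_cons]

theorem ext_R [Finite (W P)] (q : ℝ) {X Y : (W P → ℂ) →ₗ[ℂ] (W P → ℂ)}
    (hX : ∀ t a, X (R P q t a) = R P q t (X a)) (hY : ∀ t a, Y (R P q t a) = R P q t (Y a))
    (h : X (δ P 1) = Y (δ P 1)) : X = Y := by
  classical
  have hR : ∀ (l : List P.S), X (Rw P q l (δ P 1)) = Y (Rw P q l (δ P 1)) := by
    intro l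
    induction l with
    | nil => rw [Rw_nil, h]
    | cons s l ih => rw [Rw_cons, hX, hY, ih]
  refine (Pi.basisFun ℂ (W P)).ext fun v => ?_
  have e : Pi.basisFun ℂ (W P) v = δ P v := by
    funext w; simp [δ, Pi.single_apply]
  rw [e]
  obtain ⟨l, hl, hv⟩ := exists_reduced P v⁻¹
  have hJ : J P (δ P 1) = δ P 1 := by funext w; simp [J_apply, δ]
  have : Rw P q l (δ P 1) = δ P v := by
    simp only [Rw, LinearMap.comp_apply, hJ]
    rw [Lw_δ P q l (by rw [hv, hl]), hv]
    funext w; simp [J_apply, δ, inv_eq_iff_eq_inv]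
  rw [← this]
  exact hR l

/-- left multiplication by a basis element -/
noncomputable def LW (q : ℝ) (v : W P) : (W P → ℂ) →ₗ[ℂ] (W P → ℂ) :=
  Lw P q (exists_reduced P v).choose

theorem LW_eq [Finite (W P)] (q : ℝ) {l : List P.S} (hl : len P (wp P l) = l.length) :
    LW P q (wp P l) = Lw P q l := by
  obtain ⟨h1, h2⟩ := (exists_reduced P (wp P l)).choose_spec
  refine ext_R P q (fun t a => Lw_R P q _ t a) (fun t a => Lw_R P q _ t a) ?_
  rw [LW, Lw_δ P q _ (by rw [h2, h1]), Lw_δ P q _ hl, h2]

theorem LW_one [Finite (W P)] (q : ℝ) : LW P q 1 = LinearMap.id := by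
  rw [← wp_nil P, LW_eq P q (l := []) (by simp)]; rfl

theorem LW_step [Finite (W P)] (q : ℝ) {s : P.S} {u : W P} (h : len P u < len P (σ P s * u)) :
    LW P q (σ P s * u) = L P q s ∘ₗ LW P q u := by
  obtain ⟨h1, h2⟩ := (exists_reduced P u).choose_spec
  have := len_σ_mul_le P s u
  conv_lhs => rw [← h2, ← wp_cons, LW_eq P q (l := s :: _) (by rw [wp_cons, h2, List.length_cons, h1]; omega)]
  rfl

/-- right multiplication by the inverse basis element -/
noncomputable def RW (q : ℝ) (v : W P) : (W P → ℂ) →ₗ[ℂ] (W P → ℂ) :=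
  J P ∘ₗ LW P q v ∘ₗ J P

theorem RW_step [Finite (W P)] (q : ℝ) {s : P.S} {u : W P} (h : len P u < len P (σ P s * u))
    (a : W P → ℂ) : RW P q (σ P s * u) a = R P q s (RW P q u a) := by
  simp [RW, R, LW_step P q h, J_J]

theorem L_RW (q : ℝ) (s : P.S) (u : W P) (a : W P → ℂ) :
    L P q s (RW P q u a) = RW P q u (L P q s a) := L_Rw P q s _ a

variable [Fintype (W P)]

/-- the averaging operator -/
noncomputable def C (q : ℝ) : (W P → ℂ) →ₗ[ℂ] (W P → ℂ) :=
  ∑ u : W P, ((q : ℂ) ^ len P u)⁻¹ • (RW P q u ∘ₗ LW P q u)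

/-- the difference of left and right multiplication by the generators -/
noncomputable def D (q : ℝ) : (W P → ℂ) →ₗ[ℂ] (P.S → W P → ℂ) :=
  LinearMap.pi fun s => L P q s - R P q s

/-- the centre -/
noncomputable def Z (q : ℝ) : Submodule ℂ (W P → ℂ) := LinearMap.ker (D P q)

theorem mem_Z {q : ℝ} {a : W P → ℂ} : a ∈ Z P q ↔ ∀ s, L P q s a = R P q s a := by
  rw [Z, LinearMap.mem_ker, funext_iff]
  simp only [D, LinearMap.pi_apply, LinearMap.sub_apply, Pi.zero_apply, sub_eq_zero]

theorem quad_R (q : ℝ) (s : P.S) (a : W P → ℂ) :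
    R P q s (R P q s a) = (q : ℂ) • a + ((q : ℂ) - 1) • R P q s a := by
  simp only [R, LinearMap.comp_apply, J_J, quad, map_add, map_smul]

theorem C_mem (q : ℝ) (hq : q ≠ 0) (a : W P → ℂ) : C P q a ∈ Z P q := by
  classical
  rw [mem_Z]
  intro s
  rw [← sub_eq_zero, ← LinearMap.sub_apply]
  simp only [C, LinearMap.sum_apply, map_sum, LinearMap.smul_apply, LinearMap.comp_apply, map_smul]
  set F : W P → (W P → ℂ) := fun u =>
    ((q : ℂ) ^ len P u)⁻¹ • (L P q s - R P q s) (RW P q u (LW P q u a)) with hF
  show ∑ u, F u = 0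
  have h2 : ∀ u, len P u < len P (σ P s * u) → F u + F (σ P s * u) = 0 := by
    intro u hu
    set X := RW P q u (LW P q u a) with hX
    have hX' : RW P q (σ P s * u) (LW P q (σ P s * u) a) = R P q s (L P q s X) := by
      rw [RW_step P q hu, LW_step P q hu, LinearMap.comp_apply, ← L_RW, hX]
    have hl : len P (σ P s * u) = len P u + 1 := by have := len_σ_mul_le P s u; omega
    have hq' : (q : ℂ) ≠ 0 := Complex.ofReal_ne_zero.2 hq
    simp only [hF, LinearMap.sub_apply, hX', hl]
    rw [comm P q s s, quad, quad_R, map_add, map_smul, map_smul, ← comm P q s s, ← hX]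
    funext w
    simp only [Pi.add_apply, Pi.smul_apply, Pi.sub_apply, smul_eq_mul, Pi.zero_apply, pow_succ]
    field_simp
    ring
  have hpair : ∑ u ∈ Finset.univ.filter (fun u => ¬ len P u < len P (σ P s * u)), F u =
      ∑ u ∈ Finset.univ.filter (fun u => len P u < len P (σ P s * u)), F (σ P s * u) := by
    refine Finset.sum_nbij' (fun u => σ P s * u) (fun u => σ P s * u) ?_ ?_
      (fun u _ => σ_cancel P s u) (fun u _ => σ_cancel P s u) (fun u _ => by rw [σ_cancel])
    · intro u hu
      simp only [Finset.mem_filter, Finset.mem_univ, true_and, σ_cancel] at hu ⊢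
      rcases len_lt_or_gt P s u with h | h
      · exact h
      · exact absurd h hu
    · intro u hu
      simp only [Finset.mem_filter, Finset.mem_univ, true_and, σ_cancel] at hu ⊢
      omega
  rw [← Finset.sum_filter_add_sum_filter_not Finset.univ (fun u => len P u < len P (σ P s * u)), hpair,
    ← Finset.sum_add_distrib]
  exact Finset.sum_eq_zero fun u hu => h2 u (Finset.mem_filter.1 hu).2

/-- the weighted inner product -/
noncomputable def ip (q : ℝ) (a b : W P → ℂ) : ℂ :=
  ∑ w : W P, (q : ℂ) ^ len P w * (conj (a w) * b w)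

theorem ip_L (q : ℝ) (s : P.S) (a b : W P → ℂ) : ip P q (L P q s a) b = ip P q a (L P q s b) := by
  simp only [ip, L_apply, map_add, map_mul]
  have hc : ∀ w, conj (cN P q s w) = cN P q s w := fun w => by
    simp only [cN]; split_ifs <;> simp
  have hd : ∀ w, conj (cD P q s w) = cD P q s w := fun w => by
    simp only [cD]; split_ifs <;> simp
  simp only [hc, hd, mul_add, add_mul, Finset.sum_add_distrib]
  congr 1
  · refine Fintype.sum_equiv (Equiv.mulLeft (σ P s)) _ _ fun w => ?_
    simp only [Equiv.coe_mulLeft, σ_cancel]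
    have hwt : (q : ℂ) ^ len P w * cN P q s w = (q : ℂ) ^ len P (σ P s * w) * cN P q s (σ P s * w) := by
      have h1 := len_σ_mul_le P s w
      have h2 := len_le_σ_mul P s w
      simp only [cN, σ_cancel]
      rcases len_lt_or_gt P s w with h | h
      · rw [if_neg (by omega), if_pos h, mul_one, ← pow_succ]
        congr 1; omega
      · rw [if_pos h, if_neg (by omega), mul_one, ← pow_succ]
        congr 1; omega
    linear_combination (conj (a (σ P s * w)) * b w) * hwt
  · exact Finset.sum_congr rfl fun w _ => by ring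

theorem ip_Lw (q : ℝ) : ∀ (l : List P.S) (a b : W P → ℂ),
    ip P q (Lw P q l a) b = ip P q a (Lw P q l.reverse b)
  | [], _, _ => rfl
  | s :: l, a, b => by
    show ip P q (L P q s (Lw P q l a)) b = _
    rw [ip_L, ip_Lw q l, List.reverse_cons, Lw_append]
    rfl

theorem Rw_of_mem {q : ℝ} {z : W P → ℂ} (hz : z ∈ Z P q) : ∀ l : List P.S,
    Rw P q l z = Lw P q l.reverse z
  | [] => by rw [Rw_nil]; rfl
  | s :: l => by
    rw [Rw_cons, Rw_of_mem hz l, List.reverse_cons, Lw_append, ← Lw_R]
    exact congrArg _ ((mem_Z P).1 hz s).symm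

theorem C_inj {q : ℝ} (hq : 0 < q) {z : W P → ℂ} (hz : z ∈ Z P q) (h : C P q z = 0) : z = 0 := by
  classical
  have h0 : (ip P q z (C P q z)).re = 0 := by
    have : ip P q z 0 = 0 := by simp [ip]
    rw [h, this, Complex.zero_re]
  have hterm : ∀ u, ip P q z (RW P q u (LW P q u z)) =
      ip P q (Lw P q (exists_reduced P u).choose.reverse z) (Lw P q (exists_reduced P u).choose.reverse z) := by
    intro u
    show ip P q z (Rw P q _ (LW P q u z)) = _
    have hmem : LW P q u (Rw P q (exists_reduced P u).choose z) = Rw P q (exists_reduced P u).choose (LW P q u z) := by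
      have key : ∀ (m l : List P.S) (a : W P → ℂ), Lw P q m (Rw P q l a) = Rw P q l (Lw P q m a) := by
        intro m l a
        induction m with
        | nil => rfl
        | cons s m ih =>
          show L P q s (Lw P q m (Rw P q l a)) = _
          rw [ih, L_Rw]; rfl
      exact key _ _ _
    rw [← hmem, Rw_of_mem P hz, ip_Lw, List.reverse_reverse]
    rfl
  have hipr : ∀ x : W P → ℂ, ip P q x x =
      ((∑ w : W P, q ^ len P w * Complex.normSq (x w) : ℝ) : ℂ) := fun x => by
    simp [ip, Complex.normSq_eq_conj_mul_self]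
  have hsum : ip P q z (C P q z) = ∑ u : W P, ((q : ℂ) ^ len P u)⁻¹ * ip P q z (RW P q u (LW P q u z)) := by
    simp only [C, ip, LinearMap.sum_apply, Finset.sum_apply, LinearMap.smul_apply, Pi.smul_apply,
      LinearMap.comp_apply, smul_eq_mul, Finset.mul_sum]
    rw [Finset.sum_comm]
    exact Finset.sum_congr rfl fun u _ => Finset.sum_congr rfl fun w _ => by ring
  rw [hsum, Complex.re_sum] at h0
  have hre : ∀ u : W P, 0 ≤ (((q : ℂ) ^ len P u)⁻¹ * ip P q z (RW P q u (LW P q u z))).re := by
    intro u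
    rw [hterm, hipr, ← Complex.ofReal_pow, ← Complex.ofReal_inv, ← Complex.ofReal_mul, Complex.ofReal_re]
    exact mul_nonneg (inv_nonneg.2 (pow_nonneg hq.le _))
      (Finset.sum_nonneg fun w _ => mul_nonneg (pow_nonneg hq.le _) (Complex.normSq_nonneg _))
  have h1 := (Finset.sum_eq_zero_iff_of_nonneg fun u _ => hre u).1 h0 1 (Finset.mem_univ _)
  rw [len_one, pow_zero, inv_one, one_mul, hterm, hipr, Complex.ofReal_re] at h1
  have hl : (exists_reduced P (1 : W P)).choose = [] := by
    exact List.length_eq_zero_iff.1 ((exists_reduced P (1 : W P)).choose_spec.1.trans (len_one P))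
  rw [hl] at h1
  funext w
  have h2 := (Finset.sum_eq_zero_iff_of_nonneg fun w _ =>
    mul_nonneg (pow_nonneg hq.le (len P w)) (Complex.normSq_nonneg (z w))).1 h1 w (Finset.mem_univ _)
  exact Complex.normSq_eq_zero.1 ((mul_eq_zero.1 h2).resolve_left (pow_pos hq _).ne')

theorem range_C {q : ℝ} (hq : 0 < q) : LinearMap.range (C P q) = Z P q := by
  have hle : LinearMap.range (C P q) ≤ Z P q := by
    rintro _ ⟨a, rfl⟩; exact C_mem P q hq.ne' a
  refine Submodule.eq_of_le_of_finrank_le hle ?_
  let f : Z P q →ₗ[ℂ] LinearMap.range (C P q) := (C P q).rangeRestrict ∘ₗ (Z P q).subtype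
  refine LinearMap.finrank_le_finrank_of_injective (f := f) ?_
  rw [injective_iff_map_eq_zero]
  intro z hz
  exact Subtype.ext (C_inj P hq z.2 (congrArg Subtype.val hz))

theorem continuous_L {X : Type*} [TopologicalSpace X] {q : X → ℝ} (hq : Continuous q) (s : P.S)
    {f : X → W P → ℂ} (hf : Continuous f) : Continuous fun x => L P (q x) s (f x) := by
  refine continuous_pi fun w => ?_
  simp only [L_apply, cN, cD]
  split_ifs <;> fun_prop

theorem continuous_R {X : Type*} [TopologicalSpace X] {q : X → ℝ} (hq : Continuous q) (s : P.S)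
    {f : X → W P → ℂ} (hf : Continuous f) : Continuous fun x => R P (q x) s (f x) := by
  have hJ : ∀ {g : X → W P → ℂ}, Continuous g → Continuous fun x => J P (g x) := fun {g} hg =>
    continuous_pi fun w => (continuous_apply w⁻¹).comp hg
  exact hJ (continuous_L P hq s (hJ hf))

theorem continuous_Lw {X : Type*} [TopologicalSpace X] {q : X → ℝ} (hq : Continuous q) :
    ∀ (l : List P.S) {f : X → W P → ℂ}, Continuous f → Continuous fun x => Lw P (q x) l (f x)
  | [], _, hf => hf
  | s :: l, _, hf => continuous_L P hq s (continuous_Lw hq l hf)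

theorem continuous_C (a : W P → ℂ) :
    Continuous fun q : {r : ℝ // 0 < r} => C P (q : ℝ) a := by
  have hJ : ∀ {g : {r : ℝ // 0 < r} → W P → ℂ}, Continuous g → Continuous fun x => J P (g x) :=
    fun {g} hg => continuous_pi fun w => (continuous_apply w⁻¹).comp hg
  simp only [C, LinearMap.sum_apply, LinearMap.smul_apply, LinearMap.comp_apply]
  refine continuous_finsetSum _ fun u _ => continuous_pi fun w => ?_
  simp only [Pi.smul_apply, smul_eq_mul]
  refine Continuous.mul ?_ ((continuous_apply w).comp ?_)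
  · exact (by fun_prop : Continuous fun q : {r : ℝ // 0 < r} => ((q : ℝ) : ℂ) ^ len P u).inv₀
      fun q => pow_ne_zero _ (Complex.ofReal_ne_zero.2 q.2.ne')
  · exact hJ (continuous_Lw P continuous_subtype_val _ (hJ (continuous_Lw P continuous_subtype_val _ continuous_const)))

variable [Finite P.S]

theorem finrank_Z_locallyConstant :
    IsLocallyConstant fun q : {r : ℝ // 0 < r} => Module.finrank ℂ (Z P (q : ℝ)) := by
  classical
  haveI := Fintype.ofFinite P.S
  rw [IsLocallyConstant.iff_eventually_eq]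
  intro q₀
  -- the image does not shrink
  obtain ⟨b⟩ : Nonempty (Module.Basis (Fin (Module.finrank ℂ (LinearMap.range (C P (q₀ : ℝ))))) ℂ
      (LinearMap.range (C P (q₀ : ℝ)))) := ⟨Module.finBasis ℂ _⟩
  -- ℂ (LinearMap.range (C P (q₀ : ℝ)))
  have hpre : ∀ j, ∃ a, C P (q₀ : ℝ) a = (b j : W P → ℂ) := fun j => (b j).2
  choose a ha using hpre
  have h1 : ∀ᶠ q : {r : ℝ // 0 < r} in nhds q₀, LinearIndependent ℂ fun j => C P (q : ℝ) (a j) := by
    have hcont : Continuous fun q : {r : ℝ // 0 < r} => fun j => C P (q : ℝ) (a j) :=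
      continuous_pi fun j => continuous_C P (a j)
    refine hcont.continuousAt.eventually (IsOpen.mem_nhds
      (isOpen_setOfPred_linearIndependent (𝕜 := ℂ) (E := W P → ℂ)) ?_)
    show LinearIndependent ℂ fun j => C P (q₀ : ℝ) (a j)
    simp only [ha]
    have hli := b.linearIndependent.map' (LinearMap.range (C P (q₀ : ℝ))).subtype (Submodule.ker_subtype _)
    exact hli
  -- the kernel does not grow
  obtain ⟨V, hV⟩ := Submodule.exists_isCompl (Z P (q₀ : ℝ))
  obtain ⟨c⟩ : Nonempty (Module.Basis (Fin (Module.finrank ℂ V)) ℂ V) := ⟨Module.finBasis ℂ V⟩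
  have h2 : ∀ᶠ q : {r : ℝ // 0 < r} in nhds q₀,
      LinearIndependent ℂ fun j => D P (q : ℝ) (c j : W P → ℂ) := by
    have hcont : Continuous fun q : {r : ℝ // 0 < r} => fun j => D P (q : ℝ) (c j : W P → ℂ) :=
      continuous_pi fun j => continuous_pi fun s => by
        simp only [D, LinearMap.pi_apply, LinearMap.sub_apply]
        exact (continuous_L P continuous_subtype_val s continuous_const).sub
          (continuous_R P continuous_subtype_val s continuous_const)
    refine hcont.continuousAt.eventually (IsOpen.mem_nhds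
      (isOpen_setOfPred_linearIndependent (𝕜 := ℂ) (E := P.S → W P → ℂ)) ?_)
    show LinearIndependent ℂ fun j => D P (q₀ : ℝ) (c j : W P → ℂ)
    refine c.linearIndependent.map' ((D P (q₀ : ℝ)).comp V.subtype) ?_
    rw [LinearMap.ker_eq_bot']
    intro v hv
    refine Subtype.ext (Submodule.disjoint_def.1 hV.disjoint v ?_ v.2)
    exact LinearMap.mem_ker.2 hv
  filter_upwards [h1, h2] with q hq1 hq2
  apply le_antisymm
  · have hr : Module.finrank ℂ V ≤ Module.finrank ℂ (LinearMap.range (D P (q : ℝ))) := by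
      have := (LinearIndependent.of_comp (LinearMap.range (D P (q : ℝ))).subtype
        (v := fun j => (⟨_, LinearMap.mem_range_self _ (c j : W P → ℂ)⟩ : LinearMap.range (D P (q : ℝ))))
        hq2).fintype_card_le_finrank
      simpa using this
    have e1 := LinearMap.finrank_range_add_finrank_ker (D P (q : ℝ))
    have e2 := Submodule.finrank_add_eq_of_isCompl hV
    change _ + Module.finrank ℂ (Z P (q : ℝ)) = _ at e1
    omega
  · have hr : Module.finrank ℂ (LinearMap.range (C P (q₀ : ℝ))) ≤
        Module.finrank ℂ (LinearMap.range (C P (q : ℝ))) := by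
      have := (LinearIndependent.of_comp (LinearMap.range (C P (q : ℝ))).subtype
        (v := fun j => (⟨_, LinearMap.mem_range_self _ (a j)⟩ : LinearMap.range (C P (q : ℝ))))
        hq1).fintype_card_le_finrank
      simpa using this
    rwa [range_C P q₀.2, range_C P q.2] at hr

omit [Fintype (W P)] [Finite P.S] in
theorem cN_one (s : P.S) (w : W P) : cN P 1 s w = 1 := by simp [cN]

omit [Fintype (W P)] [Finite P.S] in
theorem cD_one (s : P.S) (w : W P) : cD P 1 s w = 0 := by simp [cD]

omit [Fintype (W P)] [Finite P.S] in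
theorem mem_Z_one {a : W P → ℂ} : (∀ s, L P 1 s a = R P 1 s a) ↔ ∀ v w : W P, a (v * w * v⁻¹) = a w := by
  constructor
  · intro h
    have hs : ∀ s w, a (σ P s * w * σ P s) = a w := fun s w => by
      have := congrFun (h s) (w * σ P s)
      simp only [L_apply, R_apply, cN_one, cD_one, one_mul, zero_mul, add_zero, mul_assoc, σ_mul_self,
        mul_one] at this
      rw [mul_assoc, this]
    intro v
    obtain ⟨l, rfl⟩ := exists_word P v
    induction l with
    | nil => simp
    | cons s l ih =>
      intro w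
      rw [wp_cons, mul_inv_rev, σ_inv, show σ P s * wp P l * w * ((wp P l)⁻¹ * σ P s) =
        σ P s * (wp P l * w * (wp P l)⁻¹) * σ P s by simp only [mul_assoc], hs, ih]
  · intro h s
    funext w
    simp only [L_apply, R_apply, cN_one, cD_one, one_mul, zero_mul, add_zero]
    rw [← h (σ P s) (w * σ P s), σ_inv, mul_assoc, mul_assoc, σ_mul_self, mul_one]

theorem finrank_Z_one : Module.finrank ℂ (Z P 1) = Nat.card (ConjClasses (W P)) := by
  classical
  haveI := Fintype.ofFinite (ConjClasses (W P))
  let e : (ConjClasses (W P) → ℂ) →ₗ[ℂ] (W P → ℂ) := LinearMap.funLeft ℂ ℂ ConjClasses.mk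
  have hinj : Function.Injective e := LinearMap.funLeft_injective_of_surjective _ _ _ ConjClasses.mk_surjective
  have hr : LinearMap.range e = Z P 1 := by
    ext a
    rw [mem_Z P, mem_Z_one]
    constructor
    · rintro ⟨f, rfl⟩ v w
      simp only [e, LinearMap.funLeft_apply]
      exact congrArg f (ConjClasses.mk_eq_mk_iff_isConj.2 (isConj_iff.2 ⟨v, rfl⟩).symm)
    · intro h
      refine ⟨Quotient.lift a fun x y (hxy : IsConj x y) => ?_, funext fun w => rfl⟩
      obtain ⟨v, rfl⟩ := isConj_iff.1 hxy
      exact (h v x).symm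
  rw [← hr, LinearMap.finrank_range_of_inj hinj, Module.finrank_fintype_fun_eq_card,
    Nat.card_eq_fintype_card]

/-- Tits' deformation principle for the centre of the Hecke algebra. -/
theorem finrank_Z {q : ℝ} (hq : 0 < q) :
    Module.finrank ℂ (Z P q) = Nat.card (ConjClasses (W P)) := by
  haveI : PreconnectedSpace {r : ℝ // 0 < r} :=
    Subtype.preconnectedSpace (isPreconnected_Ioi (a := (0 : ℝ)))
  rw [← finrank_Z_one P]
  exact (finrank_Z_locallyConstant P).apply_eq_of_preconnectedSpace ⟨q, hq⟩ ⟨1, one_pos⟩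

end Hecke

end Cfsg.Agent.BN
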