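import Cfsg.Agent.Lib.Steinberg.HeckeGeneric
import Cfsg.Agent.Lib.Steinberg.Semisimple
import Cfsg.Agent.Lib.Char.Convolution
import Cfsg.Agent.Lib.Char.Complete

/-!
# The constituents of the permutation character on the cosets of a Borel subgroup
-/

set_option autoImplicit false

open scoped ComplexConjugate

namespace Cfsg.Agent.BN.HG

variable {G : Type*} [Group G] (P : Cfsg.BNPair G)

/-- the Bruhat cell containing an element -/
noncomputable def cw (g : G) : W P := (bruhat P g).choose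

theorem cw_spec (g : G) : g ∈ cell P (cw P g) := (bruhat P g).choose_spec

theorem cw_eq {g : G} {v : W P} (h : g ∈ cell P v) : cw P g = v := eq_of_mem_cell P (cw_spec P g) h

theorem cw_mem_iff {g : G} {v : W P} : g ∈ cell P v ↔ cw P g = v :=
  ⟨cw_eq P, fun h => h ▸ cw_spec P g⟩

theorem cw_inv (g : G) : cw P g⁻¹ = (cw P g)⁻¹ := cw_eq P (cell_inv P (cw_spec P g))

theorem cw_B_left {b : G} (hb : b ∈ P.B) (g : G) : cw P (b * g) = cw P g :=
  cw_eq P (cell_mul_left P hb (cw_spec P g))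

theorem cw_B_right {b : G} (hb : b ∈ P.B) (g : G) : cw P (g * b) = cw P g :=
  cw_eq P (cell_mul_right P hb (cw_spec P g))

theorem inv_mem_σ {s : P.S} {x : G} (hx : x ∈ cell P (σ P s)) : x⁻¹ ∈ cell P (σ P s) := by
  simpa [σ_inv] using cell_inv P hx

variable [Fintype G]

open Classical in
/-- a cell as a finset -/
noncomputable def cellF (v : W P) : Finset G := Finset.univ.filter fun g => cw P g = v

theorem mem_cellF {v : W P} {g : G} : g ∈ cellF P v ↔ g ∈ cell P v := by
  simp [cellF, cw_mem_iff]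

theorem card_cellF (v : W P) : (cellF P v).card = Nat.card (cell P v) := by
  classical
  rw [Nat.card_eq_fintype_card, ← Fintype.card_coe]
  exact Fintype.card_congr (Equiv.subtypeEquivRight fun g => mem_cellF P)

theorem cellF_card_ne (v : W P) : ((cellF P v).card : ℂ) ≠ 0 := by
  obtain ⟨g, hg⟩ := cell_nonempty P v
  exact Nat.cast_ne_zero.2 (Finset.card_ne_zero.2 ⟨g, (mem_cellF P).2 hg⟩)

theorem sum_cell_orbit {v : W P} [Fintype P.B] {y : G} (hy : y ∈ cell P v) (φ : G → ℂ) :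
    ((cellF P v).card : ℂ) * ∑ b : P.B, ∑ c : P.B, φ ((b : G) * y * c) =
      (Fintype.card P.B : ℂ) ^ 2 * ∑ z ∈ cellF P v, φ z := by
  classical
  have key : ∀ z ∈ cellF P v, ∑ b : P.B, ∑ c : P.B, φ ((b : G) * z * c) =
      ∑ b : P.B, ∑ c : P.B, φ ((b : G) * y * c) := by
    intro z hz
    have hz' := (mem_cellF P).1 hz
    rw [cell, ← dc_eq_of_mem P hy] at hz'
    obtain ⟨a, ha, d, hd, rfl⟩ := DoubleCoset.mem_doubleCoset.1 hz'
    refine Fintype.sum_equiv (Equiv.mulRight ⟨a, ha⟩) _ _ fun b => ?_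
    refine Fintype.sum_equiv (Equiv.mulLeft ⟨d, hd⟩) _ _ fun c => ?_
    simp [mul_assoc]
  have h1 : ∑ z ∈ cellF P v, ∑ b : P.B, ∑ c : P.B, φ ((b : G) * z * c) =
      ((cellF P v).card : ℂ) * ∑ b : P.B, ∑ c : P.B, φ ((b : G) * y * c) := by
    rw [Finset.sum_congr rfl key, Finset.sum_const, nsmul_eq_mul]
  rw [← h1, Finset.sum_comm, Finset.sum_congr rfl fun b _ => Finset.sum_comm]
  have h2 : ∀ b c : P.B, ∑ z ∈ cellF P v, φ ((b : G) * z * c) = ∑ z ∈ cellF P v, φ z := by
    intro b c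
    refine Finset.sum_nbij' (fun z => (b : G) * z * c) (fun z => (b : G)⁻¹ * z * (c : G)⁻¹) ?_ ?_
      (fun z _ => by group) (fun z _ => by group) (fun z _ => rfl)
    · intro z hz
      exact (mem_cellF P).2 (cell_mul_right P c.2 (cell_mul_left P b.2 ((mem_cellF P).1 hz)))
    · intro z hz
      exact (mem_cellF P).2 (cell_mul_right P (inv_mem c.2) (cell_mul_left P (inv_mem b.2) ((mem_cellF P).1 hz)))
  simp only [h2, Finset.sum_const, Finset.card_univ, nsmul_eq_mul]
  ring

variable (q : ℕ) (hq : ∀ s : P.S, Nat.card (cell P (σ P s)) = q * Nat.card P.B)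

open Classical in
theorem card_fibre {s : P.S} {u : W P} (h : len P u < len P (σ P s * u)) {z : G}
    (hz : z ∈ cell P (σ P s * u)) :
    ((cellF P (σ P s)).filter fun x => cw P (x⁻¹ * z) = u).card = Nat.card P.B := by
  classical
  obtain ⟨n, hn, rfl⟩ := exists_rep P u
  rw [σ, ← wmk_mul P (P.subset s.2) hn, cell_mk] at hz
  obtain ⟨a, ha, d, hd, rfl⟩ := DoubleCoset.mem_doubleCoset.1 hz
  have hx₀ : a * (s : G) ∈ cell P (σ P s) := cell_mul_left P ha (self_mem_cell_σ P s)
  have hy₀ : n * d ∈ cell P (wmk P n hn) := by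
    rw [cell_mk]; exact DoubleCoset.mem_doubleCoset.2 ⟨1, one_mem _, d, hd, by simp⟩
  rw [Nat.card_eq_fintype_card, ← Fintype.card_coe]
  refine (Fintype.card_congr (Equiv.ofBijective (fun b : P.B =>
    (⟨a * (s : G) * b, ?_⟩ : {x // x ∈ (cellF P (σ P s)).filter fun x =>
      cw P (x⁻¹ * (a * ((s : G) * n) * d)) = wmk P n hn})) ⟨?_, ?_⟩)).symm
  · rw [Finset.mem_filter, mem_cellF]
    refine ⟨cell_mul_right P b.2 hx₀, ?_⟩
    rw [show (a * (s : G) * b)⁻¹ * (a * ((s : G) * n) * d) = (b : G)⁻¹ * (n * d) by group,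
      cw_B_left P (inv_mem b.2)]
    exact cw_eq P hy₀
  · intro b c hbc
    exact Subtype.ext (mul_left_cancel (congrArg Subtype.val hbc :))
  · rintro ⟨x, hx⟩
    rw [Finset.mem_filter, mem_cellF] at hx
    obtain ⟨hx1, hx2⟩ := hx
    have hm := (cw_mem_iff P).2 hx2
    refine ⟨⟨(a * (s : G))⁻¹ * x, ?_⟩, Subtype.ext (by group)⟩
    have hmul := mul_mem_cell P s (σ P s) (inv_mem_σ P hx₀) hx1
    rw [σ_mul_self, cell_one] at hmul
    rcases hmul with h' | h'
    · exact h'
    · exfalso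
      have h'' := mul_mem_cell_of_le P s _ h.le h' hm
      rw [show (a * (s : G))⁻¹ * x * (x⁻¹ * (a * ((s : G) * n) * d)) = n * d by group] at h''
      exact σ_ne_one P s (mul_eq_right.1 (eq_of_mem_cell P h'' hy₀))

theorem sum_mul_cell {s : P.S} {u : W P} (h : len P u < len P (σ P s * u)) (F : G → ℂ) :
    ∑ x ∈ cellF P (σ P s), ∑ y ∈ cellF P u, F (x * y) =
      (Nat.card P.B : ℂ) * ∑ z ∈ cellF P (σ P s * u), F z := by
  classical
  have e : ∀ x ∈ cellF P (σ P s), ∑ y ∈ cellF P u, F (x * y) =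
      ∑ z ∈ cellF P (σ P s * u), if cw P (x⁻¹ * z) = u then F z else 0 := by
    intro x hx
    rw [← Finset.sum_filter]
    refine Finset.sum_nbij' (fun y => x * y) (fun z => x⁻¹ * z) ?_ ?_ (fun y _ => by group)
      (fun z _ => by group) (fun y _ => rfl)
    · intro y hy
      rw [mem_cellF] at hy
      rw [Finset.mem_filter, mem_cellF]
      exact ⟨mul_mem_cell_of_le P s u h.le ((mem_cellF P).1 hx) hy,
        by rw [inv_mul_cancel_left]; exact cw_eq P hy⟩
    · intro z hz
      rw [Finset.mem_filter] at hz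
      rw [mem_cellF]
      exact (cw_mem_iff P).2 hz.2
  rw [Finset.sum_congr rfl e, Finset.sum_comm, Finset.mul_sum]
  refine Finset.sum_congr rfl fun z hz => ?_
  rw [← Finset.sum_filter, Finset.sum_const, card_fibre P h ((mem_cellF P).1 hz), nsmul_eq_mul]

include hq in
theorem card_cellF_eq (u : W P) : ((cellF P u).card : ℂ) = (q : ℂ) ^ len P u * (Nat.card P.B : ℂ) := by
  classical
  induction hk : len P u generalizing u with
  | zero =>
    rw [(len_eq_zero P).1 hk, card_cellF, cell_one, pow_zero, one_mul]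
    rfl
  | succ k ih =>
    obtain ⟨l, hl, hlu⟩ := exists_reduced P u
    cases l with
    | nil => simp at hl; omega
    | cons s l =>
      rw [List.length_cons, hk] at hl
      rw [wp_cons] at hlu
      have h1 := len_wp_le P l
      have h2 := len_σ_mul_le P s (wp P l)
      rw [hlu, hk] at h2
      have hl' : len P (wp P l) = k := by omega
      have hup : len P (wp P l) < len P (σ P s * wp P l) := by rw [hlu, hk, hl']; omega
      have h := sum_mul_cell P hup (fun _ => (1 : ℂ))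
      simp only [Finset.sum_const, nsmul_eq_mul, mul_one, hlu, ih _ hl'] at h
      rw [card_cellF P (σ P s), hq, Nat.cast_mul] at h
      have hB : (Nat.card P.B : ℂ) ≠ 0 := Nat.cast_ne_zero.2 Nat.card_pos.ne'
      refine mul_left_cancel₀ hB ?_
      rw [← h, pow_succ]; ring

include hq in
theorem sum_L (a : W P → ℂ) (s : P.S) (y : G) :
    ∑ x ∈ cellF P (σ P s), a (cw P (x⁻¹ * y)) =
      (Nat.card P.B : ℂ) * Hecke.L P (q : ℝ) s a (cw P y) := by
  classical
  have hy := cw_spec P y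
  have hcard : ((cellF P (σ P s)).card : ℂ) = (q : ℂ) * (Nat.card P.B : ℂ) := by
    rw [card_cellF, hq, Nat.cast_mul]
  rw [Hecke.L_apply, Hecke.cN, Hecke.cD]
  rcases len_lt_or_gt P s (cw P y) with h | h
  · have hup : len P (σ P s * cw P y) < len P (σ P s * (σ P s * cw P y)) := by rwa [σ_cancel]
    have hfib := card_fibre P hup (z := y) (by rwa [σ_cancel])
    have hsplit := Finset.card_filter_add_card_filter_not (s := cellF P (σ P s))
      (fun x => cw P (x⁻¹ * y) = σ P s * cw P y)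
    rw [← Finset.sum_filter_add_sum_filter_not _ (fun x => cw P (x⁻¹ * y) = σ P s * cw P y),
      Finset.sum_congr rfl (fun x hx => congrArg a (Finset.mem_filter.1 hx).2),
      Finset.sum_congr (s₁ := (cellF P (σ P s)).filter fun x => ¬ cw P (x⁻¹ * y) = σ P s * cw P y) rfl
        (g := fun _ => a (cw P y)) (fun x hx => by
        rw [Finset.mem_filter, mem_cellF] at hx
        rcases mul_mem_cell P s (cw P y) (inv_mem_σ P hx.1) hy with h' | h'
        · exact absurd (cw_eq P h') hx.2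
        · rw [cw_eq P h']), Finset.sum_const, Finset.sum_const, hfib, nsmul_eq_mul, nsmul_eq_mul,
      if_neg (by omega), if_neg (by omega), Complex.ofReal_natCast]
    rw [hfib] at hsplit
    rw [← hsplit, Nat.cast_add] at hcard
    linear_combination (a (cw P y)) * hcard
  · rw [Finset.sum_congr rfl (g := fun _ => a (σ P s * cw P y)) (fun x hx => congrArg a
      (cw_eq P (mul_mem_cell_of_le P s _ h.le (inv_mem_σ P ((mem_cellF P).1 hx)) hy))),
      Finset.sum_const, nsmul_eq_mul, hcard, if_pos h, if_pos h, Complex.ofReal_natCast]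
    ring

variable [Fintype (W P)]

include hq in
theorem sum_LW (a : W P → ℂ) : ∀ (u : W P) (y : G),
    ∑ x ∈ cellF P u, a (cw P (x⁻¹ * y)) = (Nat.card P.B : ℂ) * Hecke.LW P (q : ℝ) u a (cw P y) := by
  intro u
  induction hk : len P u generalizing u with
  | zero =>
    intro y
    obtain rfl := (len_eq_zero P).1 hk
    rw [Hecke.LW_one, LinearMap.id_apply, Finset.sum_congr rfl (g := fun _ => a (cw P y)) fun x hx => by
        rw [mem_cellF, cell_one] at hx
        rw [cw_B_left P (inv_mem hx)],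
      Finset.sum_const, nsmul_eq_mul, card_cellF, cell_one]
    rfl
  | succ k ih =>
    intro y
    obtain ⟨l, hl, hlu⟩ := exists_reduced P u
    cases l with
    | nil => simp at hl; omega
    | cons s l =>
      rw [List.length_cons, hk] at hl
      rw [wp_cons] at hlu
      have h1 := len_wp_le P l
      have h2 := len_σ_mul_le P s (wp P l)
      rw [hlu, hk] at h2
      have hl' : len P (wp P l) = k := by omega
      have hup : len P (wp P l) < len P (σ P s * wp P l) := by rw [hlu, hk, hl']; omega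
      have h := sum_mul_cell P hup (fun z => a (cw P (z⁻¹ * y)))
      rw [hlu] at h
      have hB : (Nat.card P.B : ℂ) ≠ 0 := Nat.cast_ne_zero.2 Nat.card_pos.ne'
      refine mul_left_cancel₀ hB ?_
      rw [← h]
      have e : ∀ x ∈ cellF P (σ P s), ∑ z ∈ cellF P (wp P l), a (cw P ((x * z)⁻¹ * y)) =
          (Nat.card P.B : ℂ) * Hecke.LW P (q : ℝ) (wp P l) a (cw P (x⁻¹ * y)) := fun x _ => by
        rw [← ih _ hl' (x⁻¹ * y)]
        simp [mul_assoc]
      rw [Finset.sum_congr rfl e, ← Finset.mul_sum, sum_L P q hq, ← hlu, Hecke.LW_step P _ hup,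
        LinearMap.comp_apply]

include hq in
theorem sum_RW (a : W P → ℂ) (u : W P) (y : G) :
    ∑ x ∈ cellF P u, a (cw P (y * x)) = (Nat.card P.B : ℂ) * Hecke.RW P (q : ℝ) u a (cw P y) := by
  have h := sum_LW P q hq (Hecke.J P a) u y⁻¹
  rw [cw_inv] at h
  rw [Hecke.RW, LinearMap.comp_apply, LinearMap.comp_apply, Hecke.J_apply, ← h]
  exact Finset.sum_congr rfl fun x _ => by rw [Hecke.J_apply, ← cw_inv, mul_inv_rev, inv_inv, inv_inv]

/-- the class function attached to a function on `W` -/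
noncomputable def cl (a : W P → ℂ) (y : G) : ℂ := ∑ x : G, a (cw P (x⁻¹ * y * x))

/-- the average over a cell -/
noncomputable def avgC : (G → ℂ) →ₗ[ℂ] (W P → ℂ) where
  toFun φ := fun v => ((cellF P v).card : ℂ)⁻¹ * ∑ y ∈ cellF P v, φ y
  map_add' φ ψ := funext fun v => by simp [Finset.sum_add_distrib, mul_add]
  map_smul' c φ := funext fun v => by simp [Finset.mul_sum]; exact Finset.sum_congr rfl fun _ _ => by ring

include hq in
theorem avg_cl (hq0 : q ≠ 0) (a : W P → ℂ) :
    avgC P (cl P a) = (Nat.card P.B : ℂ) • Hecke.C P (q : ℝ) a := by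
  classical
  haveI : Fintype P.B := Fintype.ofFinite _
  funext v
  have hB : (Fintype.card P.B : ℂ) ≠ 0 := Nat.cast_ne_zero.2 Fintype.card_ne_zero
  have step : ∀ u : W P, ∑ x ∈ cellF P u, ∑ y ∈ cellF P v, a (cw P (x⁻¹ * y * x)) =
      ((cellF P u).card : ℂ)⁻¹ * ∑ x ∈ cellF P u, ∑ z ∈ cellF P u, ∑ y ∈ cellF P v,
        a (cw P (x⁻¹ * y * z)) := by
    intro u
    rw [Finset.mul_sum]
    refine Finset.sum_congr rfl fun x hx => ?_
    have h := sum_cell_orbit P ((mem_cellF P).1 hx) (fun z => ∑ y ∈ cellF P v, a (cw P (x⁻¹ * y * z)))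
    have e : ∀ b c : P.B, ∑ y ∈ cellF P v, a (cw P (x⁻¹ * y * ((b : G) * x * c))) =
        ∑ y ∈ cellF P v, a (cw P (x⁻¹ * y * x)) := by
      intro b c
      refine Finset.sum_nbij' (fun y => y * b) (fun y => y * (b : G)⁻¹) ?_ ?_ (fun y _ => by group)
        (fun y _ => by group) (fun y _ => ?_)
      · intro y hy
        exact (mem_cellF P).2 (cell_mul_right P b.2 ((mem_cellF P).1 hy))
      · intro y hy
        exact (mem_cellF P).2 (cell_mul_right P (inv_mem b.2) ((mem_cellF P).1 hy))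
      · rw [show x⁻¹ * y * ((b : G) * x * c) = x⁻¹ * (y * b) * x * c by group, cw_B_right P c.2]
    simp only [e, Finset.sum_const, Finset.card_univ, nsmul_eq_mul] at h
    rw [eq_comm, inv_mul_eq_iff_eq_mul₀ (cellF_card_ne P u)]
    refine mul_left_cancel₀ (pow_ne_zero 2 hB) ?_
    rw [← h]; ring
  have hall : ∀ y : G, cl P a y = ∑ u : W P, ∑ x ∈ cellF P u, a (cw P (x⁻¹ * y * x)) := fun y => by
    rw [cl]
    exact (Finset.sum_fiberwise Finset.univ (cw P) _).symm
  simp only [avgC, LinearMap.coe_mk, AddHom.coe_mk, hall, Pi.smul_apply, smul_eq_mul, Hecke.C,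
    LinearMap.sum_apply, Finset.sum_apply, LinearMap.smul_apply, LinearMap.comp_apply]
  rw [Finset.sum_comm, Finset.mul_sum, Finset.mul_sum]
  refine Finset.sum_congr rfl fun u _ => ?_
  rw [Finset.sum_comm, step u]
  have e2 : ∀ z ∈ cellF P u, ∀ y : G, ∑ x ∈ cellF P u, a (cw P (x⁻¹ * y * z)) =
      (Nat.card P.B : ℂ) * Hecke.LW P (q : ℝ) u a (cw P (y * z)) := fun z _ y => by
    rw [← sum_LW P q hq a u (y * z)]
    simp [mul_assoc]
  rw [show (∑ x ∈ cellF P u, ∑ z ∈ cellF P u, ∑ y ∈ cellF P v, a (cw P (x⁻¹ * y * z))) =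
      ∑ y ∈ cellF P v, ∑ z ∈ cellF P u, ∑ x ∈ cellF P u, a (cw P (x⁻¹ * y * z)) from by
    rw [Finset.sum_comm, Finset.sum_congr rfl fun z _ => Finset.sum_comm, Finset.sum_comm],
    Finset.sum_congr rfl fun y _ => Finset.sum_congr rfl fun z hz => e2 z hz y,
    Finset.sum_congr rfl (g := fun _ => (Nat.card P.B : ℂ) * ((Nat.card P.B : ℂ) *
      Hecke.RW P (q : ℝ) u (Hecke.LW P (q : ℝ) u a) v)) fun y hy => by
      rw [← Finset.mul_sum, sum_RW P q hq, cw_eq P ((mem_cellF P).1 hy)],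
    Finset.sum_const, nsmul_eq_mul, card_cellF_eq P q hq u, Complex.ofReal_natCast]
  have hB' : (Nat.card P.B : ℂ) ≠ 0 := Nat.cast_ne_zero.2 Nat.card_pos.ne'
  have hp : (q : ℂ) ^ len P u ≠ 0 := pow_ne_zero _ (Nat.cast_ne_zero.2 hq0)
  have hv := cellF_card_ne P v
  field_simp

theorem avgC_eq [Fintype P.B] (φ : G → ℂ) (y : G) : avgC P φ (cw P y) =
    ((Fintype.card P.B : ℂ) ^ 2)⁻¹ * ∑ b : P.B, ∑ c : P.B, φ ((b : G) * y * c) := by
  have h := sum_cell_orbit P (cw_spec P y) φ
  have hv := cellF_card_ne P (cw P y)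
  have hB : (Fintype.card P.B : ℂ) ≠ 0 := Nat.cast_ne_zero.2 Fintype.card_ne_zero
  show ((cellF P (cw P y)).card : ℂ)⁻¹ * ∑ z ∈ cellF P (cw P y), φ z = _
  field_simp
  linear_combination -h

include hq in
theorem avgC_mem_Z {φ : G → ℂ} (hφ : Cfsg.IsClassFunction G φ) :
    avgC P φ ∈ Hecke.Z P (q : ℝ) := by
  classical
  haveI : Fintype P.B := Fintype.ofFinite _
  rw [Hecke.mem_Z]
  intro s
  funext v
  obtain ⟨y, hy⟩ := cell_nonempty P v
  obtain rfl := cw_eq P hy
  have hB' : (Nat.card P.B : ℂ) ≠ 0 := Nat.cast_ne_zero.2 Nat.card_pos.ne'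
  refine mul_left_cancel₀ hB' ?_
  have hR : Hecke.RW P (q : ℝ) (σ P s) = Hecke.R P (q : ℝ) s := by
    refine LinearMap.ext fun a => ?_
    have := Hecke.RW_step P (q : ℝ) (s := s) (u := 1) (by rw [mul_one, len_one, len_σ]; omega) a
    rw [mul_one] at this
    rw [this]
    simp [Hecke.RW, Hecke.LW_one, Hecke.J_J]
  rw [← sum_L P q hq, ← hR, ← sum_RW P q hq]
  simp only [avgC_eq, ← Finset.mul_sum]
  congr 1
  have hswap : ∀ u v : G, φ (u * v) = φ (v * u) := fun u v => by
    rw [← hφ (u * v) u⁻¹]; group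
  have shiftR : ∀ (c : G), c ∈ P.B → ∀ f : G → ℂ,
      ∑ x ∈ cellF P (σ P s), f (x * c) = ∑ x ∈ cellF P (σ P s), f x := by
    intro c hc f
    refine Finset.sum_nbij' (fun x => x * c) (fun x => x * c⁻¹) ?_ ?_ (fun y _ => by group)
      (fun y _ => by group) (fun y _ => rfl)
    · intro x hx; exact (mem_cellF P).2 (cell_mul_right P hc ((mem_cellF P).1 hx))
    · intro x hx; exact (mem_cellF P).2 (cell_mul_right P (inv_mem hc) ((mem_cellF P).1 hx))
  have shiftL : ∀ (c : G), c ∈ P.B → ∀ f : G → ℂ,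
      ∑ x ∈ cellF P (σ P s), f (c * x) = ∑ x ∈ cellF P (σ P s), f x := by
    intro c hc f
    refine Finset.sum_nbij' (fun x => c * x) (fun x => c⁻¹ * x) ?_ ?_ (fun y _ => by group)
      (fun y _ => by group) (fun y _ => rfl)
    · intro x hx; exact (mem_cellF P).2 (cell_mul_left P hc ((mem_cellF P).1 hx))
    · intro x hx; exact (mem_cellF P).2 (cell_mul_left P (inv_mem hc) ((mem_cellF P).1 hx))
  have hinv : ∀ f : G → ℂ, ∑ x ∈ cellF P (σ P s), f x⁻¹ = ∑ x ∈ cellF P (σ P s), f x := by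
    intro f
    refine Finset.sum_nbij' (fun x => x⁻¹) (fun x => x⁻¹) ?_ ?_ (fun y _ => inv_inv y)
      (fun y _ => inv_inv y) (fun y _ => rfl)
    · intro x hx; exact (mem_cellF P).2 (inv_mem_σ P ((mem_cellF P).1 hx))
    · intro x hx; exact (mem_cellF P).2 (inv_mem_σ P ((mem_cellF P).1 hx))
  rw [Finset.sum_comm, Finset.sum_congr rfl fun b _ => Finset.sum_comm]
  conv_rhs => rw [Finset.sum_comm, Finset.sum_congr rfl fun b _ => Finset.sum_comm]
  refine Finset.sum_congr rfl fun b _ => Finset.sum_congr rfl fun c _ => ?_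
  calc ∑ x ∈ cellF P (σ P s), φ ((b : G) * (x⁻¹ * y) * c)
      = ∑ x ∈ cellF P (σ P s), φ ((b : G) * (x * y) * c) :=
        hinv fun x => φ ((b : G) * (x * y) * c)
    _ = ∑ x ∈ cellF P (σ P s), φ (y * ((c : G) * b * x)) := by
        refine Finset.sum_congr rfl fun x _ => ?_
        rw [show (b : G) * (x * y) * c = ((b : G) * x) * (y * c) by group, hswap]
        simp only [mul_assoc]
    _ = ∑ x ∈ cellF P (σ P s), φ (y * x) := shiftL _ (mul_mem c.2 b.2) fun x => φ (y * x)
    _ = ∑ x ∈ cellF P (σ P s), φ (y * (x * ((c : G) * b))) := (shiftR _ (mul_mem c.2 b.2) fun x => φ (y * x)).symm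
    _ = ∑ x ∈ cellF P (σ P s), φ ((b : G) * (y * x) * c) := by
        refine Finset.sum_congr rfl fun x _ => ?_
        rw [show (b : G) * (y * x) * c = (b : G) * (y * x * c) by group, hswap (b : G)]
        simp only [mul_assoc]

theorem sum_pairing [Fintype P.B] (χ ψ : Cfsg.IrrCharacter G) [Decidable (χ = ψ)] :
    ∑ y : G, avgC P (χ : G → ℂ) (cw P y) * (ψ : G → ℂ) y⁻¹ =
      ((Fintype.card P.B : ℂ))⁻¹ * if χ = ψ then
        (Nat.card G : ℂ) / (ψ : G → ℂ) 1 * ∑ b : P.B, (ψ : G → ℂ) b else 0 := by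
  have hψc := Char.IsCharacter.isClassFunction (Char.IsIrrCharacter.isCharacter ψ.2)
  have h : ∀ b c : P.B, ∑ y : G, (χ : G → ℂ) ((b : G) * y * c) * (ψ : G → ℂ) y⁻¹ =
      if χ = ψ then (Nat.card G : ℂ) * (ψ : G → ℂ) ((b : G) * c) / (ψ : G → ℂ) 1 else 0 := by
    intro b c
    rw [← CharX.convolution χ ψ ((b : G) * c)]
    refine Fintype.sum_equiv ((Equiv.mulLeft (b : G)).trans (Equiv.mulRight (c : G))) _ _ fun y => ?_
    simp only [Equiv.trans_apply, Equiv.coe_mulLeft, Equiv.coe_mulRight]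
    rw [show ((b : G) * y * c)⁻¹ * ((b : G) * c) = (c : G)⁻¹ * y⁻¹ * ((c : G)⁻¹)⁻¹ by group, hψc]
  simp only [avgC_eq, mul_assoc, Finset.sum_mul, ← Finset.mul_sum]
  simp only [← mul_assoc]
  rw [Finset.sum_comm, Finset.sum_congr rfl fun b _ => Finset.sum_comm,
    Finset.sum_congr rfl fun b _ => Finset.sum_congr rfl fun c _ => h b c]
  split_ifs with he
  · have : ∀ b : P.B, ∑ c : P.B, (ψ : G → ℂ) ((b : G) * c) = ∑ c : P.B, (ψ : G → ℂ) c := fun b =>
      Fintype.sum_equiv (Equiv.mulLeft b) _ _ fun c => rfl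
    simp only [← Finset.mul_sum, ← Finset.sum_div, this, Finset.sum_const, Finset.card_univ, nsmul_eq_mul]
    have hB : (Fintype.card P.B : ℂ) ≠ 0 := Nat.cast_ne_zero.2 Fintype.card_ne_zero
    have h1 := Char.IsIrrCharacter.one_ne_zero ψ.2
    field_simp
  · simp

include hq in
/-- The irreducible constituents of `1_B^G` are as many as the conjugacy classes of `W`. -/
theorem card_constituents [Fintype P.B] [Finite P.S] (hq0 : q ≠ 0) :
    Nat.card {χ : Cfsg.IrrCharacter G // ∑ b : P.B, (χ : G → ℂ) b ≠ 0} =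
      Nat.card (ConjClasses (W P)) := by
  classical
  rw [← Hecke.finrank_Z P (q := (q : ℝ)) (Nat.cast_pos.2 (Nat.pos_of_ne_zero hq0))]
  let S := {χ : Cfsg.IrrCharacter G // ∑ b : P.B, (χ : G → ℂ) b ≠ 0}
  let f : S → (W P → ℂ) := fun χ => avgC P (χ.1 : G → ℂ)
  have hli : LinearIndependent ℂ f := by
    rw [Fintype.linearIndependent_iff]
    intro c hc χ
    have h := congrArg (fun a : W P → ℂ => ∑ y : G, a (cw P y) * (χ.1 : G → ℂ) y⁻¹) hc
    simp only [f, Finset.sum_apply, Pi.smul_apply, smul_eq_mul, Finset.sum_mul, Pi.zero_apply, zero_mul,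
      Finset.sum_const_zero] at h
    rw [Finset.sum_comm] at h
    simp only [mul_assoc, ← Finset.mul_sum, sum_pairing P] at h
    rw [Finset.sum_eq_single χ (fun x _ hx => by
      rw [if_neg (fun e => hx (Subtype.ext e)), mul_zero, mul_zero]) (fun h => absurd (Finset.mem_univ _) h),
      if_pos rfl] at h
    have hB : ((Fintype.card P.B : ℂ))⁻¹ ≠ 0 := inv_ne_zero (Nat.cast_ne_zero.2 Fintype.card_ne_zero)
    have hG : (Nat.card G : ℂ) ≠ 0 := Nat.cast_ne_zero.2 Nat.card_pos.ne'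
    have h1 := Char.IsIrrCharacter.one_ne_zero χ.1.2
    have := χ.2
    simpa [hB, hG, h1, this] using h
  have hspan : Submodule.span ℂ (Set.range f) = Hecke.Z P (q : ℝ) := by
    apply le_antisymm
    · rw [Submodule.span_le]
      rintro _ ⟨χ, rfl⟩
      exact avgC_mem_Z P q hq (Char.IsCharacter.isClassFunction (Char.IsIrrCharacter.isCharacter χ.1.2))
    · rw [← Hecke.range_C P (Nat.cast_pos.2 (Nat.pos_of_ne_zero hq0))]
      rintro _ ⟨a, rfl⟩
      have hcl : Cfsg.IsClassFunction G (cl P a) := fun g h => by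
        simp only [cl]
        refine Fintype.sum_equiv (Equiv.mulLeft h⁻¹) _ _ fun x => ?_
        simp [mul_assoc]
      have hzero : ∀ ψ : Cfsg.IrrCharacter G, ∑ b : P.B, (ψ : G → ℂ) b = 0 → avgC P (ψ : G → ℂ) = 0 := by
        intro ψ hψ
        funext v
        obtain ⟨y, hy⟩ := cell_nonempty P v
        obtain rfl := cw_eq P hy
        have e : ∀ b : P.B, ∑ c : P.B, (ψ : G → ℂ) ((b : G) * y * c) = 0 := fun b =>
          BN.coset_sum_zero (Char.IsIrrCharacter.isCharacter ψ.2) P.B hψ ((b : G) * y)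
        simp only [avgC_eq, e, Finset.sum_const_zero, mul_zero, Pi.zero_apply]
      have hB : (Nat.card P.B : ℂ) ≠ 0 := Nat.cast_ne_zero.2 Nat.card_pos.ne'
      rw [← Submodule.smul_mem_iff _ hB, ← avg_cl P q hq hq0, Char.classFunction_eq_sum hcl, map_sum]
      refine Submodule.sum_mem _ fun ψ _ => ?_
      rw [map_smul]
      refine Submodule.smul_mem _ _ ?_
      by_cases hψ : ∑ b : P.B, (ψ : G → ℂ) b = 0
      · rw [hzero ψ hψ]; exact zero_mem _
      · exact Submodule.subset_span ⟨⟨ψ, hψ⟩, rfl⟩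
  rw [← hspan, finrank_span_eq_card hli, Nat.card_eq_fintype_card]

end Cfsg.Agent.BN.HG
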