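import Cfsg.Agent.Lib.Char.Basic
import Mathlib.LinearAlgebra.Matrix.PosDef
import Mathlib.Analysis.Matrix.PosDef
import Mathlib.Analysis.Matrix.Order

/-!
# Unitary matrix representations, averages and their norms
-/

set_option autoImplicit false

open scoped Matrix

namespace Cfsg.Agent.MatRep

universe u

variable {d : Type*} [Fintype d] [DecidableEq d]

/-- the squared Frobenius norm -/
noncomputable def nrm (Z : Matrix d d ℂ) : ℝ := (Z * Zᴴ).trace.re

omit [DecidableEq d] in
theorem nrm_eq_sum (Z : Matrix d d ℂ) : nrm Z = ∑ i, ∑ j, Complex.normSq (Z i j) := by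
  simp only [nrm, Matrix.trace, Matrix.diag, Matrix.mul_apply, Matrix.conjTranspose_apply,
    Complex.re_sum]
  refine Finset.sum_congr rfl fun i _ => Finset.sum_congr rfl fun j _ => ?_
  rw [Complex.normSq_apply]
  simp

omit [DecidableEq d] in
theorem nrm_nonneg (Z : Matrix d d ℂ) : 0 ≤ nrm Z := by
  rw [nrm_eq_sum]
  exact Finset.sum_nonneg fun i _ => Finset.sum_nonneg fun j _ => Complex.normSq_nonneg _

omit [DecidableEq d] in
theorem nrm_eq_zero {Z : Matrix d d ℂ} (h : nrm Z = 0) : Z = 0 := by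
  rw [nrm_eq_sum] at h
  ext i j
  exact Complex.normSq_eq_zero.1 ((Finset.sum_eq_zero_iff_of_nonneg fun j _ => Complex.normSq_nonneg _).1
    ((Finset.sum_eq_zero_iff_of_nonneg fun i _ =>
      Finset.sum_nonneg fun j _ => Complex.normSq_nonneg _).1 h i (Finset.mem_univ i)) j (Finset.mem_univ j))

omit [DecidableEq d] in
theorem trace_self_mul (Z : Matrix d d ℂ) : (Z * Zᴴ).trace = (nrm Z : ℂ) := by
  refine Complex.ext (by simp [nrm]) ?_
  rw [Complex.ofReal_im, ← Complex.conj_eq_iff_im]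
  show star _ = _
  rw [← Matrix.trace_conjTranspose, Matrix.conjTranspose_mul, Matrix.conjTranspose_conjTranspose]

omit [DecidableEq d] in
theorem nrm_proj {E : Matrix d d ℂ} (hh : Eᴴ = E) (hi : E * E = E) : (nrm E : ℂ) = E.trace := by
  rw [← trace_self_mul, hh, hi]

variable {G : Type u} [Group G]

/-- a unitary matrix representation without nontrivial commutant -/
structure URep (G : Type u) [Group G] (d : Type*) [Fintype d] [DecidableEq d] where
  M : G →* Matrix d d ℂ
  herm : ∀ g, (M g)ᴴ = M g⁻¹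
  schur : ∀ Z : Matrix d d ℂ, (∀ g, M g * Z = Z * M g) → ∃ c : ℂ, Z = c • 1

namespace URep

variable (V : URep G d)

theorem mul_inv (g : G) : V.M g * V.M g⁻¹ = 1 := by rw [← map_mul, mul_inv_cancel, map_one]

theorem inv_mul (g : G) : V.M g⁻¹ * V.M g = 1 := by rw [← map_mul, inv_mul_cancel, map_one]

/-- the average over the image of a finite group -/
noncomputable def av {K : Type*} [Group K] [Fintype K] (φ : K →* G) : Matrix d d ℂ :=
  (Fintype.card K : ℂ)⁻¹ • ∑ k : K, V.M (φ k)

section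

variable {K : Type*} [Group K] [Fintype K] (φ : K →* G)

theorem mul_av (k : K) : V.M (φ k) * V.av φ = V.av φ := by
  rw [av, Matrix.mul_smul, Finset.mul_sum]
  congr 1
  exact Fintype.sum_equiv (Equiv.mulLeft k) _ _ fun j => by
    rw [← map_mul, ← map_mul]; rfl

theorem av_mul (k : K) : V.av φ * V.M (φ k) = V.av φ := by
  rw [av, Matrix.smul_mul, Finset.sum_mul]
  congr 1
  exact Fintype.sum_equiv (Equiv.mulRight k) _ _ fun j => by
    rw [← map_mul, ← map_mul]; rfl

theorem av_fix {Z : Matrix d d ℂ} (h : ∀ k, V.M (φ k) * Z = Z) : V.av φ * Z = Z := by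
  rw [av, Matrix.smul_mul, Finset.sum_mul, Finset.sum_congr rfl fun k _ => h k, Finset.sum_const,
    Finset.card_univ, ← Nat.cast_smul_eq_nsmul ℂ, smul_smul,
    inv_mul_cancel₀ (Nat.cast_ne_zero.2 Fintype.card_ne_zero), one_smul]

theorem av_idem : V.av φ * V.av φ = V.av φ := V.av_fix φ (V.mul_av φ)

theorem av_herm : (V.av φ)ᴴ = V.av φ := by
  rw [av, Matrix.conjTranspose_smul, Matrix.conjTranspose_sum]
  congr 1
  · simp
  · exact Fintype.sum_equiv (Equiv.inv K) _ _ fun k => by
      rw [V.herm, ← map_inv]; rfl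

theorem av_comm (g : G) (σ : K → K) (hσ : Function.Bijective σ)
    (h : ∀ k, g * φ k = φ (σ k) * g) : V.M g * V.av φ = V.av φ * V.M g := by
  rw [av, Matrix.mul_smul, Matrix.smul_mul, Finset.mul_sum, Finset.sum_mul]
  congr 1
  exact Fintype.sum_bijective σ hσ _ _ fun k => by rw [← map_mul, h, map_mul]

theorem trace_av : (V.av φ).trace = (Fintype.card K : ℂ)⁻¹ * ∑ k : K, (V.M (φ k)).trace := by
  rw [av, Matrix.trace_smul, Matrix.trace_sum, smul_eq_mul]

end

theorem av_comm_subgroup [Finite G] (H : Subgroup G) [Fintype H] (g : G)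
    (h : ∀ k ∈ H, g * k * g⁻¹ ∈ H) : V.M g * V.av H.subtype = V.av H.subtype * V.M g := by
  refine V.av_comm H.subtype g (fun k => ⟨g * k * g⁻¹, h k k.2⟩) ?_ fun k => ?_
  · refine Finite.injective_iff_bijective.1 fun a b hab => ?_
    exact Subtype.ext (mul_left_cancel (mul_right_cancel (congrArg Subtype.val hab :)))
  · show g * (k : G) = g * k * g⁻¹ * g
    rw [inv_mul_cancel_right]

theorem nrm_left (g : G) (Z : Matrix d d ℂ) : nrm (V.M g * Z) = nrm Z := by
  rw [nrm, nrm, Matrix.conjTranspose_mul, Matrix.trace_mul_comm, V.herm, mul_assoc, ← mul_assoc (V.M g⁻¹),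
    inv_mul, one_mul, Matrix.trace_mul_comm]

theorem nrm_right (g : G) (Z : Matrix d d ℂ) : nrm (Z * V.M g) = nrm Z := by
  rw [nrm, nrm, Matrix.conjTranspose_mul, V.herm, mul_assoc, ← mul_assoc (V.M g), mul_inv, one_mul]

end URep

open scoped MatrixOrder ComplexOrder in
/-- every irreducible character is afforded by a unitary matrix representation -/
theorem exists_urep [Finite G] {χ : G → ℂ} (hχ : Cfsg.IsIrrCharacter G χ) :
    ∃ (n : ℕ) (V : URep G (Fin n)), (∀ g, (V.M g).trace = χ g) := by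
  classical
  haveI := Fintype.ofFinite G
  obtain ⟨n, ρ, hρ, rfl⟩ := hχ
  haveI := hρ
  let R : G →* Matrix (Fin n) (Fin n) ℂ :=
    (LinearMap.toMatrixAlgEquiv' : ((Fin n → ℂ) →ₗ[ℂ] (Fin n → ℂ)) ≃ₐ[ℂ] _).toMonoidHom.comp ρ
  set H : Matrix (Fin n) (Fin n) ℂ := ∑ g : G, (R g)ᴴ * R g with hH
  have hpos : H.PosDef := by
    rw [hH, ← Finset.add_sum_erase _ _ (Finset.mem_univ (1 : G)), map_one, Matrix.conjTranspose_one,
      one_mul]
    exact Matrix.PosDef.one.add_posSemidef
      (Matrix.posSemidef_sum _ fun g _ => Matrix.posSemidef_conjTranspose_mul_self _)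
  obtain ⟨C, hC⟩ := CStarAlgebra.nonneg_iff_eq_star_mul_self.mp hpos.posSemidef.nonneg
  rw [Matrix.star_eq_conjTranspose] at hC
  have hdet : IsUnit C.det := by
    have := (Matrix.isUnit_iff_isUnit_det _).1 hpos.isUnit
    rw [hC, Matrix.det_mul] at this
    exact isUnit_of_mul_isUnit_right this
  have hinv : ∀ g, (R g)ᴴ * H * R g = H := fun g => by
    rw [hH, Finset.mul_sum, Finset.sum_mul]
    exact Fintype.sum_equiv (Equiv.mulRight g) _ _ fun k => by
      rw [Equiv.coe_mulRight, map_mul, Matrix.conjTranspose_mul]; simp [mul_assoc]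
  let M : G →* Matrix (Fin n) (Fin n) ℂ :=
    { toFun := fun g => C * R g * C⁻¹
      map_one' := by rw [map_one, mul_one, Matrix.mul_nonsing_inv _ hdet]
      map_mul' := fun g h => by
        rw [map_mul, show C * R g * C⁻¹ * (C * R h * C⁻¹) = C * R g * (C⁻¹ * C) * R h * C⁻¹ by
          simp only [mul_assoc], Matrix.nonsing_inv_mul _ hdet, mul_one]
        simp only [mul_assoc] }
  have hM : ∀ g, (M g)ᴴ * M g = 1 := fun g => by
    show (C * R g * C⁻¹)ᴴ * (C * R g * C⁻¹) = 1
    rw [Matrix.conjTranspose_mul, Matrix.conjTranspose_mul,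
      show C⁻¹ᴴ * ((R g)ᴴ * Cᴴ) * (C * R g * C⁻¹) = C⁻¹ᴴ * ((R g)ᴴ * (Cᴴ * C) * R g) * C⁻¹ by
        simp only [mul_assoc], ← hC, hinv, hC,
      show C⁻¹ᴴ * (Cᴴ * C) * C⁻¹ = (C * C⁻¹)ᴴ * (C * C⁻¹) by
        rw [Matrix.conjTranspose_mul]; simp only [mul_assoc],
      Matrix.mul_nonsing_inv _ hdet, Matrix.conjTranspose_one, mul_one]
  refine ⟨n, ⟨M, fun g => ?_, fun Z hZ => ?_⟩, fun g => ?_⟩
  · calc (M g)ᴴ = (M g)ᴴ * (M g * M g⁻¹) := by rw [← map_mul, mul_inv_cancel, map_one, mul_one]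
      _ = M g⁻¹ := by rw [← mul_assoc, hM, one_mul]
  · obtain ⟨c, hc⟩ := Cfsg.Agent.Char.schur_scalar ρ
      (LinearMap.toMatrixAlgEquiv'.symm (C⁻¹ * Z * C)) fun g x => by
        have h := hZ g
        have h' : R g * (C⁻¹ * Z * C) = C⁻¹ * Z * C * R g := by
          have := congrArg (fun W => C⁻¹ * W * C) h
          simp only [M, MonoidHom.coe_mk, OneHom.coe_mk] at this
          rw [show C⁻¹ * (C * R g * C⁻¹ * Z) * C = (C⁻¹ * C) * (R g * (C⁻¹ * Z * C)) by
              simp only [mul_assoc],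
            show C⁻¹ * (Z * (C * R g * C⁻¹)) * C = C⁻¹ * Z * C * R g * (C⁻¹ * C) by
              simp only [mul_assoc], Matrix.nonsing_inv_mul _ hdet, one_mul, mul_one] at this
          exact this
        have h2 := congrArg LinearMap.toMatrixAlgEquiv'.symm h'
        simp only [map_mul, R, MonoidHom.coe_comp, Function.comp_apply] at h2
        rw [show LinearMap.toMatrixAlgEquiv'.symm (LinearMap.toMatrixAlgEquiv'.toMonoidHom (ρ g)) = ρ g
          from AlgEquiv.symm_apply_apply _ _] at h2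
        have h3 := (LinearMap.congr_fun h2 x).symm
        simpa using h3
    refine ⟨c, ?_⟩
    have h1 : C⁻¹ * Z * C = c • 1 := by
      have := congrArg LinearMap.toMatrixAlgEquiv' hc
      rwa [AlgEquiv.apply_symm_apply, map_smul, LinearMap.toMatrixAlgEquiv'_id] at this
    calc Z = C * (C⁻¹ * Z * C) * C⁻¹ := by
          rw [show C * (C⁻¹ * Z * C) * C⁻¹ = (C * C⁻¹) * Z * (C * C⁻¹) by simp only [mul_assoc],
            Matrix.mul_nonsing_inv _ hdet, one_mul, mul_one]
      _ = c • 1 := by rw [h1, Matrix.mul_smul, mul_one, Matrix.smul_mul, Matrix.mul_nonsing_inv _ hdet]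
  · show (C * R g * C⁻¹).trace = ρ.character g
    rw [Matrix.trace_mul_comm, ← mul_assoc, Matrix.nonsing_inv_mul _ hdet, one_mul,
      Representation.character]
    exact (Matrix.trace_toLin'_eq (R g)).symm.trans (congrArg _ (AlgEquiv.symm_apply_apply LinearMap.toMatrixAlgEquiv' (ρ g)))

end Cfsg.Agent.MatRep
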