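import Cfsg.Agent.Lib.Steinberg.SysPair
import Cfsg.Agent.Lib.Steinberg.FormTwist
import Cfsg.Agent.Lib.AutPOmega.Parity
import Cfsg.Agent.Lib.Orthogonal.Counts

/-!
# The split orthogonal group in antidiagonal coordinates

The form `∑_{j < N} x_j x_{rev j}`, its unitriangular isometries, the crossing number of a monomial isometry and the
Siegel elements which are lower unitriangular.
-/

set_option autoImplicit false
set_option linter.unusedSectionVars false
set_option linter.style.haveILetI false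

namespace Cfsg.Agent.DSplit

open Matrix QuadraticMap
open Cfsg.Agent.SLPair
open Cfsg.Agent.SLBlocks (uniU isPGroup_uniU)
open Cfsg.Agent.Orth (IsMaxSing)

universe u

variable {N : ℕ} {K : Type u} [Field K]

/-- the index identification -/
def idxA (N : ℕ) : Fin N ⊕ Fin N ≃ Fin (2 * N) where
  toFun x := x.elim (fun j : Fin N => ⟨j, by omega⟩) (fun j : Fin N => (⟨j, by omega⟩ : Fin (2 * N)).rev)
  invFun a := if h : (a : ℕ) < N then .inl ⟨a, h⟩ else .inr ⟨2 * N - 1 - a, by omega⟩
  left_inv x := by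
    rcases x with j | j
    · simp [j.2]
    · have := j.2
      refine (dif_neg ?_).trans (congrArg Sum.inr (Fin.ext ?_))
      · simp only [Sum.elim_inr, Fin.val_rev]; omega
      · simp only [Sum.elim_inr, Fin.val_rev]; omega
  right_inv a := by
    by_cases h : (a : ℕ) < N
    · simp [h]
    · simp only [dif_neg h, Sum.elim_inr]
      apply Fin.ext
      simp only [Fin.val_rev]
      omega

theorem idxA_inl (j : Fin N) : ((idxA N (.inl j) : Fin (2 * N)) : ℕ) = j := rfl

theorem idxA_inr (j : Fin N) : idxA N (.inr j) = (idxA N (.inl j)).rev := rfl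

/-- the coordinates of the hyperbolic form -/
def coordA (N : ℕ) (K : Type u) [Field K] : (Fin (2 * N) → K) ≃ₗ[K] (Fin N ⊕ Fin N → K) :=
  LinearEquiv.funCongrLeft K K (idxA N)

/-- the hyperbolic form in antidiagonal coordinates -/
def qA (N : ℕ) (K : Type u) [Field K] : QuadraticForm K (Fin (2 * N) → K) :=
  (Orth.qPlus K N).comp (coordA N K).toLinearMap

theorem qA_apply (x : Fin (2 * N) → K) :
    qA N K x = ∑ j : Fin N, x (idxA N (.inl j)) * x (idxA N (.inl j)).rev := by
  show Orth.qPlus K N (coordA N K x) = _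
  rw [Orth.coe_qPlus]
  rfl

theorem qA_nondeg : (polarBilin (qA N K)).Nondegenerate :=
  Orth.nondeg_congr (coordA N K).symm (fun x => congrArg (Orth.qPlus K N) ((coordA N K).apply_symm_apply x))
    (Orth.qPlus_nondeg N)

theorem polar_qA (x y : Fin (2 * N) → K) : polar (qA N K) x y = ∑ a, x a * y a.rev := by
  rw [← (idxA N).sum_comp (fun a => x a * y a.rev), Fintype.sum_sum_type]
  simp only [polar, qA_apply, Pi.add_apply, idxA_inr, Fin.rev_rev, ← Finset.sum_sub_distrib, ← Finset.sum_add_distrib]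
  exact Finset.sum_congr rfl fun j _ => by ring

/-- quadratic forms agreeing on a basis with the same polar agree -/
theorem ext_basis {ι : Type} [Fintype ι] [DecidableEq ι] (Q Q' : QuadraticForm K (ι → K))
    (hb : ∀ i, Q (Pi.single i 1) = Q' (Pi.single i 1))
    (hp : ∀ i j, polar Q (Pi.single i 1) (Pi.single j 1) = polar Q' (Pi.single i 1) (Pi.single j 1)) :
    Q = Q' := by
  have hpb : polarBilin Q = polarBilin Q' :=
    LinearMap.ext_basis (Pi.basisFun K ι) (Pi.basisFun K ι) fun i j => by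
      rw [Pi.basisFun_apply, Pi.basisFun_apply]; exact hp i j
  ext x
  rw [show x = ∑ i, x i • (Pi.single i 1 : ι → K) by ext j; simp [Finset.sum_apply, Pi.single_apply]]
  have hp' : ∀ v w, polar Q v w = polar Q' v w := fun v w => LinearMap.congr_fun₂ hpb v w
  generalize (Finset.univ : Finset ι) = s
  induction s using Finset.induction_on with
  | empty => simp
  | insert i s hi ih =>
    rw [Finset.sum_insert hi, Orth.q_add, Orth.q_add, Orth.q_smul, Orth.q_smul, hb, ih, hp']

/-- preserving the form -/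
def InO (g : SLn (2 * N) K) : Prop := ∀ x, qA N K (g.1 *ᵥ x) = qA N K x

theorem InO.one : InO (1 : SLn (2 * N) K) := fun x => by
  rw [Matrix.SpecialLinearGroup.coe_one, one_mulVec]

theorem InO.mul {g h : SLn (2 * N) K} (hg : InO g) (hh : InO h) : InO (g * h) := fun x => by
  rw [Matrix.SpecialLinearGroup.coe_mul, ← mulVec_mulVec, hg, hh]

theorem InO.inv {g : SLn (2 * N) K} (hg : InO g) : InO g⁻¹ := fun x => by
  rw [← hg (g⁻¹.1 *ᵥ x), mulVec_mulVec, ← Matrix.SpecialLinearGroup.coe_mul, mul_inv_cancel,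
    Matrix.SpecialLinearGroup.coe_one, one_mulVec]

theorem InO.polar_eq {g : SLn (2 * N) K} (hg : InO g) (x y : Fin (2 * N) → K) :
    polar (qA N K) (g.1 *ᵥ x) (g.1 *ᵥ y) = polar (qA N K) x y := by
  simp only [polar, ← mulVec_add, hg _]

theorem InO.tw_fixed {g : SLn (2 * N) K} (hg : InO g) :
    twHom (fun _ => (1 : K)) (fun _ => one_ne_zero) (RingHom.id K) g = g := by
  rw [tw_fixed_iff (fun _ : Fin (2 * N) => (1 : K)) (fun _ => one_ne_zero) (RingHom.id K) (fun _ => rfl) (fun _ => rfl) g]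
  rw [show g.1.map (RingHom.id K) = g.1 from rfl]
  refine Matrix.ext fun a b => ?_
  rw [Matrix.mul_assoc, Matrix.mul_apply]
  simp only [antiJ_mul, Matrix.transpose_apply, one_mul]
  have h := hg.polar_eq (Pi.single a 1) (Pi.single b 1)
  rw [polar_qA, polar_qA, mulVec_single_one, mulVec_single_one] at h
  simp only [Matrix.col_apply] at h
  rw [h, Finset.sum_eq_single a]
  · simp [antiJ, Pi.single_apply, eq_comm]
  · intro c _ hc; simp [Pi.single_apply, hc]
  · simp

variable [Fintype K]

/-- the factors of a decomposition of an isometry are isometries -/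
theorem dec_inO {g : SLn (2 * N) K} (hg : InO g) {σ : Equiv.Perm (Fin (2 * N))} {u m v : SLn (2 * N) K}
    (hu : u ∈ uniU (2 * N) K) (hm : Mono σ m.1) (hv : v ∈ uniU (2 * N) K) (hc : m * v * m⁻¹ ∈ loU (2 * N) K)
    (e : g = u * m * v) : flipP σ = σ ∧ InO u ∧ InO m ∧ InO v := by
  obtain ⟨τ, hτ⟩ : ∃ τ, twHom (fun _ : Fin (2 * N) => (1 : K)) (fun _ => one_ne_zero) (RingHom.id K) = τ := ⟨_, rfl⟩
  have hgf : τ g = g := hτ ▸ hg.tw_fixed
  have htu : τ u ∈ uniU (2 * N) K := hτ ▸ tw_uni _ (fun _ => one_ne_zero) _ u hu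
  have htv : τ v ∈ uniU (2 * N) K := hτ ▸ tw_uni _ (fun _ => one_ne_zero) _ v hv
  have htm : Mono (flipP σ) (τ m).1 := hτ ▸ tw_mono _ (fun _ => one_ne_zero) _ m σ hm
  have htc : τ m * τ v * (τ m)⁻¹ ∈ loU (2 * N) K := by
    rw [← map_inv, ← map_mul, ← map_mul, ← hτ]
    exact tw_low _ (fun _ => one_ne_zero) _ _ hc
  obtain ⟨hσ, eu, -, ev⟩ := decomp_unique htu hu htm hm htv hv htc hc (by rw [← map_mul, ← map_mul, ← e, hgf, e])
  -- the polar form is preserved
  have hpol : ∀ w : SLn (2 * N) K, τ w = w → ∀ x y,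
      polar (qA N K) (w.1 *ᵥ x) (w.1 *ᵥ y) = polar (qA N K) x y := by
    intro w hw x y
    rw [← hτ, tw_fixed_iff (fun _ : Fin (2 * N) => (1 : K)) (fun _ => one_ne_zero) (RingHom.id K) (fun _ => rfl) (fun _ => rfl) w,
      show w.1.map (RingHom.id K) = w.1 from rfl] at hw
    have hJ : ∀ x y, polar (qA N K) x y = x ⬝ᵥ (antiJ (fun _ : Fin (2 * N) => (1 : K)) *ᵥ y) := fun x y => by
      rw [polar_qA, dotProduct]
      refine Finset.sum_congr rfl fun a _ => ?_
      simp [Matrix.mulVec, dotProduct, antiJ]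
    rw [hJ, hJ]
    conv_rhs => rw [← hw, ← mulVec_mulVec, ← mulVec_mulVec, dotProduct_mulVec, vecMul_transpose]
  have hupp : ∀ w : SLn (2 * N) K, w ∈ uniU (2 * N) K → ∀ j : Fin (2 * N), (j : ℕ) < N →
      qA N K (w.1 *ᵥ Pi.single j 1) = 0 := by
    intro w hw j hj
    rw [qA_apply, mulVec_single_one]
    refine Finset.sum_eq_zero fun a _ => mul_eq_zero_of_right _ (hw.1 ?_)
    show id j < id (idxA N (.inl a)).rev
    have := a.2
    simp only [id, Fin.lt_def, Fin.val_rev, idxA_inl]
    omega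
  have hvinv : ∀ a b, σ a < σ b → (v⁻¹).1 a b = 0 := by
    refine (conj_mem_lo_iff hm (inv_mem hv).2).1 ?_
    rw [show m * v⁻¹ * m⁻¹ = (m * v * m⁻¹)⁻¹ by group]
    exact inv_mem hc
  have hsym : ∀ a : Fin (2 * N), σ a.rev = (σ a).rev := fun a => by
    have := Equiv.Perm.congr_fun hσ a.rev
    rw [flipP_apply, Fin.rev_rev] at this
    exact this.symm
  have h0 : ∀ j, qA N K ((v⁻¹).1 *ᵥ Pi.single j 1) = 0 ∧ qA N K (u.1 *ᵥ Pi.single (σ j) 1) = 0 := by
    intro j
    have key : qA N K ((v⁻¹).1 *ᵥ Pi.single j 1) = m.1 (σ j) j * m.1 (σ j) j * qA N K (u.1 *ᵥ Pi.single (σ j) 1) := by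
      have h := hg ((v⁻¹).1 *ᵥ Pi.single j 1)
      rw [mulVec_mulVec, ← Matrix.SpecialLinearGroup.coe_mul, e,
        show u * m * v * v⁻¹ = u * m by group, Matrix.SpecialLinearGroup.coe_mul, ← mulVec_mulVec,
        show m.1 *ᵥ (Pi.single j 1 : Fin (2 * N) → K) = m.1 (σ j) j • (Pi.single (σ j) 1 : Fin (2 * N) → K) from ?_,
        mulVec_smul, Orth.q_smul] at h
      · exact h.symm
      · ext a
        rw [mulVec_single_one, Pi.smul_apply, Matrix.col_apply, Pi.single_apply, smul_eq_mul]
        by_cases ha : a = σ j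
        · rw [if_pos ha, ha, mul_one]
        · rw [if_neg ha, mul_zero]; exact not_not.1 fun hne => ha (hm a j hne)
    by_cases hσj : ((σ j : Fin (2 * N)) : ℕ) < N
    · have := hupp u hu (σ j) hσj
      exact ⟨by rw [key, this, mul_zero], this⟩
    · have hv0 : qA N K ((v⁻¹).1 *ᵥ Pi.single j 1) = 0 := by
        by_cases hj : (j : ℕ) < N
        · exact hupp _ (inv_mem hv) j hj
        rw [qA_apply, mulVec_single_one]
        refine Finset.sum_eq_zero fun a _ => ?_
        simp only [Matrix.col_apply]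
        obtain ⟨x, hx⟩ : ∃ x, idxA N (.inl a) = x := ⟨_, rfl⟩
        have hxN : (x : ℕ) < N := by rw [← hx, idxA_inl]; exact a.2
        rw [hx]
        by_contra hne
        have h1 : ¬ σ x < σ j := fun h => left_ne_zero_of_mul hne (hvinv _ _ h)
        have h2 : ¬ σ x.rev < σ j := fun h => right_ne_zero_of_mul hne (hvinv _ _ h)
        rw [hsym, Fin.lt_def, Fin.val_rev] at h2
        rw [Fin.lt_def] at h1
        have := (σ x).2
        omega
      refine ⟨hv0, ?_⟩
      rw [hv0] at key
      exact (mul_eq_zero.1 key.symm).resolve_left (mul_ne_zero (hm.apply_ne j) (hm.apply_ne j))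
  have hb : ∀ a : Fin (2 * N), qA N K (Pi.single a 1) = 0 := fun a => by
    rw [qA_apply]
    refine Finset.sum_eq_zero fun j _ => ?_
    by_cases h1 : idxA N (.inl j) = a
    · rw [Pi.single_eq_of_ne (fun h2 : (idxA N (.inl j)).rev = a => by
        have h3 := congrArg Fin.val (h2.trans h1.symm)
        have := j.2
        rw [Fin.val_rev, idxA_inl] at h3
        omega), mul_zero]
    · rw [Pi.single_eq_of_ne h1, zero_mul]
  have mk : ∀ w : SLn (2 * N) K, τ w = w → (∀ j, qA N K (w.1 *ᵥ Pi.single j 1) = 0) → InO w := by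
    intro w hw hw0 x
    have := ext_basis ((qA N K).comp (Matrix.toLin' w.1)) (qA N K)
      (fun i => by rw [QuadraticMap.comp_apply, Matrix.toLin'_apply, hw0, hb])
      (fun i j => by
        show polar (fun x => qA N K (Matrix.toLin' w.1 x)) _ _ = _
        simp only [polar, Matrix.toLin'_apply, mulVec_add]
        exact hpol w hw _ _)
    simpa using QuadraticMap.congr_fun this x
  have hv1 : InO v⁻¹ := mk _ (by rw [map_inv, ev]) fun j => (h0 j).1
  have hu1 : InO u := mk _ eu fun j => by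
    obtain ⟨j, rfl⟩ := σ.surjective j
    exact (h0 j).2
  have hv2 : InO v := by simpa using hv1.inv
  refine ⟨hσ, hu1, ?_, hv2⟩
  rw [show m = u⁻¹ * g * v⁻¹ by rw [e]; group]
  exact (hu1.inv.mul hg).mul hv1

/-! ### Parity classes -/

/-- the subspace of the first half -/
def W0 (N : ℕ) (K : Type u) [Field K] : Submodule K (Fin (2 * N) → K) where
  carrier := {x | ∀ a : Fin (2 * N), N ≤ (a : ℕ) → x a = 0}
  add_mem' hx hy a ha := by simp [hx a ha, hy a ha]
  zero_mem' _ _ := rfl
  smul_mem' c x hx a ha := by simp [hx a ha]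

/-- the subspace of the second half -/
def W1 (N : ℕ) (K : Type u) [Field K] : Submodule K (Fin (2 * N) → K) where
  carrier := {x | ∀ a : Fin (2 * N), (a : ℕ) < N → x a = 0}
  add_mem' hx hy a ha := by simp [hx a ha, hy a ha]
  zero_mem' _ _ := rfl
  smul_mem' c x hx a ha := by simp [hx a ha]

/-- the vectors supported on a set -/
theorem finrank_supported (p : Fin (2 * N) → Prop) [DecidablePred p] (U : Submodule K (Fin (2 * N) → K))
    (hU : ∀ x, x ∈ U ↔ ∀ a, ¬ p a → x a = 0) :
    Module.finrank K U = (Finset.univ.filter p).card := by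
  let e : U ≃ₗ[K] ({a // p a} → K) :=
    { toFun := fun x a => x.1 a.1
      map_add' := fun _ _ => rfl
      map_smul' := fun _ _ => rfl
      invFun := fun f => ⟨fun a => if h : p a then f ⟨a, h⟩ else 0, (hU _).2 fun a ha => dif_neg ha⟩
      left_inv := fun x => Subtype.ext (funext fun a => by
        show dite _ _ _ = x.1 a
        by_cases h : p a
        · rw [dif_pos h]
        · rw [dif_neg h, (hU x.1).1 x.2 a h])
      right_inv := fun f => funext fun a => by simp [a.2] }
  rw [e.finrank_eq, Module.finrank_fintype_fun_eq_card, Fintype.card_subtype]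

theorem card_low : (Finset.univ.filter fun a : Fin (2 * N) => (a : ℕ) < N).card = N := by
  conv_rhs => rw [← Fintype.card_fin N, ← Finset.card_univ,
    ← Finset.card_image_of_injective _ (f := fun j : Fin N => idxA N (.inl j))
      (fun i j h => Sum.inl_injective ((idxA N).injective h))]
  congr 1
  ext a
  simp only [Finset.mem_filter, Finset.mem_univ, true_and, Finset.mem_image]
  constructor
  · exact fun h => ⟨⟨a, h⟩, Fin.ext rfl⟩
  · rintro ⟨j, rfl⟩; rw [idxA_inl]; exact j.2

theorem isMax_W0 : IsMaxSing (qA N K) N (W0 N K) := by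
  refine ⟨?_, fun x hx => ?_⟩
  · rw [finrank_supported (fun a => (a : ℕ) < N) (W0 N K) (fun x => ⟨fun h a ha => h a (not_lt.1 ha),
      fun h a ha => h a (not_lt.2 ha)⟩), card_low]
  · rw [qA_apply]
    refine Finset.sum_eq_zero fun j _ => mul_eq_zero_of_right _ (hx _ ?_)
    have := j.2
    rw [Fin.val_rev, idxA_inl]
    omega

theorem isMax_W1 : IsMaxSing (qA N K) N (W1 N K) := by
  refine ⟨?_, fun x hx => ?_⟩
  · rw [finrank_supported (fun a : Fin (2 * N) => N ≤ (a : ℕ)) (W1 N K) (fun x => ⟨fun h a ha => h a (not_le.1 ha),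
      fun h a ha => h a (not_le.2 ha)⟩)]
    have h := Finset.card_filter_add_card_filter_not (s := (Finset.univ : Finset (Fin (2 * N))))
      (fun a : Fin (2 * N) => (a : ℕ) < N)
    simp only [card_low, Finset.card_univ, Fintype.card_fin, not_lt] at h
    omega
  · rw [qA_apply]
    exact Finset.sum_eq_zero fun j _ => mul_eq_zero_of_left (hx _ (by rw [idxA_inl]; exact j.2)) _

theorem hyperA : AutPOmega.Hyperbolic (qA N K) N :=
  ⟨qA_nondeg, Fintype.card_fin _, _, isMax_W0⟩

/-- preserving the parity classes -/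
def Pr (g : SLn (2 * N) K) : Prop := Cfsg.PreservesSingularClasses (⇑(qA N K)) g.1

theorem InO.pair {g : SLn (2 * N) K} (hg : InO g) :
    Cfsg.IsSemisimilarityPair (⇑(qA N K)) (Matrix.SpecialLinearGroup.toGL g) 1 :=
  AutPOmega.isPair_iso (Orth.mem_isometryGroup.2 hg)

theorem pr_iff {g : SLn (2 * N) K} (hg : InO g) {U : Submodule K (Fin (2 * N) → K)}
    (hU : IsMaxSing (qA N K) N U) :
    Pr g ↔ Even (N - Module.finrank K ↥(U ⊓ U.map (Matrix.toLin' g.1))) :=
  AutPOmega.pres_iff hyperA hg.pair hU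

theorem pr_of_stab {g : SLn (2 * N) K} (hg : InO g) {U : Submodule K (Fin (2 * N) → K)}
    (hU : IsMaxSing (qA N K) N U) (h : ∀ x ∈ U, g.1 *ᵥ x ∈ U) : Pr g := by
  have hle : U.map (Matrix.toLin' g.1) ≤ U := by
    rintro _ ⟨x, hx, rfl⟩
    rw [Matrix.toLin'_apply]
    exact h x hx
  have heq : U.map (Matrix.toLin' g.1) = U :=
    Submodule.eq_of_le_of_finrank_eq hle (AutPOmega.finrank_image (Matrix.SpecialLinearGroup.toGL g) U)
  rw [pr_iff hg hU, heq, inf_idem, hU.1, Nat.sub_self]
  exact Even.zero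

theorem pr_uni {g : SLn (2 * N) K} (hg : InO g) (hu : g ∈ uniU (2 * N) K) : Pr g :=
  pr_of_stab hg isMax_W0 fun x hx a ha => by
    rw [Matrix.mulVec, dotProduct]
    refine Finset.sum_eq_zero fun b _ => ?_
    by_cases hb : N ≤ (b : ℕ)
    · rw [hx b hb, mul_zero]
    · rw [show g.1 a b = 0 from hu.1 (show id b < id a by simp only [id, Fin.lt_def]; omega), zero_mul]

theorem pr_lo {g : SLn (2 * N) K} (hg : InO g) (hl : g ∈ loU (2 * N) K) : Pr g :=
  pr_of_stab hg isMax_W1 fun x hx a ha => by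
    rw [Matrix.mulVec, dotProduct]
    refine Finset.sum_eq_zero fun b _ => ?_
    by_cases hb : (b : ℕ) < N
    · rw [hx b hb, mul_zero]
    · rw [(mem_loU.1 hl).1 a b (by rw [Fin.lt_def]; omega), zero_mul]

theorem Pr.mul {g h : SLn (2 * N) K} (hg : InO g) (hh : InO h) (pg : Pr g) (ph : Pr h) : Pr (g * h) := by
  have := (AutPOmega.pres_mul hyperA hg.pair hh.pair).2 (iff_of_true pg ph)
  rwa [← map_mul] at this

theorem Pr.inv {g : SLn (2 * N) K} (hg : InO g) (pg : Pr g) : Pr g⁻¹ := by
  have := (AutPOmega.pres_inv hyperA hg.pair).2 pg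
  rwa [← map_inv] at this

/-- the number of crossings -/
def cross (σ : Equiv.Perm (Fin (2 * N))) : ℕ :=
  (Finset.univ.filter fun a : Fin (2 * N) => (a : ℕ) < N ∧ N ≤ ((σ a : Fin (2 * N)) : ℕ)).card

theorem even_cross {m : SLn (2 * N) K} (hmO : InO m) (hP : Pr m) {σ : Equiv.Perm (Fin (2 * N))}
    (hm : Mono σ m.1) : Even (cross σ) := by
  rw [pr_iff hmO isMax_W0] at hP
  have hmv : ∀ (x : Fin (2 * N) → K) a, (m.1 *ᵥ x) (σ a) = m.1 (σ a) a * x a := fun x a => by
    rw [Matrix.mulVec, dotProduct, Finset.sum_eq_single a]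
    · intro b _ hb
      rw [not_not.1 (fun h => hb (σ.injective (hm _ _ h)).symm : ¬ m.1 (σ a) b ≠ 0), zero_mul]
    · simp
  have hdim : Module.finrank K ↥(W0 N K ⊓ (W0 N K).map (Matrix.toLin' m.1)) =
      (Finset.univ.filter fun a : Fin (2 * N) => (a : ℕ) < N ∧ ((σ.symm a : Fin (2 * N)) : ℕ) < N).card := by
    refine finrank_supported _ _ fun x => ⟨?_, fun h => ⟨fun a ha => h a fun hc => absurd hc.1 (not_lt.2 ha), ?_⟩⟩
    · rintro ⟨hx, y, hy, rfl⟩ a ha
      by_cases haN : (a : ℕ) < N
      · rw [Matrix.toLin'_apply]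
        obtain ⟨c, rfl⟩ := σ.surjective a
        rw [hmv, hy c (not_lt.1 fun hc => ha ⟨haN, by rwa [σ.symm_apply_apply]⟩), mul_zero]
      · exact hx a (not_lt.1 haN)
    · refine ⟨fun c => (m.1 (σ c) c)⁻¹ * x (σ c), fun c hc => ?_, ?_⟩
      · show _ * x (σ c) = 0
        rw [h (σ c) fun hh => absurd hh.2 (by rw [σ.symm_apply_apply]; exact not_lt.2 hc), mul_zero]
      · ext a
        obtain ⟨c, rfl⟩ := σ.surjective a
        rw [Matrix.toLin'_apply, hmv, mul_inv_cancel_left₀ (hm.apply_ne c)]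
  have hbij : (Finset.univ.filter fun a : Fin (2 * N) => (a : ℕ) < N ∧ ((σ.symm a : Fin (2 * N)) : ℕ) < N).card =
      (Finset.univ.filter fun a : Fin (2 * N) => (a : ℕ) < N ∧ ((σ a : Fin (2 * N)) : ℕ) < N).card :=
    Finset.card_equiv σ.symm (fun a => by simp [and_comm])
  have hsplit : cross σ +
      (Finset.univ.filter fun a : Fin (2 * N) => (a : ℕ) < N ∧ ((σ a : Fin (2 * N)) : ℕ) < N).card = N := by
    rw [cross, ← Finset.card_union_of_disjoint, ← Finset.filter_or]
    · refine Eq.trans (congrArg Finset.card (Finset.filter_congr fun a _ => ?_)) card_low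
      omega
    · rw [Finset.disjoint_filter]; intro a _ h1 h2; omega
  rw [hdim, hbij] at hP
  rwa [show N - (Finset.univ.filter fun a : Fin (2 * N) => (a : ℕ) < N ∧ ((σ a : Fin (2 * N)) : ℕ) < N).card =
    cross σ by omega] at hP

/-! ### Lower Siegel elements -/

/-- the Siegel map attached to the last coordinate paired with `q` and a vector -/
def sieg (q : Fin (2 * N)) (y : Fin (2 * N) → K) : Matrix (Fin (2 * N)) (Fin (2 * N)) K :=
  LinearMap.toMatrix' (Orth.siegelMap (qA N K) (Pi.single q.rev 1) y)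

theorem polar_single (x : Fin (2 * N) → K) (q : Fin (2 * N)) : polar (qA N K) x (Pi.single q.rev 1) = x q := by
  rw [polar_qA, Finset.sum_eq_single q]
  · simp
  · intro b _ hb; simp [Pi.single_apply, hb]
  · simp

theorem sieg_apply (q : Fin (2 * N)) (y : Fin (2 * N) → K) (a b : Fin (2 * N)) :
    sieg q y a b = (if a = b then 1 else 0) + (if b = q then y a else 0) -
      (if a = q.rev then y b.rev + qA N K y * (if b = q then 1 else 0) else 0) := by
  rw [sieg, LinearMap.toMatrix'_apply]
  simp only [Orth.siegelMap, LinearMap.coe_mk, AddHom.coe_mk]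
  have h1 : polar (qA N K) (Pi.single b 1) y = y b.rev := by
    rw [Orth.b_comm, show (Pi.single b 1 : Fin (2 * N) → K) = Pi.single b.rev.rev 1 by rw [Fin.rev_rev], polar_single]
  rw [polar_single, h1]
  simp only [Pi.add_apply, Pi.sub_apply, Pi.smul_apply, Pi.single_apply, smul_eq_mul]
  simp only [show (q = b) = (b = q) from propext eq_comm]
  split_ifs <;> simp

theorem exists_sieg (q : Fin (2 * N)) (y : Fin (2 * N) → K) (hq : (q : ℕ) < N)
    (hy : ∀ a, y a ≠ 0 → q < a ∧ a < q.rev) :
    ∃ g : SLn (2 * N) K, g.1 = sieg q y ∧ g ∈ loU (2 * N) K ∧ InO g := by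
  have hzero : ∀ a b, a < b → sieg q y a b = 0 := by
    intro a b hab
    have h1 : b = q → y a = 0 := fun e => not_not.1 fun h => by
      have := (hy a h).1
      subst e
      exact lt_asymm hab this
    have h2 : a = q.rev → y b.rev = 0 := fun e => not_not.1 fun h => by
      have := (hy b.rev h).1
      subst e
      rw [Fin.lt_def, Fin.val_rev] at this hab
      omega
    have h3 : a = q.rev → b ≠ q := fun e e' => by
      subst e e'
      rw [Fin.lt_def, Fin.val_rev] at hab
      omega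
    rw [sieg_apply, if_neg hab.ne]
    by_cases ha : a = q.rev
    · rw [if_pos ha, h2 ha, if_neg (h3 ha), if_neg (h3 ha)]; simp
    · rw [if_neg ha]
      by_cases hb : b = q
      · rw [if_pos hb, h1 hb]; simp
      · rw [if_neg hb]; simp
  have hdiag : ∀ a, sieg q y a a = 1 := by
    intro a
    have h1 : a = q → y a = 0 := fun e => not_not.1 fun h => lt_irrefl _ (e ▸ (hy a h).1)
    have h2 : a = q.rev → y a.rev = 0 := fun e => not_not.1 fun h => by
      have := (hy a.rev h).1
      rw [e, Fin.rev_rev] at this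
      exact lt_irrefl _ this
    rw [sieg_apply, if_pos rfl]
    by_cases ha : a = q.rev
    · have hne : a ≠ q := fun e => by
        have := congrArg Fin.val (e.symm.trans ha)
        rw [Fin.val_rev] at this
        omega
      rw [if_pos ha, if_neg hne, if_neg hne, h2 ha]; simp
    · rw [if_neg ha]
      by_cases hb : a = q
      · rw [if_pos hb, h1 hb]; simp
      · rw [if_neg hb]; simp
  refine ⟨⟨sieg q y, ?_⟩, rfl, mem_loU.2 ⟨hzero, hdiag⟩, ?_⟩
  · rw [Matrix.det_of_isLowerTriangular (sieg q y) fun a b (h : OrderDual.toDual b < OrderDual.toDual a) => hzero a b h]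
    exact Finset.prod_eq_one fun a _ => hdiag a
  · have hu : qA N K (Pi.single q.rev 1) = 0 := by
      have h := polar_single (Pi.single q.rev 1 : Fin (2 * N) → K) q
      rw [qA_apply]
      refine Finset.sum_eq_zero fun j _ => mul_eq_zero_of_left (Pi.single_eq_of_ne (fun e => ?_) _) _
      have := congrArg Fin.val e
      rw [idxA_inl, Fin.val_rev] at this
      omega
    have huy : polar (qA N K) (Pi.single q.rev 1) y = 0 := by
      rw [Orth.b_comm, polar_single]
      exact not_not.1 fun h => lt_irrefl _ (hy q h).1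
    intro x
    obtain ⟨g, hg, hgs⟩ := Orth.exists_siegel hu huy
    show qA N K (sieg q y *ᵥ x) = qA N K x
    rw [show sieg q y *ᵥ x = g x from ?_, hg]
    rw [hgs, ← Matrix.toLin'_apply, sieg, Matrix.toLin'_toMatrix']
    rfl

end Cfsg.Agent.DSplit
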