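import Cfsg.Agent.Lib.Lie.ChevLong
import Cfsg.Agent.Lib.Lie.ChevParabolic

/-!
# The longest element of a parabolic Weyl subgroup on the roots
-/

set_option autoImplicit false

namespace Cfsg.Agent.Chev

namespace Tab

variable {T : Tab} {K : List (List ℕ)}

/-- reflections are linear on the Cartan coordinates -/
theorem A_ref_rel (g : T.Good) {i s : ℕ} (hi : i < T.l) (hs : s < T.n) {j : ℕ} (hj : j < T.l) :
    T.A j (T.ref i s) = T.A j s + T.A j (T.smp i) * T.A i (T.ref i s) := by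
  have := ((g.refl' hi hs).2.2.2.2.2.2.2.2 j hj).1
  linarith

theorem A_ref_comb (g : T.Good) {i : ℕ} (hi : i < T.l) {r s t : ℕ} (hr : r < T.n) (hs : s < T.n)
    (ht : t < T.n) {k : ℤ} (h : ∀ m < T.l, T.A m t = T.A m r + k * T.A m s) :
    ∀ m < T.l, T.A m (T.ref i t) = T.A m (T.ref i r) + k * T.A m (T.ref i s) := by
  intro m hm
  have hu : ∀ u < T.n, T.A m (T.ref i u) = T.A m u - T.A m (T.smp i) * T.A i u := by
    intro u hu
    have h1 := A_ref_rel g hi (g.ref_lt hi hu) hm
    rw [g.ref_ref hi hu] at h1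
    linarith
  rw [hu t ht, hu r hr, hu s hs, h m hm, h i hi]
  ring

theorem A_rw'_comb (g : T.Good) : ∀ {L : List ℕ}, T.Wd L → ∀ {r s t : ℕ}, r < T.n → s < T.n →
    t < T.n → ∀ {k : ℤ}, (∀ m < T.l, T.A m t = T.A m r + k * T.A m s) →
    ∀ m < T.l, T.A m (T.rw' L t) = T.A m (T.rw' L r) + k * T.A m (T.rw' L s)
  | [], _, _, _, _, _, _, _, _, h => h
  | i :: L, hL, r, s, t, hr, hs, ht, k, h => by
    obtain ⟨hi, hL'⟩ := Wd.cons_iff.1 hL
    exact A_ref_comb g hi (rw'_lt g hL' hr) (rw'_lt g hL' hs) (rw'_lt g hL' ht)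
      (A_rw'_comb g hL' hr hs ht h)

theorem phi_nonpos (g : T.GoodK K) {s : ℕ} (hs : s < T.n) (hN : s < T.N) {k : ℕ} (hk : k < T.l) :
    T.phi K k s ≤ 0 := by
  by_contra h
  have := (phi_sign g hk hs).1.1 (not_le.1 h)
  have := ((g.toGood.sign' hs).1 k hk).2.1 hN
  omega

theorem phi_nonneg (g : T.GoodK K) {s : ℕ} (hs : s < T.n) (hN : T.N ≤ s) {k : ℕ} (hk : k < T.l) :
    0 ≤ T.phi K k s := by
  by_contra h
  have := (phi_sign g hk hs).2.1 (not_le.1 h)
  have := ((g.toGood.sign' hs).1 k hk).1 hN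
  omega

theorem phi_smp_pos (g : T.GoodK K) {j : ℕ} (hj : j < T.l) : 0 < T.phi K j (T.smp j) := by
  rw [(phi_sign g hj (g.toGood.smp_lt hj)).1, c_smp g.toGood hj hj, if_pos rfl]
  norm_num

/-- A word inverting the fundamental roots of `J` inverts the positive roots of `Φ_J`. -/
theorem inverts_inJ (g : T.GoodK K) {J : Set ℕ} {L : List ℕ} (hL : T.Wd L)
    (h : ∀ j < T.l, j ∈ J → T.rw' L (T.smp j) < T.N) :
    ∀ r ∈ T.inJ J, T.N ≤ r → T.rw' L r < T.N := by
  have hg := g.toGood
  suffices key : ∀ (d : ℕ), ∀ r ∈ T.inJ J, T.N ≤ r →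
      (∑ k ∈ Finset.range T.l, T.phi K k r).toNat = d → T.rw' L r < T.N from
    fun r hr hN => key _ r hr hN rfl
  intro d
  induction d using Nat.strong_induction_on with
  | _ d ih =>
    rintro r ⟨hn, hc⟩ hN hd
    obtain ⟨j, hj, hpos⟩ : ∃ j ∈ Finset.range T.l, 0 < T.c r j * T.A j r := by
      by_contra hh
      push Not at hh
      have := Finset.sum_nonpos hh
      have := (hg.sign' hn).2.1
      omega
    have hjl := Finset.mem_range.1 hj
    have hcj := ((hg.sign' hn).1 j hjl).1 hN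
    have hjJ : j ∈ J := by
      by_contra hne
      rw [hc j hjl hne, zero_mul] at hpos
      exact lt_irrefl _ hpos
    have hA : 0 < T.A j r := by
      by_contra hh
      exact absurd hpos (not_lt.2 (mul_nonpos_of_nonneg_of_nonpos hcj (not_lt.1 hh)))
    by_cases hsp : r = T.smp j
    · exact hsp ▸ h j hjl hjJ
    have hu := hg.ref_lt hjl hn
    have huN : T.N ≤ T.ref j r := hg.ref_pos hjl hn hN hsp
    have hAu : T.A j (T.ref j r) = -T.A j r := by
      have h1 := A_ref_rel hg hjl hn hjl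
      have h2 : T.A j (T.smp j) = 2 := by
        have h := (hg.sign' (hg.smp_lt hjl)).2.1
        rw [Finset.sum_eq_single j (fun b hb hne => by
          rw [c_smp hg hjl (Finset.mem_range.1 hb), if_neg hne, zero_mul])
          (fun hne => absurd hj hne)] at h
        rw [c_smp hg hjl hjl, if_pos rfl, one_mul] at h
        exact h
      rw [h2] at h1
      linarith
    have hcomb : ∀ m < T.l, T.A m r = T.A m (T.ref j r) + T.A j r * T.A m (T.smp j) := by
      intro m hm
      have h1 := A_ref_rel hg hjl hn hm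
      rw [hAu] at h1
      linarith
    have hphi : ∀ k, T.phi K k r = T.phi K k (T.ref j r) + T.A j r * T.phi K k (T.smp j) := fun k => by
      have := phi_linear (K := K) (i := 1) (j := T.A j r)
        (fun m hm => by rw [one_mul]; exact hcomb m hm) k
      simpa using this
    have hlt : (∑ k ∈ Finset.range T.l, T.phi K k (T.ref j r)).toNat < d := by
      have h0 : 0 ≤ ∑ k ∈ Finset.range T.l, T.phi K k (T.ref j r) :=
        Finset.sum_nonneg fun k hk => phi_nonneg g hu huN (Finset.mem_range.1 hk)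
      have h1 : 0 < ∑ k ∈ Finset.range T.l, T.phi K k (T.smp j) :=
        Finset.sum_pos' (fun k hk => phi_nonneg g (hg.smp_lt hjl) (hg.smp_ge hjl) (Finset.mem_range.1 hk))
          ⟨j, hj, phi_smp_pos g hjl⟩
      have h2 : ∑ k ∈ Finset.range T.l, T.phi K k r = (∑ k ∈ Finset.range T.l, T.phi K k (T.ref j r)) +
          T.A j r * ∑ k ∈ Finset.range T.l, T.phi K k (T.smp j) := by
        rw [Finset.mul_sum, ← Finset.sum_add_distrib]
        exact Finset.sum_congr rfl fun k _ => hphi k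
      have h3 := mul_pos hA h1
      omega
    have hneg := ih _ hlt (T.ref j r) (ref_inJ hg hjl hjJ ⟨hn, hc⟩) huN rfl
    have himg := A_rw'_comb hg hL hu (hg.smp_lt hjl) hn hcomb
    by_contra hpos'
    push Not at hpos'
    have hvn := rw'_lt hg hL hn
    have hz : ∀ k < T.l, T.c (T.rw' L r) k = 0 := by
      intro k hk
      have h1 := phi_linear (K := K) (i := 1) (j := T.A j r)
        (fun m hm => by rw [one_mul]; exact himg m hm) k
      have h2 := phi_nonpos g (rw'_lt hg hL hu) hneg hk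
      have h3 := phi_nonpos g (rw'_lt hg hL (hg.smp_lt hjl)) (h j hjl hjJ) hk
      have h4 : T.phi K k (T.rw' L r) ≤ 0 := by nlinarith
      have h5 := ((hg.sign' hvn).1 k hk).1 hpos'
      rcases h5.lt_or_eq with h6 | h6
      · have := (phi_sign g hk hvn).1.2 h6; omega
      · exact h6.symm
    have := (hg.sign' hvn).2.1
    rw [Finset.sum_eq_zero fun k hk => by rw [hz k (Finset.mem_range.1 hk), zero_mul]] at this
    norm_num at this

theorem rw'_outJ (g : T.Good) {J : Set ℕ} : ∀ {L : List ℕ}, T.Wd L → (∀ i ∈ L, i ∈ J) →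
    ∀ r ∈ T.outJ J, T.rw' L r ∈ T.outJ J
  | [], _, _, _, hr => hr
  | i :: L, hL, hJ, r, hr => by
    obtain ⟨hi, hL'⟩ := Wd.cons_iff.1 hL
    exact ref_outJ g hi (hJ i List.mem_cons_self)
      (rw'_outJ g hL' (fun x hx => hJ x (List.mem_cons_of_mem _ hx)) r hr)

theorem exists_longestJ (g : T.GoodK K) (J : Set ℕ) :
    ∃ L, T.Wd L ∧ (∀ i ∈ L, i ∈ J) ∧ ∀ r ∈ T.inJ J, T.N ≤ r → T.rw' L r < T.N := by
  have hg := g.toGood
  have key : ∀ k L, T.Wd L → (∀ i ∈ L, i ∈ J) → T.n - (T.invSet L).card ≤ k →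
      ∃ L, T.Wd L ∧ (∀ i ∈ L, i ∈ J) ∧ ∀ i < T.l, i ∈ J → T.rw' L (T.smp i) < T.N := by
    intro k
    induction k with
    | zero =>
      intro L hL hLJ hk
      refine ⟨L, hL, hLJ, fun i hi _ => ?_⟩
      by_contra h
      have h1 := invSet_grow hg hL hi (not_lt.1 h)
      have h2 : (T.invSet (L ++ [i])).card ≤ T.n := by
        refine (Finset.card_filter_le _ _).trans ?_
        simp
      omega
    | succ k ih =>
      intro L hL hLJ hk
      by_cases h : ∀ i < T.l, i ∈ J → T.rw' L (T.smp i) < T.N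
      · exact ⟨L, hL, hLJ, h⟩
      push Not at h
      obtain ⟨i, hi, hiJ, h⟩ := h
      have h1 := invSet_grow hg hL hi h
      refine ih (L ++ [i]) (Wd.append_iff.2 ⟨hL, by simp [Wd, hi]⟩) ?_ (by omega)
      intro x hx
      rcases List.mem_append.1 hx with hx | hx
      · exact hLJ x hx
      · rw [List.mem_singleton] at hx; exact hx ▸ hiJ
  obtain ⟨L, hL, hLJ, h⟩ := key T.n [] (by simp [Wd]) (by simp) (Nat.sub_le _ _)
  exact ⟨L, hL, hLJ, inverts_inJ g hL h⟩

end Tab

end Cfsg.Agent.Chev
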