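import Cfsg.Agent.Lib.Lie.BNPair
import Mathlib.Algebra.BigOperators.Ring.Finset
import Mathlib.Data.Nat.Choose.Sum

/-!
# Reduced representatives of parabolic double cosets in the Weyl group of a Tits system
-/

set_option autoImplicit false

namespace Cfsg.Agent.BN

variable {G : Type*} [Group G] (P : Cfsg.BNPair G)

/-- representatives of a set of distinguished involutions -/
abbrev sJ (J : Set P.S) : Set G := Subtype.val '' J

theorem mem_sJ {J : Set P.S} {s : P.S} : (s : G) ∈ sJ P J ↔ s ∈ J :=
  Subtype.val_injective.mem_set_image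

theorem sJ_subset (J : Set P.S) : sJ P J ⊆ P.S := by rintro _ ⟨s, -, rfl⟩; exact s.2

theorem wp_mem (J : Set P.S) {l : List P.S} (h : ∀ s ∈ l, s ∈ J) : wp P l ∈ wJ P (sJ P J) :=
  wp_mem_wJ P fun s hs => (mem_sJ P).2 (h s hs)

theorem exists_reduced_mem (J : Set P.S) {v : W P} (hv : v ∈ wJ P (sJ P J)) :
    ∃ l : List P.S, (∀ s ∈ l, s ∈ J) ∧ wp P l = v ∧ l.length = len P v := by
  obtain ⟨l, hl, rfl⟩ := (mem_wJ_iff P).1 hv
  obtain ⟨m, hm, he, hlen⟩ := exists_reduced_in P l hl
  exact ⟨m, fun s hs => (mem_sJ P).1 (hm s hs), he, hlen⟩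

theorem len_mul_le (v w : W P) : len P (v * w) ≤ len P v + len P w := by
  obtain ⟨l, hl, rfl⟩ := exists_reduced P v
  obtain ⟨m, hm, rfl⟩ := exists_reduced P w
  rw [← hl, ← hm, ← wp_append, ← List.length_append]
  exact len_wp_le P _

/-- A product that is not reduced loses two of its letters. -/
theorem deletion : ∀ L : List P.S, len P (wp P L) < L.length →
    ∃ L', L'.Sublist L ∧ L'.length + 2 = L.length ∧ wp P L' = wp P L
  | [], h => absurd h (by simp)
  | s :: R, h => by
    have hR := len_wp_le P R
    by_cases h' : len P (wp P R) < R.length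
    · obtain ⟨L', hs, hlen, he⟩ := deletion R h'
      exact ⟨s :: L', hs.cons_cons s, by simp only [List.length_cons]; omega, by simp [he]⟩
    · have hne := len_σ_mul_ne P s (wp P R)
      simp only [List.length_cons, wp_cons] at h
      obtain ⟨i, hi, he⟩ := exchange P s R (by omega) (by omega)
      refine ⟨R.eraseIdx i, (List.eraseIdx_sublist ..).cons s, ?_, by rw [wp_cons, he]⟩
      simp only [List.length_cons, List.length_eraseIdx_of_lt hi]
      omega

/-- left ascents -/
def AscL (J : Set P.S) (w : W P) : Prop := ∀ s ∈ J, len P w < len P (σ P s * w)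

/-- right ascents -/
def AscR (J : Set P.S) (w : W P) : Prop := ∀ s ∈ J, len P w < len P (w * σ P s)

theorem len_mul_σ_ne (s : P.S) (w : W P) : len P (w * σ P s) ≠ len P w := by
  rw [← len_inv P (w * σ P s), ← len_inv P w, mul_inv_rev, σ_inv]
  exact len_σ_mul_ne P s _

/-- A shortest element of a double coset admits only additive decompositions. -/
theorem exists_add {J K : Set P.S} {d : W P}
    (hd : ∀ a ∈ wJ P (sJ P J), ∀ c ∈ wJ P (sJ P K), len P d ≤ len P (a * d * c))
    {a c : W P} (ha : a ∈ wJ P (sJ P J)) (hc : c ∈ wJ P (sJ P K)) :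
    ∃ a' c', a' ∈ wJ P (sJ P J) ∧ c' ∈ wJ P (sJ P K) ∧ a' * d * c' = a * d * c ∧
      len P (a' * d * c') = len P a' + len P d + len P c' := by
  induction hk : len P a + len P c using Nat.strong_induction_on generalizing a c with
  | _ k IH =>
    by_cases hadd : len P (a * d * c) = len P a + len P d + len P c
    · exact ⟨a, c, ha, hc, rfl, hadd⟩
    have hle : len P (a * d * c) ≤ len P a + len P d + len P c :=
      (len_mul_le P _ _).trans (Nat.add_le_add_right (len_mul_le P _ _) _)
    obtain ⟨A, hA, hAe, hAl⟩ := exists_reduced_mem P J ha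
    obtain ⟨C, hC, hCe, hCl⟩ := exists_reduced_mem P K hc
    obtain ⟨M, hMl, hMe⟩ := exists_reduced P d
    obtain ⟨L', hs, hlen, he⟩ := deletion P (A ++ M ++ C) (by
      simp only [wp_append, List.length_append, hAe, hMe, hCe]; omega)
    obtain ⟨X, C', rfl, hX, hC'⟩ := List.sublist_append_iff.1 hs
    obtain ⟨A', M', rfl, hA', hM'⟩ := List.sublist_append_iff.1 hX
    simp only [List.length_append] at hlen
    simp only [wp_append, hAe, hMe, hCe] at he
    have hA'm : wp P A' ∈ wJ P (sJ P J) := wp_mem P J fun x hx => hA x (hA'.subset hx)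
    have hC'm : wp P C' ∈ wJ P (sJ P K) := wp_mem P K fun x hx => hC x (hC'.subset hx)
    have hMlen := hM'.length_le
    have hMeq : M' = M := by
      refine hM'.eq_of_length_le ?_
      have := hd _ (mul_mem (inv_mem hA'm) ha) _ (mul_mem hc (inv_mem hC'm))
      rw [show (wp P A')⁻¹ * a * d * (c * (wp P C')⁻¹) =
          (wp P A')⁻¹ * (a * d * c) * (wp P C')⁻¹ by group, ← he,
        show (wp P A')⁻¹ * (wp P A' * wp P M' * wp P C') * (wp P C')⁻¹ = wp P M' by group] at this
      have := len_wp_le P M'
      omega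
    subst hMeq
    have h1 := len_wp_le P A'
    have h2 := len_wp_le P C'
    obtain ⟨a', c', ha', hc', he', hadd'⟩ :=
      IH (len P (wp P A') + len P (wp P C')) (by omega) hA'm hC'm rfl
    exact ⟨a', c', ha', hc', by rw [he', ← he, hMe], hadd'⟩

/-- the class of an element -/
def cls (J K : Set P.S) (w : W P) : Set (W P) :=
  DoubleCoset.doubleCoset w (wJ P (sJ P J) : Set (W P)) (wJ P (sJ P K))

theorem mem_cls {J K : Set P.S} {w v : W P} :
    v ∈ cls P J K w ↔ ∃ a ∈ wJ P (sJ P J), ∃ c ∈ wJ P (sJ P K), v = a * w * c :=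
  DoubleCoset.mem_doubleCoset

theorem self_mem_cls (J K : Set P.S) (w : W P) : w ∈ cls P J K w :=
  DoubleCoset.mem_doubleCoset_self _ _ w

theorem cls_eq_of_mem {J K : Set P.S} {w v : W P} (h : v ∈ cls P J K w) :
    cls P J K v = cls P J K w := DoubleCoset.doubleCoset_eq_of_mem h

theorem exists_asc_mem (J K : Set P.S) (w : W P) :
    ∃ d ∈ cls P J K w, AscL P J d ∧ AscR P K d ∧
      ∀ a ∈ wJ P (sJ P J), ∀ c ∈ wJ P (sJ P K), len P d ≤ len P (a * d * c) := by
  have hne : ∃ k, ∃ d ∈ cls P J K w, len P d = k := ⟨_, w, self_mem_cls P J K w, rfl⟩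
  classical
  obtain ⟨d, hd, hk⟩ := Nat.find_spec hne
  have hmin : ∀ a ∈ wJ P (sJ P J), ∀ c ∈ wJ P (sJ P K), len P d ≤ len P (a * d * c) := by
    intro a ha c hc
    rw [hk]
    refine Nat.find_min' hne ⟨_, ?_, rfl⟩
    rw [← cls_eq_of_mem P hd]
    exact (mem_cls P).2 ⟨a, ha, c, hc, rfl⟩
  refine ⟨d, hd, fun s hs => ?_, fun s hs => ?_, hmin⟩
  · have := hmin _ ((σ_mem_wJ_iff P s).2 ((mem_sJ P).2 hs)) 1 (one_mem _)
    rw [mul_one] at this
    exact lt_of_le_of_ne this (len_σ_mul_ne P s d).symm
  · have := hmin 1 (one_mem _) _ ((σ_mem_wJ_iff P s).2 ((mem_sJ P).2 hs))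
    rw [one_mul] at this
    exact lt_of_le_of_ne this (len_mul_σ_ne P s d).symm

theorem asc_unique {J K : Set P.S} {x d : W P} (hxL : AscL P J x) (hxR : AscR P K x)
    (hd : ∀ a ∈ wJ P (sJ P J), ∀ c ∈ wJ P (sJ P K), len P d ≤ len P (a * d * c))
    (hx : x ∈ cls P J K d) : x = d := by
  obtain ⟨a, ha, c, hc, rfl⟩ := (mem_cls P).1 hx
  obtain ⟨a', c', ha', hc', he, hadd⟩ := exists_add P hd ha hc
  rw [← he] at hxL hxR ⊢
  obtain ⟨A, hA, rfl, hAl⟩ := exists_reduced_mem P J ha'
  obtain ⟨C, hC, rfl, hCl⟩ := exists_reduced_mem P K hc'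
  have hA0 : A = [] := by
    cases A with
    | nil => rfl
    | cons s A =>
      exfalso
      have h := hxL s (hA s List.mem_cons_self)
      rw [show σ P s * (wp P (s :: A) * d * wp P C) = wp P A * d * wp P C by
        simp [mul_assoc, σ_cancel]] at h
      have h1 := len_mul_le P (wp P A * d) (wp P C)
      have h2 := len_mul_le P (wp P A) d
      have h3 := len_wp_le P A
      simp only [List.length_cons] at hAl
      omega
  have hC0 : C = [] := by
    induction C using List.reverseRecOn with
    | nil => rfl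
    | append_singleton C s _ =>
      exfalso
      have h := hxR s (hC s (by simp))
      rw [show wp P A * d * wp P (C ++ [s]) * σ P s = wp P A * d * wp P C by
        simp [mul_assoc, σ_mul_self]] at h
      have h1 := len_mul_le P (wp P A * d) (wp P C)
      have h2 := len_mul_le P (wp P A) d
      have h3 := len_wp_le P C
      simp only [List.length_append, List.length_singleton] at hCl
      omega
  subst hA0 hC0
  simp

/-- ascent representatives are unique in their class -/
theorem asc_cls_inj {J K : Set P.S} {x y : W P} (hx : AscL P J x ∧ AscR P K x)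
    (hy : AscL P J y ∧ AscR P K y) (h : cls P J K x = cls P J K y) : x = y := by
  obtain ⟨d, hd, -, -, hmin⟩ := exists_asc_mem P J K x
  have e := cls_eq_of_mem P hd
  rw [asc_unique P hx.1 hx.2 hmin (e ▸ self_mem_cls P J K x),
    asc_unique P hy.1 hy.2 hmin (e.trans h ▸ self_mem_cls P J K y)]

theorem card_cls (J K : Set P.S) :
    Nat.card (Set.range (cls P J K)) = Nat.card {x : W P // AscL P J x ∧ AscR P K x} := by
  refine (Nat.card_eq_of_bijective (fun x => (⟨cls P J K x.1, x.1, rfl⟩ : Set.range (cls P J K)))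
    ⟨fun x y h => Subtype.ext (asc_cls_inj P x.2 y.2 (congrArg Subtype.val h)), ?_⟩).symm
  rintro ⟨_, w, rfl⟩
  obtain ⟨d, hd, hL, hR, -⟩ := exists_asc_mem P J K w
  exact ⟨⟨d, hL, hR⟩, Subtype.ext (cls_eq_of_mem P hd)⟩

/-- one sided classes: the lengths add -/
theorem len_add_of_ascR {K : Set P.S} {x : W P} (hx : AscR P K x) {v : W P}
    (hv : v ∈ wJ P (sJ P K)) : len P (x * v) = len P x + len P v := by
  obtain ⟨d, hd, -, -, hmin⟩ := exists_asc_mem P ∅ K x
  have hxL : AscL P ∅ x := fun s hs => absurd hs (Set.notMem_empty _)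
  have e : x = d := asc_unique P hxL hx hmin (by
    rw [cls_eq_of_mem P hd]; exact self_mem_cls P _ _ _)
  subst e
  obtain ⟨a, c, ha, hc, he, hadd⟩ := exists_add P hmin (one_mem _) hv
  have ha1 : a = 1 := by
    obtain ⟨A, hA, rfl, -⟩ := exists_reduced_mem P ∅ ha
    cases A with
    | nil => simp
    | cons s A => exact absurd (hA s List.mem_cons_self) (Set.notMem_empty _)
  subst ha1
  simp only [one_mul, len_one, zero_add] at he hadd
  rw [mul_left_cancel he] at hadd
  exact hadd

/-! ### the longest element -/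

/-- all right descents -/
def Top (w : W P) : Prop := ∀ s : P.S, len P (w * σ P s) < len P w

theorem top_split {w : W P} (hw : Top P w) : ∀ Z : List P.S, len P (wp P Z) = Z.length →
    len P (w * (wp P Z)⁻¹) + Z.length = len P w := by
  intro Z
  induction hn : Z.length generalizing Z with
  | zero =>
    intro _
    rw [List.length_eq_zero_iff.1 hn]
    simp
  | succ k ih =>
    intro hZ
    obtain ⟨Z', s, rfl⟩ : ∃ Z' s, Z = Z' ++ [s] := by
      induction Z using List.reverseRecOn with
      | nil => simp at hn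
      | append_singleton Z' s _ => exact ⟨Z', s, rfl⟩
    simp only [List.length_append, List.length_singleton] at hn
    have hZ' : len P (wp P Z') = Z'.length := by
      refine le_antisymm (len_wp_le P Z') ?_
      have h := len_mul_le P (wp P Z') (σ P s)
      rw [len_σ] at h
      simp only [wp_append, wp_cons, wp_nil, mul_one] at hZ
      omega
    have h := ih Z' (by omega) (by omega)
    obtain ⟨B, hB, hBe⟩ := exists_reduced P (w * (wp P Z')⁻¹)
    have hwB : wp P (B ++ Z') = w := by rw [wp_append, hBe, inv_mul_cancel_right]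
    -- exchange on the inverse
    have hrev : wp P (B ++ Z').reverse = w⁻¹ := by rw [wp_reverse, hwB]
    have hlw : len P (σ P s * w⁻¹) < len P w := by
      rw [← len_inv P, mul_inv_rev, inv_inv, σ_inv]; exact hw s
    obtain ⟨i, hi, he⟩ := exchange P s (B ++ Z').reverse
      (by rw [hrev, len_inv, List.length_reverse, List.length_append]; omega)
      (by rw [hrev, List.length_reverse, List.length_append]; omega)
    rw [hrev, List.reverse_append] at he
    rw [List.reverse_append, List.length_append, List.length_reverse, List.length_reverse] at hi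
    by_cases hiZ : i < Z'.length
    · exfalso
      rw [List.eraseIdx_append_of_lt_length (by simpa using hiZ), wp_append, wp_reverse,
        ← hwB, wp_append, mul_inv_rev, ← mul_assoc] at he
      have he' := congrArg (len P) (mul_right_cancel he)
      rw [← len_inv P, mul_inv_rev, inv_inv, σ_inv] at he'
      simp only [wp_append, wp_cons, wp_nil, mul_one] at hZ
      have h2 := len_wp_le P (Z'.reverse.eraseIdx i)
      rw [List.length_eraseIdx_of_lt (by simpa using hiZ), List.length_reverse] at h2
      omega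
    · rw [List.eraseIdx_append_of_length_le (by simpa using hiZ), wp_append, wp_reverse] at he
      have e1 : w * (wp P (Z' ++ [s]))⁻¹ = w * σ P s * (wp P Z')⁻¹ := by
        simp [σ_inv, mul_assoc]
      have e2 : w * σ P s = (wp P (B.reverse.eraseIdx (i - Z'.reverse.length)))⁻¹ * wp P Z' := by
        have := congrArg (fun x => x⁻¹) he
        simpa [σ_inv] using this
      have hBl : B.reverse.length = B.length := List.length_reverse
      simp only [List.length_reverse] at e2
      have hle : len P (w * (wp P (Z' ++ [s]))⁻¹) + (k + 1) ≤ len P w := by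
        rw [e1, e2, mul_inv_cancel_right, len_inv]
        have h2 := len_wp_le P (B.reverse.eraseIdx (i - Z'.length))
        rw [List.length_eraseIdx_of_lt (by simp; omega), List.length_reverse] at h2
        omega
      have hge : len P w ≤ len P (w * (wp P (Z' ++ [s]))⁻¹) + (k + 1) := by
        calc len P w = len P (w * (wp P (Z' ++ [s]))⁻¹ * wp P (Z' ++ [s])) := by
              rw [inv_mul_cancel_right]
          _ ≤ _ := (len_mul_le P _ _).trans (by rw [hZ])
      omega

theorem top_unique {w w' : W P} (hw : Top P w) (hw' : Top P w') : w = w' := by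
  have key : ∀ {a b : W P}, Top P a → len P (a * b⁻¹) + len P b = len P a := by
    intro a b ha
    obtain ⟨Z, hZ, rfl⟩ := exists_reduced P b
    rw [← hZ]
    exact top_split P ha Z hZ.symm
  have h1 := key (b := w') hw
  have h2 := key (b := w) hw'
  have : len P (w * w'⁻¹) = 0 := by
    rw [← len_inv P (w' * w⁻¹), mul_inv_rev, inv_inv] at h2
    omega
  rwa [len_eq_zero, mul_inv_eq_one] at this

theorem top_left {w : W P} (hw : Top P w) (s : P.S) : len P (σ P s * w) < len P w := by
  obtain ⟨Z, hZ, hZe⟩ := exists_reduced P (σ P s * w)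
  have h := top_split P hw Z (by rw [hZe, hZ])
  rw [hZe] at h
  have h2 := len_σ_mul_ne P s w
  omega

/-- The alternating sum over the right ascent sets detects the longest element. -/
theorem alt_sum [Fintype P.S] [DecidableEq P.S] (w : W P) :
    ∑ K ∈ (Finset.univ : Finset P.S).powerset,
      (-1 : ℤ) ^ K.card * (Set.indicator {K : Set P.S | AscR P K w} (fun _ => (1 : ℤ)) ↑K) =
      Set.indicator {w : W P | Top P w} (fun _ => (1 : ℤ)) w := by
  classical
  set A : Finset P.S := Finset.univ.filter fun s => len P w < len P (w * σ P s) with hA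
  have hiff : ∀ K : Finset P.S, AscR P (↑K : Set P.S) w ↔ K ⊆ A := fun K => by
    simp [AscR, hA, Finset.subset_iff]
  have e : ∀ K : Finset P.S, (-1 : ℤ) ^ K.card *
      (Set.indicator {K : Set P.S | AscR P K w} (fun _ => (1 : ℤ)) ↑K) =
      if K ⊆ A then (-1 : ℤ) ^ K.card else 0 := fun K => by
    by_cases h : K ⊆ A <;> simp [Set.indicator_apply, hiff, h]
  rw [Finset.sum_congr rfl fun K _ => e K, ← Finset.sum_filter,
    show (Finset.univ : Finset P.S).powerset.filter (fun K => K ⊆ A) = A.powerset by
      ext K; simp, Finset.sum_powerset_neg_one_pow_card]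
  have hT : Top P w ↔ A = ∅ := by
    rw [hA, Finset.filter_eq_empty_iff]
    exact ⟨fun h s _ => Nat.lt_asymm (h s), fun h s => lt_of_le_of_ne
      (not_lt.1 (h (Finset.mem_univ s))) (len_mul_σ_ne P s w)⟩
  by_cases h : A = ∅ <;> simp [Set.indicator_apply, hT, h]

theorem exists_top [Finite (W P)] : ∃ w : W P, Top P w := by
  classical
  obtain ⟨w, hw⟩ := Finite.exists_max (len P)
  exact ⟨w, fun s => lt_of_le_of_ne (hw _) (len_mul_σ_ne P s w)⟩

end Cfsg.Agent.BN
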