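import Cfsg.Agent.Lib.Steinberg.SLPair

/-!
# Unique Bruhat decomposition in the special linear groups
-/

set_option autoImplicit false
set_option linter.unusedSectionVars false
set_option linter.style.haveILetI false

namespace Cfsg.Agent.SLPair

open Matrix
open Cfsg.Agent.SLBlocks (uniU upper_mul_diag isUni_conj)

universe u

variable {n : ℕ} {F : Type u} [Field F]

/-- the lower unitriangular subgroup -/
def loU (n : ℕ) (F : Type u) [Field F] : Subgroup (SLn n F) where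
  carrier := {g | g.transpose ∈ uniU n F}
  one_mem' := by
    show (1 : SLn n F).transpose ∈ uniU n F
    rw [show (1 : SLn n F).transpose = 1 from Subtype.ext Matrix.transpose_one]
    exact one_mem _
  mul_mem' := fun {a b} ha hb => by
    show (a * b).transpose ∈ uniU n F
    rw [show (a * b).transpose = b.transpose * a.transpose from Subtype.ext (Matrix.transpose_mul _ _)]
    exact mul_mem hb ha
  inv_mem' := fun {a} ha => by
    show a⁻¹.transpose ∈ uniU n F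
    rw [show a⁻¹.transpose = a.transpose⁻¹ from eq_inv_of_mul_eq_one_left (Subtype.ext (by
      show (a⁻¹).1ᵀ * a.1ᵀ = 1
      rw [← Matrix.transpose_mul, ← Matrix.SpecialLinearGroup.coe_mul, mul_inv_cancel]
      exact Matrix.transpose_one))]
    exact inv_mem ha

theorem mem_loU {g : SLn n F} : g ∈ loU n F ↔ (∀ a b, a < b → g.1 a b = 0) ∧ ∀ a, g.1 a a = 1 :=
  ⟨fun h => ⟨fun a b hab => h.1 (show id a < id b from hab), h.2⟩,
    fun h => ⟨fun a b hab => h.1 b a hab, h.2⟩⟩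

theorem uni_loU_eq_one {g : SLn n F} (hu : g.1.IsUpperTriangular) (hl : g ∈ loU n F) : g = 1 := by
  refine Subtype.ext (Matrix.ext fun a b => ?_)
  show g.1 a b = (1 : Matrix (Fin n) (Fin n) F) a b
  rcases lt_trichotomy a b with h | rfl | h
  · rw [Matrix.one_apply_ne h.ne, (mem_loU.1 hl).1 a b h]
  · rw [Matrix.one_apply_eq, (mem_loU.1 hl).2]
  · rw [Matrix.one_apply_ne h.ne', hu (show id b < id a from h)]

theorem uni_diag_eq_one {g : SLn n F} (hu : g ∈ uniU n F) (h : Mono 1 g.1) : g = 1 := by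
  refine Subtype.ext (Matrix.ext fun a b => ?_)
  show g.1 a b = (1 : Matrix (Fin n) (Fin n) F) a b
  by_cases hab : a = b
  · subst hab; rw [Matrix.one_apply_eq]; exact hu.2 a
  · rw [Matrix.one_apply_ne hab]
    by_contra hne
    exact hab (h a b hne)

variable [Fintype F]

theorem Mono.inv_apply_mul {σ : Equiv.Perm (Fin n)} {m : SLn n F} (hm : Mono σ m.1) (a : Fin n) :
    m.1 (σ a) a * (m⁻¹).1 a (σ a) = 1 := by
  have h : (m.1 * (m⁻¹).1) (σ a) (σ a) = 1 := by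
    rw [← Matrix.SpecialLinearGroup.coe_mul, mul_inv_cancel]
    exact Matrix.one_apply_eq _
  rwa [hm.mul_left_apply] at h

theorem conj_apply {σ : Equiv.Perm (Fin n)} {m : SLn n F} (hm : Mono σ m.1) (g : SLn n F) (a b : Fin n) :
    (m * g * m⁻¹).1 (σ a) (σ b) = m.1 (σ a) a * g.1 a b * (m⁻¹).1 b (σ b) := by
  show (m.1 * g.1 * (m⁻¹).1) (σ a) (σ b) = _
  rw [hm.inv.mul_right_apply, hm.mul_left_apply]
  simp

theorem conj_apply_eq_zero {σ : Equiv.Perm (Fin n)} {m : SLn n F} (hm : Mono σ m.1) (g : SLn n F) (a b : Fin n) :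
    (m * g * m⁻¹).1 (σ a) (σ b) = 0 ↔ g.1 a b = 0 := by
  rw [conj_apply hm, mul_eq_zero, mul_eq_zero, or_iff_left (fun h => right_ne_zero_of_mul_eq_one (hm.inv_apply_mul b) h),
    or_iff_right (hm.apply_ne a)]

theorem conj_mem_uni_iff {σ : Equiv.Perm (Fin n)} {m : SLn n F} (hm : Mono σ m.1) {g : SLn n F}
    (hg : ∀ a, g.1 a a = 1) : m * g * m⁻¹ ∈ uniU n F ↔ ∀ a b, σ b < σ a → g.1 a b = 0 := by
  constructor
  · intro h a b hab
    exact (conj_apply_eq_zero hm g a b).1 (h.1 (show id (σ b) < id (σ a) from hab))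
  · intro h
    refine ⟨fun x y (hxy : y < x) => ?_, fun x => ?_⟩
    · obtain ⟨a, rfl⟩ := σ.surjective x
      obtain ⟨b, rfl⟩ := σ.surjective y
      exact (conj_apply_eq_zero hm g a b).2 (h a b hxy)
    · obtain ⟨a, rfl⟩ := σ.surjective x
      rw [conj_apply hm, hg, mul_one, hm.inv_apply_mul]

theorem conj_mem_lo_iff {σ : Equiv.Perm (Fin n)} {m : SLn n F} (hm : Mono σ m.1) {g : SLn n F}
    (hg : ∀ a, g.1 a a = 1) : m * g * m⁻¹ ∈ loU n F ↔ ∀ a b, σ a < σ b → g.1 a b = 0 := by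
  rw [mem_loU]
  constructor
  · intro h a b hab
    exact (conj_apply_eq_zero hm g a b).1 (h.1 _ _ hab)
  · intro h
    refine ⟨fun x y hxy => ?_, fun x => ?_⟩
    · obtain ⟨a, rfl⟩ := σ.surjective x
      obtain ⟨b, rfl⟩ := σ.surjective y
      exact (conj_apply_eq_zero hm g a b).2 (h a b hxy)
    · obtain ⟨a, rfl⟩ := σ.surjective x
      rw [conj_apply hm, hg, mul_one, hm.inv_apply_mul]

theorem torus_uni {d g : SLn n F} (hd : Mono 1 d.1) (hg : g ∈ uniU n F) : d * g * d⁻¹ ∈ uniU n F :=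
  isUni_conj (A := SpecialLinearGroup.toGL d) (mono_one_upper hd) hg

theorem torus_lo {d g : SLn n F} (hd : Mono 1 d.1) (hg : g ∈ loU n F) : d * g * d⁻¹ ∈ loU n F :=
  (conj_mem_lo_iff hd (mem_loU.1 hg).2).2 (by simpa using (mem_loU.1 hg).1)

/-- the permutation of a Bruhat cell is unique -/
theorem perm_eq {σ τ : Equiv.Perm (Fin n)} {m m' x y : SLn n F} (hm : Mono σ m.1) (hm' : Mono τ m'.1)
    (hx : x ∈ uniU n F) (hy : y ∈ uniU n F) (h : m * y = x * m') : σ = τ := by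
  have hle : ∀ a, σ a ≤ τ a := fun a => by
    refine le_of_not_gt fun hlt => ?_
    have e : (m.1 * y.1) (σ a) a = (x.1 * m'.1) (σ a) a :=
      congrFun (congrFun (congrArg Subtype.val h) (σ a)) a
    rw [hm.mul_left_apply, hy.2, mul_one, hm'.mul_right_apply,
      show x.1 (σ a) (τ a) = 0 from hx.1 (show id (τ a) < id (σ a) from hlt), zero_mul] at e
    exact hm.apply_ne a e
  refine Equiv.ext fun a => ?_
  by_contra hne
  have h1 : ∑ x, ((σ x : Fin n) : ℕ) < ∑ x, ((τ x : Fin n) : ℕ) :=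
    Finset.sum_lt_sum (fun x _ => hle x) ⟨a, Finset.mem_univ _, Fin.lt_def.1 (lt_of_le_of_ne (hle a) hne)⟩
  rw [Equiv.sum_comp σ (fun x : Fin n => (x : ℕ)), Equiv.sum_comp τ (fun x : Fin n => (x : ℕ))] at h1
  exact lt_irrefl _ h1

/-- uniqueness in the Bruhat decomposition -/
theorem decomp_unique {σ σ' : Equiv.Perm (Fin n)} {u u' m m' v v' : SLn n F}
    (hu : u ∈ uniU n F) (hu' : u' ∈ uniU n F) (hm : Mono σ m.1) (hm' : Mono σ' m'.1)
    (hv : v ∈ uniU n F) (hv' : v' ∈ uniU n F) (hc : m * v * m⁻¹ ∈ loU n F) (hc' : m' * v' * m'⁻¹ ∈ loU n F)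
    (h : u * m * v = u' * m' * v') : σ = σ' ∧ u = u' ∧ m = m' ∧ v = v' := by
  have hσ : σ = σ' := perm_eq hm hm' (x := u⁻¹ * u') (y := v * v'⁻¹) (mul_mem (inv_mem hu) hu')
    (mul_mem hv (inv_mem hv')) (by
      rw [show m * (v * v'⁻¹) = u⁻¹ * (u * m * v) * v'⁻¹ by group, h]; group)
  subst hσ
  have hd : Mono 1 (m' * m⁻¹).1 := by
    have h1 : Mono (σ * σ⁻¹) (m'.1 * (m⁻¹).1) := hm'.mul hm.inv
    rw [mul_inv_cancel] at h1
    exact h1
  obtain ⟨d, hd'⟩ : ∃ d, m' * m⁻¹ = d := ⟨_, rfl⟩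
  rw [hd'] at hd
  have hm'd : m' = d * m := by rw [← hd']; group
  subst hm'd
  obtain ⟨x, hx, hxU⟩ : ∃ x, u'⁻¹ * u = x ∧ x ∈ uniU n F := ⟨_, rfl, mul_mem (inv_mem hu') hu⟩
  have e : x * (m * v * m⁻¹) = d * (m * v' * m⁻¹) := by
    rw [← hx, show u'⁻¹ * u * (m * v * m⁻¹) = u'⁻¹ * (u * m * v) * m⁻¹ by group, h]; group
  have hL : m * v' * m⁻¹ ∈ loU n F := by
    have h1 := torus_lo (d := d⁻¹) (g := d * m * v' * (d * m)⁻¹) (by simpa using hd.inv) hc'
    rwa [show d⁻¹ * (d * m * v' * (d * m)⁻¹) * d⁻¹⁻¹ = m * v' * m⁻¹ by group] at h1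
  have h2 : d⁻¹ * x = (m * v' * m⁻¹) * (m * v * m⁻¹)⁻¹ := by
    rw [show d⁻¹ * x = d⁻¹ * (x * (m * v * m⁻¹)) * (m * v * m⁻¹)⁻¹ by group, e]; group
  have h3 : d⁻¹ * x = 1 := uni_loU_eq_one
    (mono_one_upper (show Mono 1 (d⁻¹).1 by simpa using hd.inv) |>.mul hxU.1)
    (h2 ▸ mul_mem hL (inv_mem hc))
  have hxd : x = d := by rw [← mul_inv_cancel_left d x, h3, mul_one]
  have hd1 : d = 1 := uni_diag_eq_one (hxd ▸ hxU) hd
  subst hd1
  rw [hxd, one_mul, one_mul] at e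
  refine ⟨rfl, (inv_mul_eq_one.1 (hx.trans hxd)).symm, (one_mul m).symm, ?_⟩
  exact mul_left_cancel (mul_right_cancel e)

/-- unitriangular matrices with support in a set of pairs -/
noncomputable def uniEquiv (P : Fin n → Fin n → Prop) :
    {g : SLn n F // g ∈ uniU n F ∧ ∀ a b, a < b → ¬ P a b → g.1 a b = 0} ≃
      ({z : Fin n × Fin n // z.1 < z.2 ∧ P z.1 z.2} → F) where
  toFun g z := g.1.1 z.1.1 z.1.2
  invFun f := by
    classical
    let M : Matrix (Fin n) (Fin n) F := Matrix.of fun a b =>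
      if h : a < b ∧ P a b then f ⟨(a, b), h⟩ else if a = b then 1 else 0
    have hM : M.IsUpperTriangular := fun a b (hab : b < a) => by
      simp only [M, Matrix.of_apply]
      rw [dif_neg (fun h => lt_asymm h.1 hab), if_neg (ne_of_gt hab)]
    have hd : ∀ a, M a a = 1 := fun a => by
      simp only [M, Matrix.of_apply]
      rw [dif_neg (fun h => lt_irrefl a h.1), if_pos trivial]
    refine ⟨⟨M, by rw [Matrix.det_of_upperTriangular hM]; exact Finset.prod_eq_one fun a _ => hd a⟩,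
      ⟨hM, hd⟩, fun a b hab hP => ?_⟩
    simp only [M, Matrix.of_apply]
    rw [dif_neg (fun h => hP h.2), if_neg (ne_of_lt hab)]
  left_inv g := by
    classical
    refine Subtype.ext (Subtype.ext (Matrix.ext fun a b => ?_))
    simp only [Matrix.of_apply]
    split_ifs with h h'
    · rfl
    · subst h'; exact (g.2.1.2 a).symm
    · rcases lt_or_gt_of_ne h' with hlt | hlt
      · exact (g.2.2 a b hlt fun hP => h ⟨hlt, hP⟩).symm
      · exact (g.2.1.1 (show id b < id a from hlt)).symm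
  right_inv f := by
    classical
    funext z
    simp only [Matrix.of_apply]
    rw [dif_pos z.2]

/-- factorisation of the unitriangular group along a permutation -/
theorem uni_factor {σ : Equiv.Perm (Fin n)} {m : SLn n F} (hm : Mono σ m.1) {g : SLn n F}
    (hg : g ∈ uniU n F) : ∃ v₁ v₂ : SLn n F, v₁ ∈ uniU n F ∧ v₂ ∈ uniU n F ∧
      m * v₁ * m⁻¹ ∈ uniU n F ∧ m * v₂ * m⁻¹ ∈ loU n F ∧ g = v₁ * v₂ := by
  classical
  let A := {g : SLn n F // g ∈ uniU n F ∧ ∀ a b, a < b → ¬ σ a < σ b → g.1 a b = 0}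
  let B := {g : SLn n F // g ∈ uniU n F ∧ ∀ a b, a < b → ¬ ¬ σ a < σ b → g.1 a b = 0}
  have hA : ∀ v : A, m * v.1 * m⁻¹ ∈ uniU n F := fun v => (conj_mem_uni_iff hm v.2.1.2).2 fun a b h => by
    rcases lt_trichotomy a b with hab | rfl | hab
    · exact v.2.2 a b hab (not_lt.2 h.le)
    · exact absurd h (lt_irrefl _)
    · exact v.2.1.1 (show id b < id a from hab)
  have hB : ∀ v : B, m * v.1 * m⁻¹ ∈ loU n F := fun v => (conj_mem_lo_iff hm v.2.1.2).2 fun a b h => by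
    rcases lt_trichotomy a b with hab | rfl | hab
    · exact v.2.2 a b hab (not_not.2 h)
    · exact absurd h (lt_irrefl _)
    · exact v.2.1.1 (show id b < id a from hab)
  let φ : A × B → uniU n F := fun z => ⟨z.1.1 * z.2.1, mul_mem z.1.2.1 z.2.2.1⟩
  have hinj : Function.Injective φ := by
    rintro ⟨a, b⟩ ⟨a', b'⟩ h
    have h' : a.1 * b.1 = a'.1 * b'.1 := congrArg Subtype.val h
    have h1 : (m * a'.1 * m⁻¹)⁻¹ * (m * a.1 * m⁻¹) = (m * b'.1 * m⁻¹) * (m * b.1 * m⁻¹)⁻¹ := by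
      rw [show (m * a'.1 * m⁻¹)⁻¹ * (m * a.1 * m⁻¹) = m * (a'.1⁻¹ * (a.1 * b.1) * b.1⁻¹) * m⁻¹ by group, h']
      group
    have h2 := uni_loU_eq_one (mul_mem (inv_mem (hA a')) (hA a)).1 (h1 ▸ mul_mem (hB b') (inv_mem (hB b)))
    have ha : a.1 = a'.1 := (mul_left_cancel (mul_right_cancel (inv_mul_eq_one.1 h2))).symm
    rw [ha] at h'
    exact Prod.ext (Subtype.ext ha) (Subtype.ext (mul_left_cancel h'))
  let e0 : uniU n F ≃ {g : SLn n F // g ∈ uniU n F ∧ ∀ a b, a < b → ¬ True → g.1 a b = 0} :=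
    Equiv.subtypeEquivRight fun g => ⟨fun h => ⟨h, fun _ _ _ h' => absurd trivial h'⟩, fun h => h.1⟩
  have hcard : Nat.card (A × B) = Nat.card (uniU n F) := by
    rw [Nat.card_prod, Nat.card_congr (uniEquiv fun a b => σ a < σ b),
      Nat.card_congr (uniEquiv fun a b => ¬ σ a < σ b), Nat.card_congr (e0.trans (uniEquiv fun _ _ => True)),
      Nat.card_fun, Nat.card_fun, Nat.card_fun, ← pow_add]
    congr 1
    rw [← Nat.card_sum]
    refine (Nat.card_congr ?_).symm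
    exact ((Equiv.sumCompl (fun z : {z : Fin n × Fin n // z.1 < z.2 ∧ True} => σ z.1.1 < σ z.1.2)).symm).trans
      (Equiv.sumCongr
        { toFun := fun z => ⟨z.1.1, z.1.2.1, z.2⟩, invFun := fun z => ⟨⟨z.1, z.2.1, trivial⟩, z.2.2⟩,
          left_inv := fun z => rfl, right_inv := fun z => rfl }
        { toFun := fun z => ⟨z.1.1, z.1.2.1, z.2⟩, invFun := fun z => ⟨⟨z.1, z.2.1, trivial⟩, z.2.2⟩,
          left_inv := fun z => rfl, right_inv := fun z => rfl })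
  obtain ⟨⟨a, b⟩, hab⟩ := ((Nat.bijective_iff_injective_and_card φ).2 ⟨hinj, hcard⟩).2 ⟨g, hg⟩
  exact ⟨a.1, b.1, a.2.1, b.2.1, hA a, hB b, (congrArg Subtype.val hab).symm⟩

/-- `B` is torus times unitriangular -/
theorem exists_torus {g : SLn n F} (hg : g ∈ bSub n F) :
    ∃ t : SLn n F, Mono 1 t.1 ∧ t⁻¹ * g ∈ uniU n F ∧ g * t⁻¹ ∈ uniU n F := by
  have hu : g.1.IsUpperTriangular := hg
  let t : SLn n F := ⟨Matrix.diagonal fun i => g.1 i i, by
    rw [Matrix.det_diagonal, ← Matrix.det_of_upperTriangular hu]; exact g.2⟩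
  have ht : Mono 1 t.1 := fun x y h => by
    by_contra hne
    exact h (Matrix.diagonal_apply_ne _ hne)
  have h2 : (t⁻¹).1.IsUpperTriangular := mono_one_upper (by simpa using ht.inv)
  have e : ∀ i, t.1 i i * (t⁻¹).1 i i = 1 := fun i => ht.inv_apply_mul i
  refine ⟨t, ht, ⟨h2.mul hu, fun i => ?_⟩, ⟨hu.mul h2, fun i => ?_⟩⟩
  · show ((t⁻¹).1 * g.1) i i = 1
    rw [upper_mul_diag h2 hu, mul_comm]
    refine Eq.trans ?_ (e i)
    simp [t]
  · show (g.1 * (t⁻¹).1) i i = 1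
    rw [upper_mul_diag hu h2]
    refine Eq.trans ?_ (e i)
    simp [t]

/-- existence of the refined Bruhat decomposition -/
theorem exists_decomp (g : SLn n F) :
    ∃ (σ : Equiv.Perm (Fin n)) (u m v : SLn n F), u ∈ uniU n F ∧ Mono σ m.1 ∧ v ∈ uniU n F ∧
      m * v * m⁻¹ ∈ loU n F ∧ g = u * m * v := by
  obtain ⟨a, ha, c, ⟨σ, hc⟩, b, hb, rfl⟩ := exists_bnb g
  obtain ⟨s, hs, -, hs2⟩ := exists_torus ha
  obtain ⟨t, ht, ht1, -⟩ := exists_torus hb
  obtain ⟨u₀, hu₀⟩ : ∃ x, a * s⁻¹ = x := ⟨_, rfl⟩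
  obtain ⟨w, hw⟩ : ∃ x, t⁻¹ * b = x := ⟨_, rfl⟩
  rw [hu₀] at hs2
  rw [hw] at ht1
  obtain ⟨m, hm'⟩ : ∃ m, s * c * t = m := ⟨_, rfl⟩
  have hm : Mono σ m.1 := by
    have : Mono (1 * σ * 1) (s.1 * c.1 * t.1) := (hs.mul hc).mul ht
    rw [one_mul, mul_one] at this
    rw [← hm']
    exact this
  obtain ⟨v₁, v₂, -, hv₂, hA, hB, e⟩ := uni_factor hm ht1
  refine ⟨σ, u₀ * (m * v₁ * m⁻¹), m, v₂, mul_mem hs2 hA, hm, hv₂, hB, ?_⟩
  have e2 : a * c * b = u₀ * m * w := by rw [← hu₀, ← hm', ← hw]; group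
  rw [e2, e]; group

end Cfsg.Agent.SLPair
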