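import Cfsg.Agent.Lib.Steinberg.Char
import Cfsg.Agent.Lib.Steinberg.Count

/-!
# The Tits system of a parabolic subgroup
-/

set_option autoImplicit false

namespace Cfsg.Agent.BN

variable {G : Type*} [Group G] (P : Cfsg.BNPair G) (J : Set P.S)

/-- the parabolic subgroup -/
abbrev pJ : Subgroup G := P.parabolic (sJ P J)

theorem closure_le_N : Subgroup.closure (sJ P J) ≤ P.N :=
  (Subgroup.closure_le _).2 ((sJ_subset P J).trans P.subset)

theorem closure_le_pJ : Subgroup.closure (sJ P J) ≤ pJ P J := le_sup_right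

/-- The Tits system of a parabolic subgroup. -/
noncomputable def subPair : Cfsg.BNPair ↥(pJ P J) where
  B := P.B.subgroupOf (pJ P J)
  N := P.N.subgroupOf (pJ P J)
  S := Subtype.val ⁻¹' (sJ P J)
  sup_eq_top := by
    refine Subgroup.map_injective (pJ P J).subtype_injective ?_
    rw [← MonoidHom.range_eq_map, Subgroup.range_subtype, Subgroup.map_sup,
      Subgroup.map_subgroupOf_eq_of_le (B_le_parabolic P _), Subgroup.subgroupOf_map_subtype]
    refine le_antisymm (sup_le (B_le_parabolic P _) inf_le_right)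
      (sup_le le_sup_left (le_sup_of_le_right (le_inf (closure_le_N P J) (closure_le_pJ P J))))
  conj_mem n hn t ht := P.conj_mem (n : G) hn (t : G) ht
  subset x hx := sJ_subset P J hx |> fun h => P.subset h
  sq_mem x hx := P.sq_mem (x : G) (sJ_subset P J hx)
  inj x hx y hy h := Subtype.ext (P.inj (x : G) (sJ_subset P J hx) (y : G) (sJ_subset P J hy) h)
  closure_sup := by
    refine Subgroup.map_injective (pJ P J).subtype_injective ?_
    have himg : (pJ P J).subtype '' (Subtype.val ⁻¹' (sJ P J)) = sJ P J :=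
      Subtype.image_preimage_coe _ _ |>.trans
        (Set.inter_eq_right.2 fun x hx => closure_le_pJ P J (Subgroup.subset_closure hx))
    rw [Subgroup.map_sup, MonoidHom.map_closure, himg,
      Subgroup.map_inf _ _ _ (pJ P J).subtype_injective,
      Subgroup.map_subgroupOf_eq_of_le (B_le_parabolic P _), Subgroup.subgroupOf_map_subtype]
    refine le_antisymm (sup_le (le_inf (closure_le_N P J) (closure_le_pJ P J)) inf_le_right) ?_
    rintro n ⟨hn, hnP⟩
    obtain ⟨m, hm, hmN, -, hd⟩ := parabolic_mem_cell P (sJ_subset P J) hnP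
    have hw : wmk P m hmN = wmk P n hn := by
      refine eq_of_mem_cell P (g := n) ?_ ?_
      · rwa [cell_mk]
      · rw [cell_mk]; exact self_mem_dc P n
    rw [show n = m * (m⁻¹ * n) by group]
    refine mul_mem (Subgroup.mem_sup_left hm) (Subgroup.mem_sup_right ?_)
    exact Subgroup.mem_inf.2 ⟨(wmk_eq_iff P hmN hn).1 hw, Subgroup.mem_inf.2
      ⟨P.N.mul_mem (P.N.inv_mem hmN) hn, (pJ P J).mul_mem ((pJ P J).inv_mem (closure_le_pJ P J hm)) hnP⟩⟩
  mul_mem_union x hx n hn b hb := by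
    rcases P.mul_mem_union (x : G) (sJ_subset P J hx) (n : G) hn (b : G) hb with h | h
    · left
      obtain ⟨a, ha, c, hc, e⟩ := DoubleCoset.mem_doubleCoset.1 h
      exact DoubleCoset.mem_doubleCoset.2 ⟨⟨a, B_le_parabolic P _ ha⟩, ha,
        ⟨c, B_le_parabolic P _ hc⟩, hc, Subtype.ext e⟩
    · right
      obtain ⟨a, ha, c, hc, e⟩ := DoubleCoset.mem_doubleCoset.1 h
      exact DoubleCoset.mem_doubleCoset.2 ⟨⟨a, B_le_parabolic P _ ha⟩, ha,
        ⟨c, B_le_parabolic P _ hc⟩, hc, Subtype.ext e⟩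
  conj_ne x hx h := by
    refine P.conj_ne (x : G) (sJ_subset P J hx) (Set.ext fun y => ?_)
    constructor
    · rintro ⟨b, hb, rfl⟩
      have : x * (⟨b, B_le_parabolic P _ hb⟩ : ↥(pJ P J)) * x ∈
          ((P.B.subgroupOf (pJ P J) : Subgroup ↥(pJ P J)) : Set ↥(pJ P J)) :=
        h ▸ ⟨⟨b, B_le_parabolic P _ hb⟩, hb, rfl⟩
      exact this
    · intro hy
      have : (⟨y, B_le_parabolic P _ hy⟩ : ↥(pJ P J)) ∈
          (fun b => x * b * x) '' ((P.B.subgroupOf (pJ P J) : Subgroup ↥(pJ P J)) : Set ↥(pJ P J)) :=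
        h.symm ▸ hy
      obtain ⟨b, hb, e⟩ := this
      exact ⟨(b : G), hb, congrArg Subtype.val e⟩

theorem sub_parabolic (K : Set P.S) (hK : K ⊆ J) :
    (subPair P J).parabolic (Subtype.val ⁻¹' (sJ P K)) = (pJ P K).subgroupOf (pJ P J) := by
  refine Subgroup.map_injective (pJ P J).subtype_injective ?_
  have hle : pJ P K ≤ pJ P J :=
    sup_le_sup_left (Subgroup.closure_mono (Set.image_mono hK)) _
  have himg : (pJ P J).subtype '' (Subtype.val ⁻¹' (sJ P K)) = sJ P K :=
    Subtype.image_preimage_coe _ _ |>.trans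
      (Set.inter_eq_right.2 fun x hx => hle (subset_parabolic P _ hx))
  show ((P.B.subgroupOf (pJ P J)) ⊔ Subgroup.closure (Subtype.val ⁻¹' (sJ P K))).map _ = _
  rw [Subgroup.map_sup, MonoidHom.map_closure, himg,
    Subgroup.map_subgroupOf_eq_of_le (B_le_parabolic P _), Subgroup.map_subgroupOf_eq_of_le hle]
  rfl

section Value

variable [Fintype P.S] [DecidableEq P.S] [Finite G] (Jf : Finset P.S)

/-- the letters of the parabolic -/
noncomputable def subS : {s : P.S // s ∈ Jf} → (subPair P (↑Jf : Set P.S)).S := fun s =>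
  ⟨⟨(s.1 : G), subset_parabolic P _ ((mem_sJ P).2 (Finset.mem_coe.2 s.2))⟩,
    (mem_sJ P).2 (Finset.mem_coe.2 s.2)⟩

theorem subS_bijective : Function.Bijective (subS P Jf) := by
  constructor
  · intro a b h
    exact Subtype.ext (Subtype.ext (congrArg (fun z => ((z.1 : ↥(pJ P (↑Jf : Set P.S))) : G)) h))
  · rintro ⟨x, hx⟩
    obtain ⟨s, hs, e⟩ := hx
    exact ⟨⟨s, hs⟩, Subtype.ext (Subtype.ext e)⟩

noncomputable instance subFintype : Fintype (subPair P (↑Jf : Set P.S)).S := Fintype.ofFinite _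

theorem altFix_eq (x : ↥(pJ P (↑Jf : Set P.S))) :
    StCount.altFix (fun K : Finset P.S => pJ P (↑K : Set P.S)) Jf x =
      stChar (subPair P (↑Jf : Set P.S)) x := by
  classical
  simp only [StCount.altFix, stChar]
  let e : {s : P.S // s ∈ Jf} ↪ (subPair P (↑Jf : Set P.S)).S := ⟨subS P Jf, (subS_bijective P Jf).1⟩
  have h1 : (Finset.univ : Finset (Finset (subPair P (↑Jf : Set P.S)).S)) =
      (Finset.univ : Finset (Finset {s : P.S // s ∈ Jf})).image (fun K => K.map e) := by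
    ext K
    simp only [Finset.mem_univ, Finset.mem_image, true_and, true_iff]
    refine ⟨K.preimage (subS P Jf) (subS_bijective P Jf).1.injOn, ?_⟩
    ext s
    obtain ⟨i, rfl⟩ := (subS_bijective P Jf).2 s
    simp [e]
  have h2 : Jf.powerset = (Finset.univ : Finset (Finset {s : P.S // s ∈ Jf})).image
      (fun K => K.map (Function.Embedding.subtype _)) := by
    ext K
    simp only [Finset.mem_powerset, Finset.mem_image, Finset.mem_univ, true_and]
    constructor
    · intro h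
      refine ⟨K.subtype _, Finset.subtype_map_of_mem fun s hs => h hs⟩
    · rintro ⟨M, rfl⟩ k hk
      exact Finset.property_of_mem_map_subtype M hk
  rw [h1, h2, Finset.sum_image (fun a _ b _ h => Finset.map_injective _ h),
    Finset.sum_image (fun a _ b _ h => Finset.map_injective _ h)]
  refine Finset.sum_congr rfl fun K _ => ?_
  rw [Finset.card_map, Finset.card_map]
  congr 2
  rw [← sub_parabolic P _ _ (by
    intro s hs
    simp only [Finset.coe_map, Set.mem_image, Function.Embedding.coe_subtype] at hs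
    obtain ⟨t, -, rfl⟩ := hs
    exact t.2)]
  congr 1
  ext z
  simp only [sJ, Set.mem_preimage, Finset.coe_map, Set.mem_image]
  constructor
  · rintro ⟨_, ⟨t, ht, rfl⟩, e'⟩
    exact ⟨_, ⟨t, ht, rfl⟩, Subtype.ext e'⟩
  · rintro ⟨_, ⟨t, ht, rfl⟩, rfl⟩
    exact ⟨_, ⟨t, ht, rfl⟩, rfl⟩

/-- The value of the alternating sum of a parabolic on the Borel subgroup. -/
theorem altFix_borel {n : G} (hn : n ∈ P.N) (hnJ : n ∈ pJ P (↑Jf : Set P.S))
    (htop : ∀ s ∈ Jf, ∃ b ∈ P.B, n * b * (s : G) ∈ dc P n)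
    (H : Subgroup G) (hH : P.B ⊓ P.B.map (MulAut.conj n).toMonoidHom = H)
    (x : ↥(pJ P (↑Jf : Set P.S))) (hx : (x : G) ∈ P.B) :
    ((∀ y ∈ P.B, y⁻¹ * (x : G) * y ∈ H) →
      StCount.altFix (fun K : Finset P.S => pJ P (↑K : Set P.S)) Jf x = (H.relIndex P.B : ℂ)) ∧
    ((∀ y ∈ P.B, y⁻¹ * (x : G) * y ∉ H) →
      StCount.altFix (fun K : Finset P.S => pJ P (↑K : Set P.S)) Jf x = 0) := by
  classical
  have htop' : Top (subPair P (↑Jf : Set P.S)) (wmk (subPair P (↑Jf : Set P.S)) ⟨n, hnJ⟩ hn) := by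
    refine top_of_witness (subPair P (↑Jf : Set P.S)) _ fun s => ?_
    obtain ⟨t, rfl⟩ := (subS_bijective P Jf).2 s
    obtain ⟨b, hb, h⟩ := htop t.1 t.2
    obtain ⟨a, ha, c, hc, e⟩ := DoubleCoset.mem_doubleCoset.1 h
    exact ⟨⟨b, B_le_parabolic P _ hb⟩, hb, DoubleCoset.mem_doubleCoset.2 ⟨⟨a, B_le_parabolic P _ ha⟩, ha,
      ⟨c, B_le_parabolic P _ hc⟩, hc, Subtype.ext e⟩⟩
  have hH' : (subPair P (↑Jf : Set P.S)).B ⊓ (subPair P (↑Jf : Set P.S)).B.map (MulAut.conj (⟨n, hnJ⟩ : ↥(pJ P (↑Jf : Set P.S)))).toMonoidHom = H.subgroupOf (pJ P (↑Jf : Set P.S)) := by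
    ext z
    rw [← hH]
    simp only [Subgroup.mem_inf, Subgroup.mem_subgroupOf, Subgroup.mem_map_equiv,
      MulAut.conj_symm_apply]
    exact Iff.rfl
  have hval : StCount.altFix (fun K : Finset P.S => pJ P (↑K : Set P.S)) Jf x =
      Cfsg.fixedPointCharacter ((H.subgroupOf (pJ P (↑Jf : Set P.S))).subgroupOf (subPair P (↑Jf : Set P.S)).B) ⟨x, hx⟩ := by
    rw [altFix_eq, stChar_borel (subPair P (↑Jf : Set P.S)) htop' (show x ∈ (subPair P (↑Jf : Set P.S)).B from hx), fixCell_eq (subPair P (↑Jf : Set P.S)) (n := ⟨n, hnJ⟩) hn _ hH' ⟨x, hx⟩]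
  rw [hval, Cfsg.fixedPointCharacter]
  have hfix : ∀ y : (subPair P (↑Jf : Set P.S)).B, (⟨x, hx⟩ : (subPair P (↑Jf : Set P.S)).B) • (y : (subPair P (↑Jf : Set P.S)).B ⧸ (H.subgroupOf (pJ P (↑Jf : Set P.S))).subgroupOf (subPair P (↑Jf : Set P.S)).B) = y ↔
      ((y : ↥(pJ P (↑Jf : Set P.S))) : G)⁻¹ * (x : G) * ((y : ↥(pJ P (↑Jf : Set P.S))) : G) ∈ H := by
    intro y
    rw [MulAction.Quotient.smul_coe, smul_eq_mul, QuotientGroup.eq]
    simp only [Subgroup.mem_subgroupOf, Subgroup.coe_mul, Subgroup.coe_inv]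
    rw [show (((x : G)) * ((y : ↥(pJ P (↑Jf : Set P.S))) : G))⁻¹ * ((y : ↥(pJ P (↑Jf : Set P.S))) : G) =
      (((y : ↥(pJ P (↑Jf : Set P.S))) : G)⁻¹ * (x : G) * ((y : ↥(pJ P (↑Jf : Set P.S))) : G))⁻¹ by group, inv_mem_iff]
  constructor
  · intro h
    rw [← Subgroup.relIndex_subgroupOf (K := P.B) (L := (pJ P (↑Jf : Set P.S))) (B_le_parabolic P _), Subgroup.relIndex,
      Subgroup.index, Nat.cast_inj]
    exact Nat.card_congr ((Equiv.setCongr (Set.eq_univ_of_forall fun q => by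
      induction q using QuotientGroup.induction_on with | H y => ?_
      exact (hfix y).2 (h _ y.2))).trans (Equiv.Set.univ _))
  · intro h
    rw [Nat.cast_eq_zero, Nat.card_eq_zero]
    refine Or.inl ⟨fun ⟨q, hq⟩ => ?_⟩
    induction q using QuotientGroup.induction_on with | H y => ?_
    exact h _ y.2 ((hfix y).1 hq)

end Value

end Cfsg.Agent.BN
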