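import Cfsg.Agent.Lib.Steinberg.Chev
import Cfsg.Agent.Lib.Steinberg.Sub
import Cfsg.Agent.Lib.Steinberg.ParabolicLong

/-!
# Steinberg's count of the unipotent elements of a Chevalley group
-/

set_option autoImplicit false

namespace Cfsg.Agent.Chev

open Cfsg.Lie

universe v

namespace Tab

variable {T : Tab} {K : List (List ℕ)} {F : Type v} [Field F]

/-- `⟨U_S, H⟩` for a set of roots -/
noncomputable def sdT (g : T.Good) (F : Type v) [Field F] (S : Set ℕ) : Subgroup (GL T.D.Idx F) :=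
  genS g F S ⊔ T.D.diagonalSubgroup F

theorem mem_sdT (g : T.Good) {S : Set ℕ} (hS : ∀ r ∈ S, r < T.n) {x : GL T.D.Idx F} :
    x ∈ sdT g F S ↔ ∃ u ∈ genS g F S, ∃ c : ℕ → Fˣ, x = u * tor T F c := by
  have hle : T.D.diagonalSubgroup F ≤ Subgroup.normalizer (genS g F S : Set (GL T.D.Idx F)) := by
    rw [diagonalSubgroup_eq g]
    rintro y ⟨c, rfl⟩
    exact tor_normalizes g hS c
  rw [sdT, ← SetLike.mem_coe, Subgroup.coe_mul_of_right_le_normalizer_left _ _ hle, Set.mem_mul,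
    diagonalSubgroup_eq g]
  constructor
  · rintro ⟨u, hu, _, ⟨c, rfl⟩, rfl⟩; exact ⟨u, hu, c, rfl⟩
  · rintro ⟨u, hu, c, rfl⟩; exact ⟨u, hu, _, ⟨c, rfl⟩, rfl⟩

theorem card_sdT (g : T.Good) [Fintype F] {S : Set ℕ} (hS : S ⊆ Set.Ico T.N T.n) :
    Nat.card (sdT g F S) = Nat.card (genS g F S) * Nat.card (T.D.diagonalSubgroup F) := by
  rw [← Nat.card_prod]
  refine (Nat.card_eq_of_bijective (fun z : genS g F S × T.D.diagonalSubgroup F =>
    (⟨(z.1 : GL T.D.Idx F) * z.2, mul_mem (Subgroup.mem_sup_left z.1.2) (Subgroup.mem_sup_right z.2.2)⟩ :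
      sdT g F S)) ⟨?_, ?_⟩).symm
  · rintro ⟨u, h⟩ ⟨u', h'⟩ e
    have e' : (u : GL T.D.Idx F) * h = u' * h' := congrArg Subtype.val e
    have e1 : (u' : GL T.D.Idx F)⁻¹ * u = h' * (h : GL T.D.Idx F)⁻¹ := by
      rw [inv_mul_eq_iff_eq_mul, ← mul_assoc, ← e', mul_inv_cancel_right]
    have h1 := pos_inf_torus g (genS_mono g hS (mul_mem (inv_mem u'.2) u.2))
      (e1 ▸ mul_mem h'.2 (inv_mem h.2))
    rw [inv_mul_eq_one] at h1
    rw [h1, mul_right_inj] at e'
    exact Prod.ext (Subtype.ext h1.symm) (Subtype.ext e')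
  · rintro ⟨x, hx⟩
    obtain ⟨u, hu, c, rfl⟩ := (mem_sdT g (fun r hr => (hS hr).2)).1 hx
    exact ⟨(⟨u, hu⟩, ⟨tor T F c, by rw [diagonalSubgroup_eq g]; exact ⟨c, rfl⟩⟩), rfl⟩

theorem borel_eq_sdT (g : T.Good) : T.D.borelSubgroup F = sdT g F (Set.Ico T.N T.n) := by
  rw [ChevalleyDatum.borelSubgroup, posUnipotent_eq g]; rfl

theorem exists_parabolic_rep (g : T.GoodK K) (J : Set ℕ) :
    ∃ n : GL T.D.Idx F, n ∈ T.D.monomialSubgroup F ∧ n ∈ T.D.parabolicSubgroup F J ∧
      (∀ j < T.l, j ∈ J → ∃ b ∈ T.D.borelSubgroup F, ∃ a ∈ T.D.borelSubgroup F,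
        ∃ c ∈ T.D.borelSubgroup F, n * b * nG g.toGood F j = a * n * c) ∧
      T.D.borelSubgroup F ⊓ (T.D.borelSubgroup F).map (MulAut.conj n).toMonoidHom =
        sdT g.toGood F (T.outJ J) := by
  have hg := g.toGood
  obtain ⟨L, hL, hLJ, hinv⟩ := exists_longestJ g J
  have hnG : ∀ j < T.l, j ∈ J → nG hg F j ∈ T.D.parabolicSubgroup F J := fun j hj hJ =>
    Subgroup.mem_sup_right (Subgroup.subset_closure
      ⟨j, hJ, by rw [hg.rank_eq]; exact hj, by rw [nG_val hg hj, nM]⟩)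
  have hnP : nWd hg F L ∈ T.D.parabolicSubgroup F J := by
    refine Subgroup.list_prod_mem _ fun y hy => ?_
    obtain ⟨i, hi, rfl⟩ := List.mem_map.1 hy
    exact hnG i (hL i hi) (hLJ i hi)
  refine ⟨nWd hg F L, (mem_monomial_iff hg).2 ⟨L, hL, 1, by simp⟩, hnP, ?_, ?_⟩
  · intro i hi hiJ
    have hneg : T.neg (T.smp i) < T.n := neg_lt (hg.smp_lt hi)
    obtain ⟨ε, -, hc⟩ := nWd_conj (F := F) hg hL hneg
    have hpos : T.N ≤ T.rw' L (T.neg (T.smp i)) := by
      rw [rw'_neg hg hL (hg.smp_lt hi)]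
      exact (N_le_neg_iff (rw'_lt hg hL (hg.smp_lt hi))).2
        (hinv _ (smp_mem_inJ hg hi hiJ) (hg.smp_ge hi))
    refine ⟨xg hg (T.smp i) (-1), pos_le_borel hg (hg.smp_ge hi) (hg.smp_lt hi) _,
      xg hg (T.rw' L (T.neg (T.smp i))) ((ε : F) * -1), pos_le_borel hg hpos (rw'_lt hg hL hneg) _,
      xg hg (T.smp i) 1, pos_le_borel hg (hg.smp_ge hi) (hg.smp_lt hi) _, ?_⟩
    rw [← (hc (-1)).1, show nG hg F i = xg hg (T.smp i) 1 * xg hg (T.neg (T.smp i)) (-1) *
      xg hg (T.smp i) 1 from rfl, ← mul_assoc, ← mul_assoc, mul_assoc (nWd hg F L), xg_add,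
      neg_add_cancel, xg_zero, mul_one]
    group
  · set n := nWd hg F L with hn
    have hnorm := Subgroup.mem_normalizer_iff.1 (parabolic_normalizes g J hnP)
    have htorus : ∀ c, n * tor T F c * n⁻¹ ∈ T.D.diagonalSubgroup F := fun c => by
      obtain ⟨e, he⟩ := wSub_conj_torus hg (nWd_mem_wSub hg hL) c
      rw [hn, he, diagonalSubgroup_eq hg]; exact ⟨e, rfl⟩
    apply le_antisymm
    · intro z hz
      rw [Subgroup.mem_inf, Subgroup.mem_map_equiv, MulAut.conj_symm_apply] at hz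
      obtain ⟨hzB, hz'⟩ := hz
      obtain ⟨u, hu, c, hc⟩ := (mem_borel_iff hg).1 hz'
      -- split `u` along `J`
      set S := T.inJ J ∩ Set.Ico T.N T.n with hS
      have hSle : genS hg F S ≤ Subgroup.normalizer (genS hg F (T.outJ J) : Set (GL T.D.Idx F)) :=
        genS_le hg fun r hr t => outJ_normalized_pos g hr.2.1 hr.2.2 t
      have hu' : u ∈ genS hg F (T.outJ J) ⊔ genS hg F S := by
        refine genS_le hg (fun r hr t => ?_) hu
        rcases outJ_or_inJ (J := J) hr.1 hr.2 with h | h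
        · exact Subgroup.mem_sup_left (xg_mem_genS hg h t)
        · exact Subgroup.mem_sup_right (xg_mem_genS hg (Set.mem_inter h hr) t)
      rw [← SetLike.mem_coe, Subgroup.coe_mul_of_right_le_normalizer_left _ _ hSle, Set.mem_mul] at hu'
      obtain ⟨a, ha, b, hb, rfl⟩ := hu'
      have hb' : n * b * n⁻¹ ∈ genS hg F (Set.Iio T.N) := by
        have h' : n * b * n⁻¹ ∈ (genS hg F S).map (MulAut.conj n).toMonoidHom := ⟨b, hb, rfl⟩
        rw [hn, genS_map_nWd hg hL fun r hr => hr.1.1] at h'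
        refine genS_mono hg ?_ h'
        rintro _ ⟨r, hr, rfl⟩
        exact hinv r hr.1 hr.2.1
      have ha' : n * a * n⁻¹ ∈ genS hg F (T.outJ J) := (hnorm a).1 ha
      have ez : z = (n * a * n⁻¹) * (n * b * n⁻¹) * (n * tor T F c * n⁻¹) := by
        rw [show z = n * (n⁻¹ * z * n) * n⁻¹ by group, hc]; group
      have hbB : n * b * n⁻¹ ∈ T.D.borelSubgroup F := by
        rw [show n * b * n⁻¹ = (n * a * n⁻¹)⁻¹ * z * (n * tor T F c * n⁻¹)⁻¹ by rw [ez]; group]
        exact mul_mem (mul_mem (inv_mem (genS_pos_le_borel hg (fun r hr => ⟨hr.1, hr.2.1⟩) ha')) hzB)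
          (inv_mem (Subgroup.mem_sup_right (htorus c)))
      rw [ez, borel_inf_neg hg hbB hb', mul_one]
      exact mul_mem (Subgroup.mem_sup_left ha') (Subgroup.mem_sup_right (htorus c))
    · refine sup_le (fun x hx => ?_) (fun x hx => ?_)
      · refine Subgroup.mem_inf.2 ⟨genS_pos_le_borel hg (fun r hr => ⟨hr.1, hr.2.1⟩) hx, ?_⟩
        rw [Subgroup.mem_map_equiv, MulAut.conj_symm_apply]
        refine genS_pos_le_borel hg (S := T.outJ J) (fun r hr => ⟨hr.1, hr.2.1⟩) ?_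
        refine (hnorm _).2 ?_
        simpa [mul_assoc] using hx
      · refine Subgroup.mem_inf.2 ⟨Subgroup.mem_sup_right hx, ?_⟩
        rw [Subgroup.mem_map_equiv, MulAut.conj_symm_apply]
        rw [diagonalSubgroup_eq hg] at hx
        obtain ⟨c, rfl⟩ := hx
        obtain ⟨e, he⟩ := wSub_conj_torus hg (inv_mem (nWd_mem_wSub hg hL (F := F))) c
        rw [inv_inv] at he
        rw [hn, he]
        exact torus_le_borel hg e

theorem card_unipotent [Fintype F] (g : T.GoodK K) (p : ℕ) [Fact p.Prime] [CharP F p] :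
    Nat.card {x : ↥(T.D.group F) // ∃ k : ℕ, orderOf x = p ^ k} = Fintype.card F ^ (2 * T.N) := by
  classical
  set gA := g.toGoodA with hgA
  have hg := g.toGood
  let P := bnPair gA F
  let idx : Finset P.S → Set ℕ := fun J => {i | ∃ h : i < T.l, sGenBN gA F ⟨i, h⟩ ∈ J}
  let PS : Finset P.S → Subgroup ↥(T.D.group F) := fun J => BN.pJ P (↑J : Set P.S)
  let R : Finset P.S → Subgroup ↥(T.D.group F) := fun J =>
    (genS hg F (T.outJ (idx J))).subgroupOf (T.D.group F)
  let Hs : Finset P.S → Subgroup ↥(T.D.group F) := fun J =>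
    (sdT hg F (T.outJ (idx J))).subgroupOf (T.D.group F)
  let U : Subgroup ↥(T.D.group F) := (T.D.posUnipotent F).subgroupOf (T.D.group F)
  have hPS : ∀ J : Finset P.S, (T.D.parabolicSubgroup F (idx J)).subgroupOf (T.D.group F) = PS J := by
    intro J
    have h := parabolic_eq_bn (F := F) gA {i | sGenBN gA F i ∈ J}
    rw [show sGenBN gA F '' {i | sGenBN gA F i ∈ J} = (↑J : Set P.S) from by
      ext s
      obtain ⟨i, rfl⟩ := (sGen_bijective gA).2 s
      simp [(sGen_bijective gA).1.eq_iff]] at h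
    refine Eq.trans ?_ h
    congr 2
    ext i
    simp only [idx, Set.mem_setOf_eq, Set.mem_image]
    exact ⟨fun ⟨hi, h⟩ => ⟨⟨i, hi⟩, h, rfl⟩, fun ⟨j, hj, e⟩ => e ▸ ⟨j.2, hj⟩⟩
  have hsub : ∀ J, T.outJ J ⊆ Set.Ico T.N T.n := fun J => outJ_pos
  have hBle : ∀ J, P.B ≤ PS J := fun J => BN.B_le_parabolic P _
  have hRU : ∀ J, R J ≤ U := fun J x hx => by
    rw [Subgroup.mem_subgroupOf] at hx ⊢
    rw [posUnipotent_eq hg]
    exact genS_mono hg (hsub _) hx
  have hUB : U ≤ P.B := fun x hx => Subgroup.mem_subgroupOf.2 (Subgroup.mem_sup_left hx)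
  have hUp : ∀ x ∈ U, ∃ k, orderOf x = p ^ k := by
    intro x hx
    obtain ⟨S, hS⟩ := exists_sylow_posU (F := F) gA p
    obtain ⟨k, hk⟩ := IsPGroup.iff_orderOf.1 S.2 ⟨x, hS.symm ▸ hx⟩
    exact ⟨k, (orderOf_injective (S : Subgroup ↥(T.D.group F)).subtype Subtype.val_injective _).trans hk⟩
  -- the cardinalities
  have hQ : ∀ J, Nat.card (R J) * (Hs J).relIndex P.B = Fintype.card F ^ T.N := by
    intro J
    have hleB : Hs J ≤ P.B := fun x hx => by
      rw [Subgroup.mem_subgroupOf] at hx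
      refine Subgroup.mem_subgroupOf.2 ?_
      rw [borel_eq_sdT hg]
      exact (sup_le_sup_right (genS_mono hg (hsub _)) _ : sdT hg F _ ≤ _) hx
    have h := Subgroup.card_mul_index ((Hs J).subgroupOf P.B)
    rw [Nat.card_congr (Subgroup.subgroupOfEquivOfLe hleB).toEquiv] at h
    have e1 : Nat.card (Hs J) = Nat.card (R J) * Nat.card (T.D.diagonalSubgroup F) := by
      have hle : sdT hg F (T.outJ (idx J)) ≤ T.D.group F :=
        sup_le (genS_le hg fun r _ t => xg_mem_group hg r t)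
          ((le_sup_right : T.D.diagonalSubgroup F ≤ T.D.borelSubgroup F).trans (borel_le_group hg))
      show Nat.card ((sdT hg F (T.outJ (idx J))).subgroupOf (T.D.group F)) =
        Nat.card ((genS hg F (T.outJ (idx J))).subgroupOf (T.D.group F)) * _
      rw [Nat.card_congr (Subgroup.subgroupOfEquivOfLe hle).toEquiv,
        card_sdT hg (hsub _), Nat.card_congr (Subgroup.subgroupOfEquivOfLe
          (genS_le hg (S := T.outJ (idx J)) fun r _ t => xg_mem_group hg r t)).toEquiv]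
    have e2 : Nat.card P.B = Fintype.card F ^ T.N * Nat.card (T.D.diagonalSubgroup F) := by
      show Nat.card ((T.D.borelSubgroup F).subgroupOf (T.D.group F)) = _
      rw [Nat.card_congr (Subgroup.subgroupOfEquivOfLe (borel_le_group hg)).toEquiv, borel_eq_sdT hg,
        card_sdT hg subset_rfl, card_pos gA]
    rw [e1, e2] at h
    exact mul_right_cancel₀ (Nat.card_pos (α := T.D.diagonalSubgroup F)).ne' (by rw [← h, Subgroup.relIndex]; ring)
  -- the values
  have hnorm : ∀ J, ∀ x ∈ PS J, ∀ y ∈ R J, x * y * x⁻¹ ∈ R J := by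
    intro J x hx y hy
    rw [← hPS J, Subgroup.mem_subgroupOf] at hx
    rw [Subgroup.mem_subgroupOf] at hy ⊢
    simpa using (Subgroup.mem_normalizer_iff.1 (parabolic_normalizes g (idx J) hx) y).1 hy
  have hval : ∀ J (x : ↥(PS J)), (∃ k, orderOf (x : ↥(T.D.group F)) = p ^ k) →
      StCount.altFix PS J x =
        if (x : ↥(T.D.group F)) ∈ R J then (((Hs J).relIndex P.B : ℕ) : ℂ) else 0 := by
    intro J x hx
    -- move `x` into `U`
    obtain ⟨S, hS⟩ := exists_sylow_posU (F := F) gA p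
    have hUPJ : (S : Subgroup ↥(T.D.group F)) ≤ PS J := hS ▸ (hUB.trans (hBle J))
    obtain ⟨k, hk⟩ := hx
    have hpx : IsPGroup p (Subgroup.zpowers x) := by
      rw [Subgroup.orderOf_coe] at hk
      exact IsPGroup.of_card (n := k) (by rw [Nat.card_zpowers]; exact hk)
    obtain ⟨S', hS'⟩ := hpx.exists_le_sylow
    obtain ⟨y, hy⟩ := MulAction.exists_smul_eq ↥(PS J) S' (S.subtype hUPJ)
    have hyU : ((y * x * y⁻¹ : ↥(PS J)) : ↥(T.D.group F)) ∈ U := by
      have h1 : (y * x * y⁻¹ : ↥(PS J)) ∈ ((y • S' : Sylow p ↥(PS J)) : Subgroup ↥(PS J)) := by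
        rw [Sylow.coe_subgroup_smul]
        exact ⟨x, hS' (Subgroup.mem_zpowers x), rfl⟩
      rw [hy, Sylow.coe_subtype, Subgroup.mem_subgroupOf, hS] at h1
      exact h1
    have hinv : StCount.altFix PS J x = StCount.altFix PS J (y * x * y⁻¹) :=
      (StCount.altFix_conj PS J x y).symm
    have hmem : (x : ↥(T.D.group F)) ∈ R J ↔ ((y * x * y⁻¹ : ↥(PS J)) : ↥(T.D.group F)) ∈ R J := by
      refine ⟨fun h => hnorm J _ y.2 _ h, fun h => ?_⟩
      have := hnorm J _ (y⁻¹).2 _ h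
      simpa [mul_assoc] using this
    rw [hinv]
    simp only [hmem]
    obtain ⟨n, hnN, hnP, htop, hH⟩ := exists_parabolic_rep (F := F) g (idx J)
    let n' : ↥(T.D.group F) := ⟨n, monomial_le_group hg hnN⟩
    have hnJ : n' ∈ PS J := by rw [← hPS J]; exact hnP
    have htop' : ∀ s ∈ J, ∃ b ∈ P.B, n' * b * (s : ↥(T.D.group F)) ∈ BN.dc P n' := by
      intro s hs
      obtain ⟨i, rfl⟩ := (sGen_bijective gA).2 s
      obtain ⟨b, hb, a, ha, c, hc, e⟩ := htop i i.2 ⟨i.2, hs⟩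
      exact ⟨⟨b, borel_le_group hg hb⟩, hb, DoubleCoset.mem_doubleCoset.2
        ⟨⟨a, borel_le_group hg ha⟩, ha, ⟨c, borel_le_group hg hc⟩, hc, Subtype.ext e⟩⟩
    have hH' : P.B ⊓ P.B.map (MulAut.conj n').toMonoidHom = Hs J := by
      ext z
      simp only [Hs, ← hH, Subgroup.mem_inf, Subgroup.mem_subgroupOf, Subgroup.mem_map_equiv,
        MulAut.conj_symm_apply]
      exact Iff.rfl
    obtain ⟨hv1, hv0⟩ := BN.altFix_borel P J (n := n') hnN hnJ htop' _ hH' (y * x * y⁻¹) (hUB hyU)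
    split_ifs with hR
    · refine hv1 fun z hz => ?_
      have := hnorm J z⁻¹ (inv_mem (hBle J hz)) _ hR
      rw [inv_inv] at this
      rw [Subgroup.mem_subgroupOf]
      exact Subgroup.mem_sup_left this
    · refine hv0 fun z hz hzH => hR ?_
      set w : ↥(T.D.group F) := ((y * x * y⁻¹ : ↥(PS J)) : ↥(T.D.group F)) with hw
      rw [Subgroup.mem_subgroupOf, mem_sdT hg fun r hr => hr.2.1] at hzH
      obtain ⟨a, ha, c, hc⟩ := hzH
      simp only [Subgroup.coe_mul, Subgroup.coe_inv] at hc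
      obtain ⟨u, hu, d, hd⟩ := (mem_borel_iff hg).1 (Subgroup.mem_subgroupOf.1 hz)
      have hRm : ∀ q ∈ genS hg F (Set.Ico T.N T.n), ∀ a ∈ genS hg F (T.outJ (idx J)),
          q * a * q⁻¹ ∈ genS hg F (T.outJ (idx J)) := fun q hq a ha =>
        ((Subgroup.mem_normalizer_iff.1 (genS_le hg (fun r hr t =>
          outJ_normalized_pos g (J := idx J) hr.1 hr.2 t) hq)) a).1 ha
      have hTm : ∀ c, ∀ a ∈ genS hg F (T.outJ (idx J)),
          tor T F c * a * (tor T F c)⁻¹ ∈ genS hg F (T.outJ (idx J)) := fun c a ha =>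
        ((Subgroup.mem_normalizer_iff.1 (tor_normalizes hg (fun r hr => hr.2.1) c)) a).1 ha
      have hwU : (w : GL T.D.Idx F) ∈ genS hg F (Set.Ico T.N T.n) := by rw [← posUnipotent_eq hg]; exact hyU
      have hcomm : tor T F d * tor T F c * (tor T F d)⁻¹ = tor T F c := by
        rw [← map_inv, ← map_mul, ← map_mul, mul_comm d c, mul_inv_cancel_right]
      have ew : (w : GL T.D.Idx F) =
          (u * (tor T F d * a * (tor T F d)⁻¹) * u⁻¹) * (u * tor T F c * u⁻¹) := by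
        rw [show (w : GL T.D.Idx F) = (z : GL T.D.Idx F) *
          (((z : GL T.D.Idx F))⁻¹ * (w : GL T.D.Idx F) * (z : GL T.D.Idx F)) * ((z : GL T.D.Idx F))⁻¹ by group,
          hc, hd]
        conv_rhs => rw [← hcomm]
        group
      have h1 := hRm u hu _ (hTm d a ha)
      have h2 : tor T F c = 1 := by
        refine pos_inf_torus hg ?_ (by rw [diagonalSubgroup_eq hg]; exact ⟨c, rfl⟩)
        rw [show tor T F c = u⁻¹ * ((u * (tor T F d * a * (tor T F d)⁻¹) * u⁻¹)⁻¹ *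
          (w : GL T.D.Idx F)) * u by rw [ew]; group]
        exact mul_mem (mul_mem (inv_mem hu) (mul_mem (inv_mem (genS_mono hg (hsub _) h1)) hwU)) hu
      rw [Subgroup.mem_subgroupOf]
      rw [ew, h2, mul_one, mul_inv_cancel, mul_one]
      exact h1
  have hmain := StCount.count PS
    (fun J L hL => sup_le_sup_left (Subgroup.closure_mono (Set.image_mono (Finset.coe_subset.2 hL))) _)
    (fun x => ∃ k, orderOf x = p ^ k)
    (fun x y hx => by
      obtain ⟨k, hk⟩ := hx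
      exact ⟨k, by rw [← hk]; exact orderOf_injective (MulAut.conj y).toMonoidHom (MulAut.conj y).injective x⟩)
    ⟨0, by simp⟩ R (fun J => ((hRU J).trans hUB).trans (hBle J)) (fun J x hx => hUp x (hRU J hx))
    (fun J => (Hs J).relIndex P.B) _ hQ hval Finset.univ
  have htopP : PS Finset.univ = ⊤ := by
    refine eq_top_iff.2 fun x _ => ?_
    obtain ⟨w, hw⟩ := BN.bruhat P x
    refine BN.mem_parabolic_of_cell P ?_ hw
    obtain ⟨l, rfl⟩ := BN.exists_word P w
    exact BN.wp_mem P _ fun s _ => Finset.mem_coe.2 (Finset.mem_univ s)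
  have hR0 : R Finset.univ = ⊥ := by
    have : T.outJ (idx Finset.univ) = ∅ := by
      refine Set.eq_empty_of_forall_notMem fun r hr => ?_
      obtain ⟨-, -, k, hk, hkJ, -⟩ := hr
      exact hkJ ⟨hk, Finset.mem_univ _⟩
    show (genS hg F (T.outJ (idx Finset.univ))).subgroupOf _ = ⊥
    rw [this, Subgroup.eq_bot_iff_forall]
    intro x hx
    have hle : genS hg F (∅ : Set ℕ) ≤ ⊥ := genS_le hg fun r hr => absurd hr (Set.notMem_empty r)
    exact Subtype.ext (Subgroup.mem_bot.1 (hle hx))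
  have hd : (Hs Finset.univ).relIndex P.B = Fintype.card F ^ T.N := by
    have := hQ Finset.univ
    rwa [hR0, Subgroup.card_bot, one_mul] at this
  rw [hd, ← pow_add, ← two_mul] at hmain
  rw [← hmain]
  exact Nat.card_congr ⟨fun x => ⟨x.1, by rw [htopP]; trivial, x.2⟩, fun x => ⟨x.1, x.2.2⟩,
    fun _ => rfl, fun _ => rfl⟩

end Tab

end Cfsg.Agent.Chev
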